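import Mathlib
import Cfsg.Agent.S0243

/-! PSL₂(q) as an alternating group via the projective line (helper6). -/

set_option autoImplicit false

open scoped LinearAlgebra.Projectivization

namespace Cfsg.Agent.H6

variable {F : Type*} [Field F] [Fintype F]

/-- If `PSL₂(F)` has order `n!/2` where `n = |F| + 1`, it is isomorphic to the alternating
group on `n` letters (via the action on the projective line). -/
theorem psl2_equiv_alternating (n : ℕ) (hq : Fintype.card F + 1 = n)
    (hcard : Nat.card (Matrix.ProjectiveSpecialLinearGroup (Fin 2) F) * 2 = n.factorial) :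
    Nonempty (Matrix.ProjectiveSpecialLinearGroup (Fin 2) F ≃* alternatingGroup (Fin n)) := by
  classical
  have hP : Nat.card (ℙ F (Fin 2 → F)) = n := by
    rw [Projectivization.card_of_finrank_two F (Fin 2 → F) (by simp), Nat.card_eq_fintype_card, hq]
  have hfin : Finite (ℙ F (Fin 2 → F)) := Nat.finite_of_card_ne_zero (by rw [hP]; omega)
  let e : ℙ F (Fin 2 → F) ≃ Fin n := Finite.equivFinOfCardEq hP
  let φ : Matrix.ProjectiveSpecialLinearGroup (Fin 2) F →* Equiv.Perm (Fin n) :=
    (e.permCongrHom : Equiv.Perm (ℙ F (Fin 2 → F)) ≃* Equiv.Perm (Fin n)).toMonoidHom.comp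
      Projectivization.PSLAction.toPermHom
  have hφ : Function.Injective φ := by
    intro a b h
    apply Matrix.ProjectiveSpecialLinearGroup.toPermHom_injective
    exact (e.permCongrHom : Equiv.Perm (ℙ F (Fin 2 → F)) ≃* Equiv.Perm (Fin n)).injective h
  have hrange : φ.range = alternatingGroup (Fin n) := by
    apply Equiv.Perm.eq_alternatingGroup_of_index_eq_two
    have h1 : Nat.card φ.range = Nat.card (Matrix.ProjectiveSpecialLinearGroup (Fin 2) F) :=
      (Nat.card_congr (MonoidHom.ofInjective hφ).toEquiv).symm
    have h2 : Nat.card φ.range * φ.range.index = Nat.card (Equiv.Perm (Fin n)) :=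
      Subgroup.card_mul_index _
    have h3 : Nat.card (Equiv.Perm (Fin n)) = n.factorial := by
      rw [Nat.card_eq_fintype_card, Fintype.card_perm, Fintype.card_fin]
    rw [h1, h3, ← hcard] at h2
    have hpos : 0 < Nat.card (Matrix.ProjectiveSpecialLinearGroup (Fin 2) F) := by
      rcases Nat.eq_zero_or_pos (Nat.card (Matrix.ProjectiveSpecialLinearGroup (Fin 2) F)) with h | h
      · rw [h] at hcard
        have := Nat.factorial_pos n
        omega
      · exact h
    exact Nat.eq_of_mul_eq_mul_left hpos h2
  exact ⟨(MonoidHom.ofInjective hφ).trans (MulEquiv.subgroupCongr hrange)⟩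

end Cfsg.Agent.H6
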