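import Mathlib
import Cfsg.Agent.S0242

set_option autoImplicit false

namespace Cfsg.Agent.H6

/-- the 8 matrices of `Q₈ ≤ SL₂(3)` -/
def q8Mat : QuaternionGroup 2 → Matrix (Fin 2) (Fin 2) (ZMod 3)
  | QuaternionGroup.a i => (![!![1,0;0,1], !![0,-1;1,0], !![-1,0;0,-1], !![0,1;-1,0]] : Fin 4 → _) i
  | QuaternionGroup.xa i => (![!![1,1;1,-1], !![1,-1;-1,-1], !![-1,-1;-1,1], !![-1,1;1,1]] : Fin 4 → _) i

lemma q8Mat_mul : ∀ x y : QuaternionGroup 2, q8Mat (x * y) = q8Mat x * q8Mat y := by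
  decide

lemma q8Mat_one : q8Mat 1 = 1 := by decide

lemma q8Mat_det : ∀ x : QuaternionGroup 2,
    q8Mat x 0 0 * q8Mat x 1 1 - q8Mat x 0 1 * q8Mat x 1 0 = 1 := by decide

lemma q8Mat_inj : ∀ x y : QuaternionGroup 2, q8Mat x = q8Mat y → x = y := by decide

lemma q8_pow_four : ∀ x : QuaternionGroup 2, x ^ 4 = 1 := by decide

lemma q8Mat_surj : ∀ a b c d : ZMod 3, a * d - b * c = 1 →
    (!![a, b; c, d] : Matrix (Fin 2) (Fin 2) (ZMod 3)) ^ 4 = 1 → ∃ x, q8Mat x = !![a, b; c, d] := by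
  decide

/-- the embedding `Q₈ → SL₂(3)` -/
def q8Hom : QuaternionGroup 2 →* Matrix.SpecialLinearGroup (Fin 2) (ZMod 3) where
  toFun x := ⟨q8Mat x, by rw [Matrix.det_fin_two]; exact q8Mat_det x⟩
  map_one' := Subtype.ext q8Mat_one
  map_mul' x y := Subtype.ext (q8Mat_mul x y)

lemma q8Hom_injective : Function.Injective q8Hom := by
  intro x y h
  exact q8Mat_inj x y (congrArg Subtype.val h)

lemma mem_range_q8Hom_iff (g : Matrix.SpecialLinearGroup (Fin 2) (ZMod 3)) :
    g ∈ q8Hom.range ↔ g ^ 4 = 1 := by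
  constructor
  · rintro ⟨x, rfl⟩
    rw [← map_pow, q8_pow_four, map_one]
  · intro h
    have h1 : (g.1) ^ 4 = 1 := by
      have := congrArg Subtype.val h
      simpa using this
    have h2 : g.1 = !![g.1 0 0, g.1 0 1; g.1 1 0, g.1 1 1] := Matrix.eta_fin_two g.1
    have h3 : g.1 0 0 * g.1 1 1 - g.1 0 1 * g.1 1 0 = 1 := by
      rw [← Matrix.det_fin_two]; exact g.2
    rw [h2] at h1
    obtain ⟨x, hx⟩ := q8Mat_surj _ _ _ _ h3 h1
    refine ⟨x, Subtype.ext ?_⟩
    rw [h2]
    exact hx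

lemma q8Hom_range_normal : (q8Hom.range).Normal := by
  constructor
  intro n hn g
  rw [mem_range_q8Hom_iff] at hn ⊢
  rw [conj_pow, hn, mul_one, mul_inv_cancel]

lemma card_sl2_zmod3 : Nat.card (Matrix.SpecialLinearGroup (Fin 2) (ZMod 3)) = 24 := by
  have h := Cfsg.Agent.S0242.result (F := ZMod 3) (q := 3) (by simp [ZMod.card]) 2 (by norm_num)
  simp only [Fin.prod_univ_two] at h
  have h' : (3 - 1) * Nat.card (Matrix.SpecialLinearGroup (Fin 2) (ZMod 3)) = 48 := by
    rw [h]; rfl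
  omega

lemma q8Hom_range_index : (q8Hom.range).index = 3 := by
  have h1 := Subgroup.card_mul_index (q8Hom.range)
  have h2 : Nat.card q8Hom.range = 8 := by
    rw [← Nat.card_congr (MonoidHom.ofInjective q8Hom_injective).toEquiv,
      Nat.card_eq_fintype_card, QuaternionGroup.card]
  rw [h2, card_sl2_zmod3] at h1
  omega

/-- `SL₂(3)` has a normal subgroup of index 3 isomorphic to `Q₈`. -/
theorem sl2_three_normal_q8 {F : Type*} [Field F] [Fintype F] (hF : Fintype.card F = 3) :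
    ∃ Q : Subgroup (Matrix.SpecialLinearGroup (Fin 2) F),
      Q.Normal ∧ Q.index = 3 ∧ Nonempty (Q ≃* QuaternionGroup 2) := by
  have : Fact (Nat.Prime 3) := ⟨by norm_num⟩
  let e : ZMod 3 ≃+* F := ZMod.ringEquivOfPrime F (by norm_num) hF
  let E : Matrix.SpecialLinearGroup (Fin 2) (ZMod 3) ≃* Matrix.SpecialLinearGroup (Fin 2) F :=
    { toFun := Matrix.SpecialLinearGroup.map e.toRingHom
      invFun := Matrix.SpecialLinearGroup.map e.symm.toRingHom
      left_inv := by
        intro g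
        ext i j
        simp
      right_inv := by
        intro g
        ext i j
        simp
      map_mul' := fun x y => map_mul _ x y }
  refine ⟨q8Hom.range.map E.toMonoidHom, ?_, ?_, ?_⟩
  · exact Subgroup.Normal.map q8Hom_range_normal _ E.surjective
  · have := Subgroup.index_map_of_bijective (f := E.toMonoidHom) E.bijective q8Hom.range
    rw [this, q8Hom_range_index]
  · exact ⟨((MonoidHom.ofInjective q8Hom_injective).trans (E.subgroupMap q8Hom.range)).symm⟩

end Cfsg.Agent.H6
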