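import Mathlib

/-! Tables for an explicit homomorphism `SL₂(7) → SL₃(2)` with kernel `±1` (helper6).
`tblE` lists the 336 elements of `SL₂(ZMod 7)` (coded as `343a+49b+7c+d`) in breadth-first order
from the generators `!![1,1;0,1]`, `!![1,0;1,1]`; `tblF` lists the images (3×3 matrices over
`ZMod 2`, entry `(i,j)` = bit `3i+j`). -/

set_option autoImplicit false

namespace Cfsg.Agent.H6.L27

def tblE : List ℕ := [
  344, 393, 351, 442, 401, 743, 358, 491, 451, 842, 409, 1135, 758, 1093, 365, 540, 501, 941, 460, 1283, 859, 1242, 417, 1527,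
  1158, 1885, 773, 1828, 1115, 1443, 372, 589, 551, 697, 504, 1088, 953, 1048, 462, 1381, 1302, 1790, 869, 1732, 1260, 1642, 425, 1919,
  1558, 276, 1132, 611, 1874, 234, 739, 162, 1816, 527, 120, 1423, 1793, 379, 638, 601, 796, 555, 1236, 711, 1190, 514, 1578, 1110,
  2031, 972, 1979, 1069, 1491, 471, 1822, 1409, 273, 1279, 663, 1777, 232, 837, 164, 1718, 574, 123, 1619, 2042, 433, 2311, 1958, 725,
  1533, 1452, 274, 1034, 1148, 1395, 616, 2119, 1905, 1753, 231, 935, 754, 897, 165, 1963, 1853, 2340, 537, 1198, 122, 1521, 813, 1780,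
  2143, 386, 644, 895, 606, 1041, 805, 1339, 566, 1432, 1254, 1936, 1876, 1214, 1690, 524, 1725, 1603, 277, 1083, 2016, 237, 166, 628,
  119, 1472, 1941, 480, 2263, 1859, 821, 1388, 1645, 278, 1181, 1298, 1594, 669, 2071, 1806, 1996, 236, 690, 847, 997, 167, 1865, 2289,
  585, 1348, 125, 1374, 915, 2027, 2099, 434, 302, 2309, 1517, 235, 2219, 1564, 570, 1695, 279, 1055, 2177, 1171, 121, 1988, 306, 2113,
  1611, 1894, 1739, 1946, 788, 947, 1685, 769, 1632, 704, 161, 1767, 1834, 2331, 96, 2276, 1222, 124, 1552, 2234, 829, 163, 1506, 2137,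
  92, 987, 657, 1189, 906, 1145, 1629, 1062, 1359, 1546, 1971, 1461, 1230, 675, 1668, 1847, 2215, 1760, 917, 1586, 1502, 275, 1328, 1105,
  2359, 2057, 1903, 2245, 633, 1570, 1010, 1931, 2391, 489, 303, 2260, 1712, 233, 2172, 1416, 2131, 1317, 307, 2064, 1463, 1987, 886, 864,
  1487, 804, 2012, 2286, 95, 2230, 1368, 1402, 2189, 926, 1707, 2092, 91, 301, 2349, 1076, 1803, 1746, 1673, 1602, 2329, 1248, 959, 305,
  2149, 718, 984, 2273, 777, 2367, 1665, 1914, 2399, 97, 732, 1206, 2199, 93, 1330, 1007, 1294, 1483, 1168, 1655, 2167, 2004, 1020, 1441,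
  2194, 681, 304, 2211, 2125, 2085, 1120, 2358, 94, 1023, 2383, 2299, 2046, 2106, 881, 2320, 1357, 978, 1313, 2375, 1273, 2249, 2162, 2078]

def tblF : List ℕ := [
  273, 172, 141, 370, 358, 122, 111, 445, 407, 285, 307, 473, 467, 369, 382, 478, 491, 142, 185, 204, 233, 444, 415, 247,
  206, 167, 156, 421, 396, 477, 499, 207, 241, 359, 348, 98, 116, 474, 459, 123, 103, 339, 330, 470, 482, 206, 249, 419,
  444, 107, 117, 298, 317, 242, 230, 286, 299, 86, 215, 234, 423, 412, 99, 124, 403, 394, 277, 314, 205, 225, 281, 275,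
  425, 421, 239, 213, 103, 92, 465, 474, 305, 318, 181, 158, 125, 87, 143, 177, 303, 107, 117, 467, 458, 302, 285, 470,
  482, 337, 346, 417, 428, 372, 342, 460, 489, 395, 401, 299, 309, 212, 242, 380, 351, 185, 183, 163, 188, 331, 270, 313,
  214, 226, 282, 489, 485, 174, 157, 102, 84, 140, 169, 500, 115, 110, 275, 266, 236, 205, 188, 159, 335, 286, 355, 179,
  305, 318, 233, 229, 183, 142, 239, 213, 428, 397, 468, 498, 442, 431, 226, 244, 481, 492, 177, 190, 106, 125, 410, 348,
  379, 337, 346, 417, 167, 156, 111, 85, 340, 370, 204, 143, 303, 277, 165, 253, 215, 271, 342, 354, 397, 157, 95, 99,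
  375, 334, 93, 190, 380, 351, 396, 425, 187, 395, 401, 461, 250, 459, 426, 266, 281, 486, 94, 84, 114, 492, 171, 181,
  267, 244, 214, 375, 334, 279, 354, 372, 311, 169, 114, 102, 331, 377, 159, 116, 379, 359, 115, 110, 498, 486, 234, 253,
  85, 122, 212, 394, 409, 468, 339, 330, 307, 302, 426, 445, 98, 355, 179, 174, 431, 405, 267, 273, 443, 270, 410, 500,
  345, 481, 230, 225, 501, 165, 140, 271, 298, 317, 369, 382, 161, 161, 407, 123, 106, 314, 494, 163, 92, 94, 250, 254,
  282, 93, 461, 86, 335, 458, 473, 87, 358, 340, 236, 442, 124, 95, 443, 423, 171, 405, 187, 279, 409, 403, 313, 311,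
  485, 460, 501, 478, 377, 499, 494, 172, 254, 158, 415, 491, 309, 141, 419, 229, 477, 465, 345, 249, 247, 241, 207, 412]

end Cfsg.Agent.H6.L27
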