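import Mathlib
import Cfsg.Agent.H6.L27Table
import Cfsg.Agent.H6.SLTransfer
import Cfsg.Agent.H6.SL2Small
import Cfsg.Agent.S0243

/-! `PSL₂(7) ≅ PSL₃(2)` via an explicit table-checked homomorphism (helper6). -/

set_option autoImplicit false

namespace Cfsg.Agent.H6.L27

/-- code of a 2×2 matrix over `ZMod 7` -/
def enc (M : Matrix (Fin 2) (Fin 2) (ZMod 7)) : ℕ :=
  (M 0 0).val * 343 + (M 0 1).val * 49 + (M 1 0).val * 7 + (M 1 1).val

/-- decode a 3×3 matrix over `ZMod 2` -/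
def M3 (n : ℕ) : Matrix (Fin 3) (Fin 3) (ZMod 2) :=
  Matrix.of fun i j => if Nat.testBit n (3 * i.val + j.val) then 1 else 0

/-- index of a matrix in the table -/
def idx (M : Matrix (Fin 2) (Fin 2) (ZMod 7)) : ℕ := tblE.idxOf (enc M)

/-- the table-defined map -/
def f₀ (M : Matrix (Fin 2) (Fin 2) (ZMod 7)) : Matrix (Fin 3) (Fin 3) (ZMod 2) :=
  M3 (tblF.getD (idx M) 0)

def Amat : Matrix (Fin 2) (Fin 2) (ZMod 7) := !![1, 1; 0, 1]
def Bmat : Matrix (Fin 2) (Fin 2) (ZMod 7) := !![1, 0; 1, 1]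
def Ainv : Matrix (Fin 2) (Fin 2) (ZMod 7) := !![1, 6; 0, 1]
def Binv : Matrix (Fin 2) (Fin 2) (ZMod 7) := !![1, 0; 6, 1]

def det3 (A : Matrix (Fin 3) (Fin 3) (ZMod 2)) : ZMod 2 :=
  A 0 0 * A 1 1 * A 2 2 - A 0 0 * A 1 2 * A 2 1
      - A 0 1 * A 1 0 * A 2 2 + A 0 1 * A 1 2 * A 2 0
      + A 0 2 * A 1 0 * A 2 1 - A 0 2 * A 1 1 * A 2 0

set_option maxRecDepth 100000 in
lemma hA : ∀ a b c d : ZMod 7, a * d - b * c = 1 →
    f₀ (Amat * !![a, b; c, d]) = M3 172 * f₀ !![a, b; c, d] := by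
  decide +kernel

set_option maxRecDepth 100000 in
lemma hB : ∀ a b c d : ZMod 7, a * d - b * c = 1 →
    f₀ (Bmat * !![a, b; c, d]) = M3 141 * f₀ !![a, b; c, d] := by
  decide +kernel

set_option maxRecDepth 100000 in
lemma hdesc : ∀ a b c d : ZMod 7, a * d - b * c = 1 →
    idx !![a, b; c, d] = 0 ∨ idx (Ainv * !![a, b; c, d]) < idx !![a, b; c, d] ∨
      idx (Binv * !![a, b; c, d]) < idx !![a, b; c, d] := by
  decide +kernel

set_option maxRecDepth 100000 in
lemma hzero : ∀ a b c d : ZMod 7, a * d - b * c = 1 → idx !![a, b; c, d] = 0 →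
    (a = 1 ∧ b = 0 ∧ c = 0 ∧ d = 1) := by
  decide +kernel

set_option maxRecDepth 100000 in
lemma hdet : ∀ a b c d : ZMod 7, a * d - b * c = 1 → det3 (f₀ !![a, b; c, d]) = 1 := by
  decide +kernel

set_option maxRecDepth 100000 in
lemma hone : f₀ 1 = 1 := by decide +kernel

set_option maxRecDepth 100000 in
lemma hneg : f₀ !![-1, 0; 0, -1] = 1 := by decide +kernel

set_option maxRecDepth 100000 in
lemma hnt : f₀ Amat ≠ 1 := by decide +kernel

lemma hAinv : Amat * Ainv = 1 := by decide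
lemma hBinv : Bmat * Binv = 1 := by decide
lemma detAinv : Ainv.det = 1 := by rw [Matrix.det_fin_two]; decide
lemma detBinv : Binv.det = 1 := by rw [Matrix.det_fin_two]; decide

lemma det_entries (X : Matrix (Fin 2) (Fin 2) (ZMod 7)) (hX : X.det = 1) :
    X 0 0 * X 1 1 - X 0 1 * X 1 0 = 1 := by
  rw [← Matrix.det_fin_two]; exact hX

lemma hA' (X : Matrix (Fin 2) (Fin 2) (ZMod 7)) (hX : X.det = 1) :
    f₀ (Amat * X) = M3 172 * f₀ X := by
  have := hA _ _ _ _ (det_entries X hX)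
  rwa [← Matrix.eta_fin_two X] at this

lemma hB' (X : Matrix (Fin 2) (Fin 2) (ZMod 7)) (hX : X.det = 1) :
    f₀ (Bmat * X) = M3 141 * f₀ X := by
  have := hB _ _ _ _ (det_entries X hX)
  rwa [← Matrix.eta_fin_two X] at this

lemma hdesc' (X : Matrix (Fin 2) (Fin 2) (ZMod 7)) (hX : X.det = 1) :
    idx X = 0 ∨ idx (Ainv * X) < idx X ∨ idx (Binv * X) < idx X := by
  have := hdesc _ _ _ _ (det_entries X hX)
  rwa [← Matrix.eta_fin_two X] at this

lemma hzero' (X : Matrix (Fin 2) (Fin 2) (ZMod 7)) (hX : X.det = 1) (h0 : idx X = 0) :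
    X = 1 := by
  have h1 : idx !![X 0 0, X 0 1; X 1 0, X 1 1] = 0 := by
    rw [← Matrix.eta_fin_two X]; exact h0
  obtain ⟨h00, h01, h10, h11⟩ := hzero _ _ _ _ (det_entries X hX) h1
  rw [Matrix.eta_fin_two X, h00, h01, h10, h11, Matrix.one_fin_two]

lemma hdet' (X : Matrix (Fin 2) (Fin 2) (ZMod 7)) (hX : X.det = 1) : (f₀ X).det = 1 := by
  have := hdet _ _ _ _ (det_entries X hX)
  rw [← Matrix.eta_fin_two X] at this
  rw [Matrix.det_fin_three]
  exact this

/-- multiplicativity of the table map on `SL₂(7)` -/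
theorem f₀_mul (X : Matrix (Fin 2) (Fin 2) (ZMod 7)) (hX : X.det = 1)
    (Y : Matrix (Fin 2) (Fin 2) (ZMod 7)) (hY : Y.det = 1) :
    f₀ (X * Y) = f₀ X * f₀ Y := by
  induction h : idx X using Nat.strong_induction_on generalizing X with
  | _ n ih =>
    rcases hdesc' X hX with h0 | hlt | hlt
    · rw [hzero' X hX h0, Matrix.one_mul, hone, Matrix.one_mul]
    · have hdet1 : (Ainv * X).det = 1 := by rw [Matrix.det_mul, detAinv, hX, mul_one]
      have hX' : X = Amat * (Ainv * X) := by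
        rw [← Matrix.mul_assoc, hAinv, Matrix.one_mul]
      have ih' := ih (idx (Ainv * X)) (h ▸ hlt) (Ainv * X) hdet1 rfl
      have hdet2 : (Ainv * X * Y).det = 1 := by rw [Matrix.det_mul, hdet1, hY, mul_one]
      calc f₀ (X * Y) = f₀ (Amat * (Ainv * X * Y)) := by
            rw [← Matrix.mul_assoc, ← hX']
        _ = M3 172 * f₀ (Ainv * X * Y) := hA' _ hdet2
        _ = M3 172 * (f₀ (Ainv * X) * f₀ Y) := by rw [ih']
        _ = (M3 172 * f₀ (Ainv * X)) * f₀ Y := by rw [Matrix.mul_assoc]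
        _ = f₀ (Amat * (Ainv * X)) * f₀ Y := by rw [hA' _ hdet1]
        _ = f₀ X * f₀ Y := by rw [← hX']
    · have hdet1 : (Binv * X).det = 1 := by rw [Matrix.det_mul, detBinv, hX, mul_one]
      have hX' : X = Bmat * (Binv * X) := by
        rw [← Matrix.mul_assoc, hBinv, Matrix.one_mul]
      have ih' := ih (idx (Binv * X)) (h ▸ hlt) (Binv * X) hdet1 rfl
      have hdet2 : (Binv * X * Y).det = 1 := by rw [Matrix.det_mul, hdet1, hY, mul_one]
      calc f₀ (X * Y) = f₀ (Bmat * (Binv * X * Y)) := by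
            rw [← Matrix.mul_assoc, ← hX']
        _ = M3 141 * f₀ (Binv * X * Y) := hB' _ hdet2
        _ = M3 141 * (f₀ (Binv * X) * f₀ Y) := by rw [ih']
        _ = (M3 141 * f₀ (Binv * X)) * f₀ Y := by rw [Matrix.mul_assoc]
        _ = f₀ (Bmat * (Binv * X)) * f₀ Y := by rw [hB' _ hdet1]
        _ = f₀ X * f₀ Y := by rw [← hX']

/-- the homomorphism `SL₂(7) → SL₃(2)` -/
def hom : Matrix.SpecialLinearGroup (Fin 2) (ZMod 7) →* Matrix.SpecialLinearGroup (Fin 3) (ZMod 2) where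
  toFun g := ⟨f₀ g.1, hdet' g.1 g.2⟩
  map_one' := Subtype.ext hone
  map_mul' g h := Subtype.ext (f₀_mul g.1 g.2 h.1 h.2)

lemma hom_neg_one (g : Matrix.SpecialLinearGroup (Fin 2) (ZMod 7))
    (hg : g.1 = !![-1, 0; 0, -1]) : hom g = 1 := by
  apply Subtype.ext
  change f₀ g.1 = 1
  rw [hg]
  exact hneg

lemma hom_nontrivial : ∃ g : Matrix.SpecialLinearGroup (Fin 2) (ZMod 7), hom g ≠ 1 := by
  refine ⟨⟨Amat, by rw [Matrix.det_fin_two]; decide⟩, ?_⟩
  intro h
  exact hnt (congrArg Subtype.val h)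

lemma sq_one_zmod7 : ∀ r : ZMod 7, r ^ 2 = 1 → r = 1 ∨ r = -1 := by decide

lemma hom_center : Subgroup.center (Matrix.SpecialLinearGroup (Fin 2) (ZMod 7)) ≤ hom.ker := by
  intro g hg
  rw [MonoidHom.mem_ker]
  obtain ⟨r, hr, hr'⟩ := Matrix.SpecialLinearGroup.mem_center_iff.mp hg
  have hr2 : r = 1 ∨ r = -1 := sq_one_zmod7 r (by simpa using hr)
  rcases hr2 with rfl | rfl
  · have : g = 1 := by
      apply Subtype.ext
      rw [← hr']
      simp
    rw [this, map_one]
  · apply hom_neg_one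
    rw [← hr']
    ext i j
    fin_cases i <;> fin_cases j <;> simp

open Matrix in
/-- `PSL₂(7) ≅ PSL₃(2)` -/
theorem psl27_equiv_psl32 {F K : Type*} [Field F] [Fintype F] [Field K] [Fintype K]
    (hF : Fintype.card F = 7) (hK : Fintype.card K = 2) :
    Nonempty (Matrix.ProjectiveSpecialLinearGroup (Fin 2) F ≃*
      Matrix.ProjectiveSpecialLinearGroup (Fin 3) K) := by
  classical
  have : Fact (Nat.Prime 7) := ⟨by norm_num⟩
  have : Fact (Nat.Prime 2) := ⟨by norm_num⟩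
  let eF : ZMod 7 ≃+* F := ZMod.ringEquivOfPrime F (by norm_num) hF
  let eK : ZMod 2 ≃+* K := ZMod.ringEquivOfPrime K (by norm_num) hK
  let ψ₀ : Matrix.SpecialLinearGroup (Fin 2) F →* Matrix.SpecialLinearGroup (Fin 3) K :=
    (slMapEquiv eK).toMonoidHom.comp (hom.comp (slMapEquiv eF).symm.toMonoidHom)
  let ψ : Matrix.SpecialLinearGroup (Fin 2) F →* Matrix.ProjectiveSpecialLinearGroup (Fin 3) K :=
    (QuotientGroup.mk' (Subgroup.center (Matrix.SpecialLinearGroup (Fin 3) K))).comp ψ₀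
  have hs : IsSimpleGroup (Matrix.ProjectiveSpecialLinearGroup (Fin 2) F) := by
    apply Matrix.ProjectiveSpecialLinearGroup.rank_two_simple
    rw [Nat.card_eq_fintype_card, hF]
    norm_num
  have hZ : Subgroup.center (Matrix.SpecialLinearGroup (Fin 3) K) = ⊥ := by
    apply Subgroup.card_eq_one.mp
    rw [H6.card_center_sl hK 3 (by norm_num)]
    rfl
  have hc : Subgroup.center (Matrix.SpecialLinearGroup (Fin 2) F) ≤ ψ.ker := by
    intro g hg
    have h1 : (slMapEquiv eF).symm g ∈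
        Subgroup.center (Matrix.SpecialLinearGroup (Fin 2) (ZMod 7)) := by
      rw [Subgroup.mem_center_iff] at hg ⊢
      intro h
      have h2 := hg (slMapEquiv eF h)
      apply (slMapEquiv eF).injective
      simpa using h2
    have h3 := hom_center h1
    rw [MonoidHom.mem_ker] at h3 ⊢
    change (QuotientGroup.mk' _) (slMapEquiv eK (hom ((slMapEquiv eF).symm g))) = 1
    rw [h3, map_one, map_one]
  have hnt : ∃ g, ψ g ≠ 1 := by
    obtain ⟨g₀, hg₀⟩ := hom_nontrivial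
    refine ⟨slMapEquiv eF g₀, ?_⟩
    intro h
    change (QuotientGroup.mk' _) (slMapEquiv eK (hom ((slMapEquiv eF).symm (slMapEquiv eF g₀)))) = 1
      at h
    rw [MulEquiv.symm_apply_apply, QuotientGroup.mk'_apply, QuotientGroup.eq_one_iff, hZ,
      Subgroup.mem_bot] at h
    apply hg₀
    apply (slMapEquiv eK).injective
    rw [h, map_one]
  have hinj := lift_center_injective ψ hc hnt
  have hcardF : Nat.card (Matrix.ProjectiveSpecialLinearGroup (Fin 2) F) = 168 := by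
    have h := Cfsg.Agent.S0243.result hF 2 (le_refl 2)
    simp only [Fin.prod_univ_two] at h
    have h2 : Nat.gcd 2 (7 - 1) * ((7 - 1) *
        Nat.card (Matrix.ProjectiveSpecialLinearGroup (Fin 2) F)) = 2016 := by
      rw [h]; rfl
    have h3 : Nat.gcd 2 (7 - 1) = 2 := by decide
    rw [h3] at h2
    omega
  have hcardK : Nat.card (Matrix.ProjectiveSpecialLinearGroup (Fin 3) K) = 168 := by
    have h := Cfsg.Agent.S0243.result hK 3 (by norm_num)
    simp only [Fin.prod_univ_three] at h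
    have h2 : Nat.gcd 3 (2 - 1) * ((2 - 1) *
        Nat.card (Matrix.ProjectiveSpecialLinearGroup (Fin 3) K)) = 168 := by
      rw [h]; rfl
    have h3 : Nat.gcd 3 (2 - 1) = 1 := by decide
    rw [h3] at h2
    omega
  exact nonempty_mulEquiv_of_injective_of_card _ hinj (by rw [hcardF, hcardK])

end Cfsg.Agent.H6.L27
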