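import Mathlib
import Cfsg.Agent.H6.SLGen

/-! Simplicity of PSL_n(F), n ≥ 3, via the Iwasawa criterion (helper6). -/

set_option autoImplicit false

open Matrix Matrix.SpecialLinearGroup
open scoped LinearAlgebra.Projectivization

namespace Cfsg.Agent.H6

variable {F : Type*} [Field F] {ι : Type*} [DecidableEq ι] [Fintype ι]

lemma iSup_lineStab_eq_top [Nontrivial ι] :
    (⨆ p : ℙ F (ι → F), lineStab (F := F) (ι := ι) p.submodule) = (⊤ : Subgroup (SpecialLinearGroup ι F)) := by
  refine le_antisymm le_top (fun M _ => ?_)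
  refine sl_transvection_induction (fun M => M ∈ ⨆ p : ℙ F (ι → F), lineStab (F := F) (ι := ι) p.submodule)
    ?_ (fun _ _ => mul_mem) M
  intro i j hij a
  have h := SL2Gen.transvection_mem_lineStab (F := F) hij a
  rw [← Projectivization.submodule_mk (K := F) _ (Pi.single_ne_zero_iff.2 (one_ne_zero : (1 : F) ≠ 0))] at h
  exact Subgroup.mem_iSup_of_mem _ h

lemma iSup_iwasawaT_eq_top [Nontrivial ι] :
    iSup (PSL.iwasawaT (F := F) (ι := ι)) = ⊤ := by
  have step1 : iSup (PSL.iwasawaT (F := F) (ι := ι)) =
      Subgroup.map (QuotientGroup.mk' (Subgroup.center (Matrix.SpecialLinearGroup ι F)))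
        (⨆ p : ℙ F (ι → F),
          Matrix.SpecialLinearGroup.lineStab (F := F) (ι := ι) p.submodule) := by
    rw [Subgroup.map_iSup]
  rw [step1, iSup_lineStab_eq_top]
  exact Subgroup.map_top_of_surjective _ (QuotientGroup.mk'_surjective _)

/-- The Iwasawa structure on `PSL ι F`. -/
noncomputable def pslIwasawa [Nontrivial ι] :
    MulAction.IwasawaStructure (Matrix.ProjectiveSpecialLinearGroup ι F) (ℙ F (ι → F)) where
  T := PSL.iwasawaT
  is_comm p := by
    have hSL : IsMulCommutative (lineStab (F := F) (ι := ι) p.submodule) := by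
      rw [← Projectivization.mk_rep p, Projectivization.submodule_mk]
      exact lineStab_isMulCommutative_of_span p.rep p.rep_nonzero
    exact Subgroup.map_isMulCommutative _ _
  is_conj g p := by
    obtain ⟨g_SL, rfl⟩ := QuotientGroup.mk_surjective g
    rw [Matrix.ProjectiveSpecialLinearGroup.smul_proj_mk]
    change Subgroup.map _ _ = _
    rw [PSL.smul_submodule, Matrix.SpecialLinearGroup.lineStab_smul,
      PSL.iwasawaT_map_conj]
  is_generator := iSup_iwasawaT_eq_top

theorem psl_isSimpleGroup (n : ℕ) (hn : 3 ≤ n) :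
    IsSimpleGroup (Matrix.ProjectiveSpecialLinearGroup (Fin n) F) := by
  have hnt : Nontrivial (Fin n) := Fin.nontrivial_iff_two_le.mpr (by omega)
  have h1 : Group.IsPerfect (Matrix.SpecialLinearGroup (Fin n) F) := ⟨commutator_sl_eq_top n hn⟩
  have h2 : Group.IsPerfect (Matrix.ProjectiveSpecialLinearGroup (Fin n) F) := inferInstance
  exact MulAction.IwasawaStructure.isSimpleGroup h2.commutator_eq_top pslIwasawa inferInstance

end Cfsg.Agent.H6
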