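import Cfsg.Agent.H33.LMcLSimple
import Cfsg.Agent.H33.LMcL

/-!
# The McLaughlin group on the table of 275 vectors: first definitions for S2073 (helper6)

`McLstd` is the joint stabiliser of `a48` and `b48`; it permutes the 275 table vectors
`vec (fldW 192 L275E j)`. The `St*` propositions are pieces of the team project.
-/

set_option autoImplicit false

namespace Cfsg.Agent.H6.McL

open Cfsg Cfsg.Agent.H9 Cfsg.Agent.H93 Cfsg.Agent.H33

/-- the standard copy of the McLaughlin group: the stabiliser of `a48` and `b48` -/
abbrev McLstd : Subgroup ↥Co0 := MulAction.stabilizer ↥Co0 a48 ⊓ MulAction.stabilizer ↥Co0 b48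

/-- the lattice automorphism `g` acts on the table of 275 vectors as the permutation `p` -/
def ActsAs (g : ↥Co0) (p : Equiv.Perm (Fin 275)) : Prop :=
  ∀ (j : Fin 275) (v : leechLattice), (v : GolayPt → ℤ) = vec (fldW 192 L275E j.val) →
    ((g • v : leechLattice) : GolayPt → ℤ) = vec (fldW 192 L275E (p j).val)

/-- piece MCL-ISO: the group of the definitions is isomorphic to the standard copy -/
def StIso : Prop := Nonempty (↥Cfsg.Spor.McL ≃* ↥McLstd)

/-- piece MCL-SIMPLE: the standard copy is simple of order 898128000 -/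
def StSimple : Prop := IsSimpleGroup ↥McLstd ∧ Nat.card ↥McLstd = 898128000

/-- piece MCL-RHO: the action of the standard copy on the table, as a homomorphism -/
def StRho : Prop := ∃ ρ : ↥McLstd →* Equiv.Perm (Fin 275),
  (∀ g : ↥McLstd, ActsAs g.1 (ρ g)) ∧
    ∀ (g : ↥McLstd) (p : Equiv.Perm (Fin 275)), ActsAs g.1 p → ρ g = p

end Cfsg.Agent.H6.McL
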