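import Cfsg.Agent.H6.J3OChk
import Cfsg.Agent.H10.J3Thm
import Cfsg.Agent.H27.J3Invol
import Cfsg.Agent.H27.J3Out2
import Cfsg.Prelude.Def_KGroupFacts

/-!
The outer automorphism group of `J₃` has order 2.

An automorphism fixing the element `x` of order 19 sends the involution `y` to an involution; all
involutions are the shifts by powers of `x` of 1377 representatives (Sylow plus a closure
certificate), and all representatives but `y` are refuted by the orders of words. The outer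
automorphism is entrywise Frobenius followed by conjugation by a permutation matrix.
-/

set_option autoImplicit false
set_option linter.unusedSectionVars false

namespace Cfsg.Agent.H6.J3O

open Cfsg.Agent.H10.F4 Cfsg.Agent.H10.J3 Cfsg.Spor
open scoped MatrixGroups
open Matrix

/-! ### Words -/

/-- the word `x ^ a₁ t x ^ a₂ t …` -/
def wordG {M : Type*} [Monoid M] (x t : M) (l : List ℕ) : M :=
  l.foldr (fun a acc => x ^ a * t * acc) 1

theorem wordG_cons {M : Type*} [Monoid M] (x t : M) (a : ℕ) (l : List ℕ) :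
    wordG x t (a :: l) = x ^ a * t * wordG x t l := rfl

theorem map_wordG {M N Fn : Type*} [Monoid M] [Monoid N] [FunLike Fn M N] [MonoidHomClass Fn M N]
    (f : Fn) (x t : M) (l : List ℕ) : f (wordG x t l) = wordG (f x) (f t) l := by
  induction l with
  | nil => exact map_one f
  | cons a l ih => rw [wordG_cons, wordG_cons, map_mul, map_mul, map_pow, ih]

theorem wordG_mem {M : Type*} [Group M] (K : Subgroup M) {x t : M} (hx : x ∈ K) (ht : t ∈ K)
    (l : List ℕ) : wordG x t l ∈ K := by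
  induction l with
  | nil => exact K.one_mem
  | cons a l ih => exact K.mul_mem (K.mul_mem (K.pow_mem hx a) ht) ih

theorem wordC_cons (t : Nat) (a : ℕ) (l : List ℕ) :
    wordC t (a :: l) = mulP (mulP (XP (a % 19)) t) (wordC t l) := rfl

/-! ### Unpacking the checks -/

theorem fld_le (x off mask : Nat) : fld x off mask ≤ mask := Nat.and_le_right

theorem codeOf_codeOf (x : Nat) : codeOf (codeOf x) = codeOf x := by
  rw [codeOf_eq, codeOf_eq, Nat.mod_mod]

theorem codeOf_cP (m : Nat) : codeOf (cP m) = cP m := codeOf_codeOf _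

theorem chkS_sound (j : Nat) (hj : j < 1377) (i : Nat) (hi : i < 19) :
    Rci i j < 19 ∧ Rcj i j < 1377 ∧
      mulP (mulP cX' (conjC i j)) cXpi = conjC (Rci i j) (Rcj i j) := by
  have h1 := allFrom_sound _ _ _ (chkS_all j hj) i (by omega) (by omega)
  simp only [chkS1, Bool.and_eq_true, Nat.blt_eq, Nat.beq_eq] at h1
  exact ⟨h1.1.1, h1.1.2, h1.2⟩

theorem chkP_sound (m : Nat) (hm : m < 128) :
    (∀ m', m' < 128 → mulP (cP m) (cP m') = cP (Pm m m')) ∧
    mulP (cP m) (cP (Piv m)) = ONE ∧ mulP (cP (Piv m)) (cP m) = ONE ∧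
    (m + 1 ≠ 128 → cP m < cP (m + 1)) ∧
    Psi m < 23256 ∧ Pse m < 6480 ∧ mulP (Tc tT (Psi m)) (Ec tE (Pse m)) = cP m ∧
    (codeOf (mulP (cP m) (cP m)) = ONE → cP m ≠ ONE →
      Pci m < 19 ∧ Pcj m < 1377 ∧ cP m = conjC (Pci m) (Pcj m)) := by
  have hc := chkP_all m hm
  simp only [chkP, Bool.and_eq_true, Bool.or_eq_true, Nat.blt_eq, Nat.beq_eq] at hc
  obtain ⟨⟨⟨⟨⟨⟨⟨h1, h2⟩, h3⟩, h4⟩, h5⟩, h6⟩, h7⟩, h8⟩ := hc
  refine ⟨fun m' hm' => ?_, h2, h3, fun hne => ?_, h5, h6, h7, fun e1 e2 => ?_⟩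
  · have := allFrom_sound _ _ _ h1 m' (by omega) (by omega)
    exact Nat.eq_of_beq_eq_true this
  · rcases h4 with h4 | h4
    · exact absurd h4 hne
    · exact h4
  · rcases h8 with (h8 | h8) | h8
    · rw [Bool.not_eq_true'] at h8
      exact absurd e1 (Nat.ne_of_beq_eq_false h8)
    · exact absurd h8 e2
    · exact ⟨h8.1.1, h8.1.2, h8.2⟩

section

variable {F : Type*} [Field F] [Finite F] {ω : F} (h : IsF4 F ω)

/-! ### Codes of inverses and of powers of `x` -/

theorem rep_inv (h : IsF4 F ω) {g : GL F9 F} {P Q : Nat} (hg : Rep ω g P) (e : mulP P Q = ONE) :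
    Rep ω g⁻¹ Q := by
  have := Rep.cancel_left h hg (Rep.one (ω := ω)) e.symm
  rwa [mul_one] at this

theorem rep_XP (a : ℕ) : Rep ω (gX h ^ a) (XP (a % 19)) := by
  have h1 : gX h ^ a = gX h ^ (a % 19) := pow_eq_pow_mod a (gX_pow h)
  have h2 := Rep.pow h (rep_gX h) (a % 19)
  rw [XP_pow ⟨a % 19, Nat.mod_lt _ (by norm_num)⟩] at h2
  rw [h1]
  exact h2

theorem rep_XPi (a : ℕ) : Rep ω (gX h ^ a)⁻¹ (XPi (a % 19)) :=
  rep_inv h (rep_XP h a) (XPi_inv ⟨a % 19, Nat.mod_lt _ (by norm_num)⟩)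

theorem rep_wordG {t : GL F9 F} {T : Nat} (ht : Rep ω t T) (l : List ℕ) :
    Rep ω (wordG (gX h) t l) (wordC T l) := by
  induction l with
  | nil => exact Rep.one
  | cons a l ih =>
    rw [wordG_cons, wordC_cons]
    exact Rep.mul h (Rep.mul h (rep_XP h a) ht) ih

/-! ### The Sylow 2-subgroup -/

/-- a Sylow 2-subgroup -/
def P2 : Subgroup (GL F9 F) where
  carrier := {g | ∃ m, m < 128 ∧ Rep ω g (cP m)}
  mul_mem' := by
    rintro a b ⟨m, hm, ha⟩ ⟨m', hm', hb⟩
    have hc := (chkP_sound m hm).1 m' hm'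
    refine ⟨Pm m m', Nat.lt_succ_of_le (fld_le _ _ _), ?_⟩
    rw [← hc]
    exact Rep.mul h ha hb
  one_mem' := ⟨p1, by decide, by rw [cP_one]; exact Rep.one⟩
  inv_mem' := by
    rintro a ⟨m, hm, ha⟩
    exact ⟨Piv m, Nat.lt_succ_of_le (fld_le _ _ _), rep_inv h ha (chkP_sound m hm).2.1⟩

theorem P2_le : P2 h ≤ G h := by
  rintro g ⟨m, hm, hg⟩
  obtain ⟨-, -, -, -, h5, h6, h7, -⟩ := chkP_sound m hm
  exact gen_mem_G h g (cP m) (Psi m, Pse m) hg h5 h6 h7

theorem P2_card : Nat.card (P2 h) = 2 ^ 7 := by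
  have key : ∀ m : Fin 128, ∃ g : GL F9 F, Rep ω g (cP m) := fun m =>
    ⟨mkGL h (cP m) (cP (Piv m)) (chkP_sound m m.2).2.1 (chkP_sound m m.2).2.2.1,
      rep_mkGL h _ _ _ _⟩
  let f : Fin 128 → P2 h := fun m =>
    ⟨Classical.choose (key m), m, m.2, Classical.choose_spec (key m)⟩
  have hf : Function.Bijective f := by
    constructor
    · intro m m' e
      have e1 : Classical.choose (key m) = Classical.choose (key m') := congrArg Subtype.val e
      have h1 := Classical.choose_spec (key m)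
      rw [e1] at h1
      have h2 := Rep.inj h h1 (Classical.choose_spec (key m'))
      rw [codeOf_cP, codeOf_cP] at h2
      exact Fin.ext (inj_of_succ_lt cP 128
        (fun e he => (chkP_sound e (by omega)).2.2.2.1 (by omega)) m m' m.2 m'.2 h2)
    · rintro ⟨g, m, hm, hg⟩
      exact ⟨⟨m, hm⟩, Subtype.ext (Rep.unique (Classical.choose_spec (key ⟨m, hm⟩)) hg)⟩
  rw [← Nat.card_congr (Equiv.ofBijective f hf), Nat.card_fin]
  norm_num

/-! ### The set of involutions -/

/-- the shifts of the representatives -/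
def SS : Set (GL F9 F) :=
  {g | ∃ i j : ℕ, j < 1377 ∧ (g : Matrix F9 F9 F) =
    ((gX h ^ i : GL F9 F) : Matrix F9 F9 F) * msem9 ω (cR j) *
      (((gX h ^ i)⁻¹ : GL F9 F) : Matrix F9 F9 F)}

theorem msem9_conjC (i j : ℕ) : msem9 ω (conjC (i % 19) j) =
    ((gX h ^ i : GL F9 F) : Matrix F9 F9 F) * msem9 ω (cR j) *
      (((gX h ^ i)⁻¹ : GL F9 F) : Matrix F9 F9 F) := by
  have e1 : ((gX h ^ i : GL F9 F) : Matrix F9 F9 F) = msem9 ω (XP (i % 19)) := rep_XP h i
  have e2 : (((gX h ^ i)⁻¹ : GL F9 F) : Matrix F9 F9 F) = msem9 ω (XPi (i % 19)) := rep_XPi h i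
  rw [e1, e2, conjC, msem9_mul h, msem9_mul h]

theorem mem_SS_of_rep {g : GL F9 F} {i j : ℕ} (hi : i < 19) (hj : j < 1377)
    (hg : Rep ω g (conjC i j)) : g ∈ SS h := by
  refine ⟨i, j, hj, ?_⟩
  have := msem9_conjC h i j
  rw [Nat.mod_eq_of_lt hi] at this
  rw [← this]
  exact hg

theorem rep_of_mem_SS {g : GL F9 F} (hg : g ∈ SS h) :
    ∃ i j, i < 19 ∧ j < 1377 ∧ Rep ω g (conjC i j) := by
  obtain ⟨i, j, hj, e⟩ := hg
  refine ⟨i % 19, j, Nat.mod_lt _ (by norm_num), hj, ?_⟩
  unfold Cfsg.Agent.H10.J3.Rep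
  rw [e, msem9_conjC h i j]

theorem SS_conj : ∀ s ∈ SS h, ∀ g ∈ ({gX h, gX' h} : Set (GL F9 F)), g * s * g⁻¹ ∈ SS h := by
  rintro s hs g (rfl | rfl)
  · obtain ⟨i, j, hj, e⟩ := hs
    refine ⟨i + 1, j, hj, ?_⟩
    rw [Units.val_mul, Units.val_mul, e, pow_succ', _root_.mul_inv_rev, Units.val_mul, Units.val_mul]
    simp only [mul_assoc]
  · obtain ⟨i, j, hi, hj, hr⟩ := rep_of_mem_SS h hs
    have hc := chkS_sound j hj i hi
    refine mem_SS_of_rep h hc.1 hc.2.1 ?_
    rw [← hc.2.2]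
    exact Rep.mul h (Rep.mul h (rep_gX' h) hr) (rep_inv h (rep_gX' h) cXpi_inv)

theorem P2_invol : ∀ t ∈ P2 h, t ^ 2 = 1 → t ≠ 1 → t ∈ SS h := by
  rintro t ⟨m, hm, ht⟩ h2 h1
  obtain ⟨-, -, -, -, -, -, -, h8⟩ := chkP_sound m hm
  have e1 : codeOf (mulP (cP m) (cP m)) = ONE := by
    have h3 : Rep ω (t * t) ONE := by rw [← sq, h2]; exact Rep.one
    have := Rep.inj h (Rep.mul h ht ht) h3
    rw [this, codeOf_ONE]
  have e2 : cP m ≠ ONE := by
    intro e
    rw [e] at ht
    exact h1 (Rep.unique ht Rep.one)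
  obtain ⟨a, b, c⟩ := h8 e1 e2
  exact mem_SS_of_rep h a b (by rw [← c]; exact ht)

theorem G_finite : Finite (G h) := Nat.finite_of_card_ne_zero (by rw [G_card]; norm_num)

theorem invol_G : ∀ t ∈ G h, t ^ 2 = 1 → t ≠ 1 → t ∈ SS h := by
  have := G_finite h
  exact Cfsg.Agent.H27.J3Out.invol_mem_of_sylow (G h) (P2 h) (SS h) {gX h, gX' h} 7 (P2_le h)
    (P2_card h) (by rw [G_card]; norm_num) rfl (SS_conj h) (P2_invol h)

/-! ### Elements of the group and the quotient -/

theorem coe_wordG {M : Type*} [Group M] (K : Subgroup M) (x t : K) (l : List ℕ) :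
    ((wordG x t l : K) : M) = wordG (x : M) (t : M) l := map_wordG K.subtype x t l

/-- the element `x` of order 19 -/
def xh : G h := ⟨gX h, gX_mem h⟩

/-- the involution `y` -/
noncomputable def yG : GL F9 F := mkGL h cY cY cY_sq cY_sq

theorem rep_yG : Rep ω (yG h) cY := rep_mkGL h _ _ _ _

theorem yG_mem : yG h ∈ G h :=
  gen_mem_G h _ cY sY (rep_yG h) cY_sift.1 cY_sift.2.1 cY_sift.2.2

/-- the involution `y` in the group -/
noncomputable def yh : G h := ⟨yG h, yG_mem h⟩

/-- an element normalising the group generated by `x` -/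
noncomputable def nG : GL F9 F := mkGL h cN cNi cN_inv.1 cN_inv.2

theorem rep_nG : Rep ω (nG h) cN := rep_mkGL h _ _ _ _

theorem nG_mem : nG h ∈ G h :=
  gen_mem_G h _ cN sN (rep_nG h) cN_sift.1 cN_sift.2.1 cN_sift.2.2

/-- the normalising element in the group -/
noncomputable def nh : G h := ⟨nG h, nG_mem h⟩

/-- an element conjugating the inverse of `x` to its twisted image -/
noncomputable def cG : GL F9 F := mkGL h cC0 cC0i cC0_inv.1 cC0_inv.2

theorem rep_cG : Rep ω (cG h) cC0 := rep_mkGL h _ _ _ _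

theorem cG_mem : cG h ∈ G h :=
  gen_mem_G h _ cC0 sC0 (rep_cG h) cC0_sift.1 cC0_sift.2.1 cC0_sift.2.2

/-- the conjugating element in the group -/
noncomputable def ch : G h := ⟨cG h, cG_mem h⟩

/-- the quotient map onto `J₃` -/
def pi : G h →* G h ⧸ Subgroup.center (G h) := QuotientGroup.mk' _

theorem pi_surj : Function.Surjective (pi h) := QuotientGroup.mk'_surjective _

theorem pi_eq_one_iff (g : G h) {P : Nat} (hg : Rep ω (g : GL F9 F) P) :
    pi h g = 1 ↔ isScal P = true := by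
  have hmem : pi h g = 1 ↔ g ∈ (Subgroup.center (G h) : Set (G h)) := by
    show (g : G h ⧸ Subgroup.center (G h)) = 1 ↔ _
    rw [QuotientGroup.eq_one_iff]
    rfl
  rw [hmem, center_set]
  simp only [Set.mem_insert_iff, Set.mem_singleton_iff, isScal, Bool.or_eq_true, Nat.beq_eq]
  constructor
  · rintro (e | e | e)
    · left; left
      have h1 : Rep ω (1 : GL F9 F) P := by rw [e] at hg; exact hg
      rw [Rep.inj h h1 Rep.one, codeOf_ONE]
    · left; right
      have h1 : Rep ω (Eg h 4981) P := by rw [e] at hg; exact hg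
      rw [Rep.inj h h1 (Eg_rep h 4981 (by norm_num)), codeOf_Ec, scalW.1]
    · right
      have h1 : Rep ω (Eg h 5102) P := by rw [e] at hg; exact hg
      rw [Rep.inj h h1 (Eg_rep h 5102 (by norm_num)), codeOf_Ec, scalW.2]
  · rintro ((e | e) | e)
    · left
      exact Subtype.ext (Rep.unique hg.codeOf (by rw [e]; exact Rep.one))
    · right; left
      exact Subtype.ext (Rep.unique hg.codeOf
        (by rw [e, ← scalW.1]; exact Eg_rep h 4981 (by norm_num)))
    · right; right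
      exact Subtype.ext (Rep.unique hg.codeOf
        (by rw [e, ← scalW.2]; exact Eg_rep h 5102 (by norm_num)))

theorem xh_pow : xh h ^ 19 = 1 := Subtype.ext (gX_pow h)

theorem pi_x_order : orderOf (pi h (xh h)) = 19 := by
  have : Fact (Nat.Prime 19) := ⟨by norm_num⟩
  refine orderOf_eq_prime ?_ ?_
  · rw [← map_pow, xh_pow, map_one]
  · intro e
    have := (pi_eq_one_iff h (xh h) (rep_gX h)).mp e
    rw [cX_ne] at this
    exact Bool.false_ne_true this

theorem gX'_word : gX' h = wordG (gX h) (yG h) [3, 8, 17] * gX h ^ 18 := by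
  refine Rep.unique (rep_gX' h) ?_
  rw [← gen_word]
  exact Rep.mul h (rep_wordG h (rep_yG h) _) (rep_XP h 18)

theorem gen_J : Subgroup.closure
    ({pi h (xh h), pi h (yh h)} : Set (G h ⧸ Subgroup.center (G h))) = ⊤ := by
  rw [eq_top_iff]
  rintro q -
  obtain ⟨g, rfl⟩ := pi_surj h q
  have hx : pi h (xh h) ∈ Subgroup.closure
      ({pi h (xh h), pi h (yh h)} : Set (G h ⧸ Subgroup.center (G h))) :=
    Subgroup.subset_closure (Set.mem_insert _ _)
  have hy : pi h (yh h) ∈ Subgroup.closure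
      ({pi h (xh h), pi h (yh h)} : Set (G h ⧸ Subgroup.center (G h))) :=
    Subgroup.subset_closure (Set.mem_insert_of_mem _ (Set.mem_singleton _))
  have key : ∀ g ∈ Subgroup.closure (((↑) : G h → GL F9 F) ⁻¹' {gX h, gX' h}),
      pi h g ∈ Subgroup.closure
        ({pi h (xh h), pi h (yh h)} : Set (G h ⧸ Subgroup.center (G h))) := by
    intro g hg
    induction hg using Subgroup.closure_induction with
    | mem u hu =>
      rcases hu with hu | hu
      · have : u = xh h := Subtype.ext hu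
        rw [this]
        exact hx
      · have : u = wordG (xh h) (yh h) [3, 8, 17] * xh h ^ 18 := by
          apply Subtype.ext
          rw [Subgroup.coe_mul, Subgroup.coe_pow, coe_wordG]
          exact hu.trans (gX'_word h)
        rw [this, map_mul, map_pow, map_wordG]
        exact mul_mem (wordG_mem _ hx hy _) (pow_mem hx _)
    | one => rw [map_one]; exact one_mem _
    | mul a b _ _ iha ihb => rw [map_mul]; exact mul_mem iha ihb
    | inv a _ iha => rw [map_inv]; exact inv_mem iha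
  exact key g (by rw [closure_gX]; trivial)

theorem n_rel : pi h (nh h) * pi h (xh h) * (pi h (nh h))⁻¹ = pi h (xh h) ^ 4 := by
  rw [← map_inv, ← map_mul, ← map_mul, ← map_pow]
  congr 1
  apply Subtype.ext
  show nG h * gX h * (nG h)⁻¹ = gX h ^ 4
  refine Rep.unique (Rep.mul h (Rep.mul h (rep_nG h) (rep_gX h))
    (rep_inv h (rep_nG h) cN_inv.1)) ?_
  rw [cN_rel]
  exact rep_XP h 4

theorem center_pow3 (z : G h) (hz : z ∈ Subgroup.center (G h)) : z ^ 3 = 1 := by
  have := pow_card_eq_one' (G := Subgroup.center (G h)) (x := ⟨z, hz⟩)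
  rw [center_card h] at this
  exact congrArg Subtype.val this

/-! ### Automorphisms fixing `x` -/

theorem fix_x (α : MulAut (G h ⧸ Subgroup.center (G h)))
    (hα : α (pi h (xh h)) = pi h (xh h)) :
    ∃ i : ℕ, α (pi h (yh h)) = pi h (xh h) ^ i * pi h (yh h) * (pi h (xh h) ^ i)⁻¹ := by
  obtain ⟨t0, ht0⟩ := pi_surj h (α (pi h (yh h)))
  have hy2 : pi h (yh h) ^ 2 = 1 := by
    have : yh h ^ 2 = 1 := by
      apply Subtype.ext
      show yG h ^ 2 = 1
      rw [sq]
      refine Rep.unique (Rep.mul h (rep_yG h) (rep_yG h)) ?_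
      rw [cY_sq]
      exact Rep.one
    rw [← map_pow, this, map_one]
  have hy1 : pi h (yh h) ≠ 1 := by
    intro e
    have := (pi_eq_one_iff h (yh h) (rep_yG h)).mp e
    rw [cY_ne] at this
    exact Bool.false_ne_true this
  have hq2 : pi h t0 ^ 2 = 1 := by rw [ht0, ← map_pow, hy2, map_one]
  have hq1 : pi h t0 ≠ 1 := by
    rw [ht0]
    intro e
    exact hy1 ((MulEquiv.map_eq_one_iff α).mp e)
  have hz : t0 ^ 2 ∈ Subgroup.center (G h) := by
    rw [← QuotientGroup.eq_one_iff]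
    exact hq2
  have ht2 : (t0 ^ 3) ^ 2 = 1 := by
    rw [← pow_mul, show 3 * 2 = 2 * 3 from rfl, pow_mul]
    exact center_pow3 h _ hz
  have hpt : pi h (t0 ^ 3) = pi h t0 := by
    rw [map_pow, pow_succ, hq2, one_mul]
  have ht1 : t0 ^ 3 ≠ 1 := by
    intro e
    rw [e, map_one] at hpt
    exact hq1 hpt.symm
  have hS := invol_G h ((t0 ^ 3 : G h) : GL F9 F) (t0 ^ 3).2
    (by rw [← Subgroup.coe_pow, ht2]; rfl) (fun e => ht1 (Subtype.ext e))
  obtain ⟨i, j, hj, e⟩ := hS
  have hrep : Rep ω (((xh h ^ i)⁻¹ * t0 ^ 3 * xh h ^ i : G h) : GL F9 F) (cR j) := by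
    show (((gX h ^ i)⁻¹ * ((t0 ^ 3 : G h) : GL F9 F) * gX h ^ i : GL F9 F) : Matrix F9 F9 F) = _
    rw [Units.val_mul, Units.val_mul, e, mul_assoc _ (msem9 ω (cR j)),
      Units.inv_mul_cancel_left, Units.inv_mul_cancel_right]
  have hα' : α (pi h (yh h)) = pi h (xh h) ^ i * pi h ((xh h ^ i)⁻¹ * t0 ^ 3 * xh h ^ i) *
      (pi h (xh h) ^ i)⁻¹ := by
    rw [← ht0, ← hpt]
    simp only [map_mul, map_inv, map_pow]
    group
  by_cases hj0 : j = 276
  · refine ⟨i, ?_⟩
    have : (xh h ^ i)⁻¹ * t0 ^ 3 * xh h ^ i = yh h :=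
      Subtype.ext (Rep.unique hrep (by rw [hj0, cR_y]; exact rep_yG h))
    rw [hα', this]
  · exfalso
    have hc := chkRef_all j hj
    simp only [chkRef, Bool.or_eq_true, Nat.beq_eq] at hc
    rcases hc with hc | hc
    · exact hj0 hc
    · have hu : Rep ω ((wordG (xh h) (yh h) (WL (Rk j)) ^ Rm j : G h) : GL F9 F)
          (powP (wordC cY (WL (Rk j))) (Rm j)) := by
        rw [Subgroup.coe_pow, coe_wordG]
        exact Rep.pow h (rep_wordG h (rep_yG h) _) _
      have hv : Rep ω ((wordG (xh h) ((xh h ^ i)⁻¹ * t0 ^ 3 * xh h ^ i) (WL (Rk j)) ^ Rm j :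
          G h) : GL F9 F) (powP (wordC (cR j) (WL (Rk j))) (Rm j)) := by
        rw [Subgroup.coe_pow, coe_wordG]
        exact Rep.pow h (rep_wordG h hrep _) _
      have iu := pi_eq_one_iff h _ hu
      have iv := pi_eq_one_iff h _ hv
      let γ : MulAut (G h ⧸ Subgroup.center (G h)) := (MulAut.conj (pi h (xh h) ^ i))⁻¹ * α
      have hγx : γ (pi h (xh h)) = pi h (xh h) := by
        show (MulAut.conj (pi h (xh h) ^ i))⁻¹ (α (pi h (xh h))) = _
        rw [hα, MulAut.conj_inv_apply]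
        group
      have hγy : γ (pi h (yh h)) = pi h ((xh h ^ i)⁻¹ * t0 ^ 3 * xh h ^ i) := by
        show (MulAut.conj (pi h (xh h) ^ i))⁻¹ (α (pi h (yh h))) = _
        rw [hα', MulAut.conj_inv_apply]
        group
      have hγ : γ (pi h (wordG (xh h) (yh h) (WL (Rk j)) ^ Rm j)) =
          pi h (wordG (xh h) ((xh h ^ i)⁻¹ * t0 ^ 3 * xh h ^ i) (WL (Rk j)) ^ Rm j) := by
        rw [map_pow, map_pow, map_pow, map_wordG, map_wordG, map_wordG, hγx, hγy]
      have hiff : isScal (powP (wordC cY (WL (Rk j))) (Rm j)) =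
          isScal (powP (wordC (cR j) (WL (Rk j))) (Rm j)) := by
        rw [Bool.eq_iff_iff, ← iu, ← iv, ← hγ]
        exact (MulEquiv.map_eq_one_iff γ).symm
      rw [hiff] at hc
      simp at hc

/-! ### The outer automorphism -/

/-- the Frobenius map of the field -/
def frobF (h : IsF4 F ω) : F →+* F where
  toFun a := a ^ 2
  map_one' := one_pow 2
  map_mul' a b := mul_pow a b 2
  map_zero' := zero_pow two_ne_zero
  map_add' a b := by
    have : (a + b) ^ 2 = a ^ 2 + b ^ 2 + 2 * (a * b) := by ring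
    rw [this, h.two, zero_mul, add_zero]

theorem frobF_apply (a : F) : frobF h a = a ^ 2 := rfl

theorem frobP_eq (P : Nat) : frobP P = P ^^^ ((P >>> 9) &&& lo9) := rfl

theorem testBit_frobP_lo (P k t : Nat) (hk : k < 9) (ht : t < 9) :
    (frobP P).testBit (18 * k + t) = (P.testBit (18 * k + t) ^^ P.testBit (18 * k + 9 + t)) := by
  have hl := lo9_low ⟨k, hk⟩ ⟨t, ht⟩
  simp only at hl
  rw [frobP_eq, Nat.testBit_xor, Nat.testBit_and, Nat.testBit_shiftRight, hl, Bool.and_true]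
  have e : 9 + (18 * k + t) = 18 * k + 9 + t := by omega
  rw [e]

theorem testBit_frobP_hi (P k t : Nat) (hk : k < 9) (ht : t < 9) :
    (frobP P).testBit (18 * k + 9 + t) = P.testBit (18 * k + 9 + t) := by
  have hh := lo9_high ⟨k, hk⟩ ⟨t, ht⟩
  simp only at hh
  rw [frobP_eq, Nat.testBit_xor, Nat.testBit_and, hh, Bool.and_false, Bool.xor_false]

theorem val_sq (h : IsF4 F ω) (a b : Bool) : (val ω a b) ^ 2 = val ω (a ^^ b) b := by
  cases a <;> cases b <;> simp only [val, bF] <;> norm_num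
  · linear_combination h.root - (ω + 1) * h.two
  · linear_combination h.root

theorem msem9_frobP (P : Nat) : msem9 ω (frobP P) = (msem9 ω P).map (frobF h) := by
  ext w z
  show msem ω (frobP P) (e9 w) (e9 z) = (msem ω P (e9 w) (e9 z)) ^ 2
  rw [msem_apply, msem_apply, testBit_frobP_lo P _ _ (e9 z).isLt (e9 w).isLt,
    testBit_frobP_hi P _ _ (e9 z).isLt (e9 w).isLt, val_sq h]

/-- the permutation matrix of the conjugation of the index set -/
noncomputable def gPhi : GL F9 F := mkGL h cPhi cPhi cPhi_sq cPhi_sq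

theorem rep_gPhi : Rep ω (gPhi h) cPhi := rep_mkGL h _ _ _ _

/-- the twisted automorphism of `GL₉` -/
noncomputable def tauGL : GL F9 F →* GL F9 F :=
  (MulAut.conj (gPhi h)).toMonoidHom.comp (Matrix.GeneralLinearGroup.map (frobF h))

theorem tauGL_apply (g : GL F9 F) :
    tauGL h g = gPhi h * Matrix.GeneralLinearGroup.map (frobF h) g * (gPhi h)⁻¹ := rfl

theorem rep_tau {g : GL F9 F} {P : Nat} (hg : Rep ω g P) : Rep ω (tauGL h g) (tauP P) := by
  have h1 : Rep ω (Matrix.GeneralLinearGroup.map (frobF h) g) (frobP P) := by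
    show ((g : Matrix F9 F9 F)).map (frobF h) = msem9 ω (frobP P)
    rw [msem9_frobP h]
    exact congrArg (fun M : Matrix F9 F9 F => M.map (frobF h)) hg
  rw [tauGL_apply]
  exact Rep.mul h (Rep.mul h (rep_gPhi h) h1) (rep_inv h (rep_gPhi h) cPhi_sq)

theorem tau_mem : ∀ g ∈ G h, tauGL h g ∈ G h := by
  have : Subgroup.closure {gX h, gX' h} ≤ (G h).comap (tauGL h) := by
    rw [Subgroup.closure_le]
    rintro g (rfl | rfl)
    · exact gen_mem_G h _ (tauP cX) sTX (rep_tau h (rep_gX h)) tau_sift.1 tau_sift.2.1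
        tau_sift.2.2.1
    · exact gen_mem_G h _ (tauP cX') sTX' (rep_tau h (rep_gX' h)) tau_sift.2.2.2.1
        tau_sift.2.2.2.2.1 tau_sift.2.2.2.2.2
  exact fun g hg => this hg

theorem tau_inj : Function.Injective (tauGL h) := by
  intro a b e
  have e0 : gPhi h * Matrix.GeneralLinearGroup.map (frobF h) a * (gPhi h)⁻¹ =
      gPhi h * Matrix.GeneralLinearGroup.map (frobF h) b * (gPhi h)⁻¹ := e
  have e1 : Matrix.GeneralLinearGroup.map (frobF h) a =
      Matrix.GeneralLinearGroup.map (frobF h) b := mul_left_cancel (mul_right_cancel e0)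
  apply Units.ext
  ext i j
  have e2 : Matrix.GeneralLinearGroup.map (frobF h) a i j =
      Matrix.GeneralLinearGroup.map (frobF h) b i j := by rw [e1]
  rw [Matrix.GeneralLinearGroup.map_apply, Matrix.GeneralLinearGroup.map_apply] at e2
  exact (frobF h).injective e2

/-- the twisted automorphism of the group, as a homomorphism -/
noncomputable def tauG : G h →* G h :=
  ((tauGL h).comp (G h).subtype).codRestrict (G h) (fun g => tau_mem h g.1 g.2)

theorem tauG_coe (g : G h) : ((tauG h g : G h) : GL F9 F) = tauGL h g := rfl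

theorem tauG_bij : Function.Bijective (tauG h) := by
  have := G_finite h
  exact Finite.injective_iff_bijective.mp
    (fun a b e => Subtype.ext (tau_inj h (congrArg Subtype.val e)))

/-- the twisted automorphism of the group -/
noncomputable def tauE : G h ≃* G h := MulEquiv.ofBijective (tauG h) (tauG_bij h)

theorem tauE_coe (g : G h) : ((tauE h g : G h) : GL F9 F) = tauGL h g := rfl

/-- the twisted automorphism of `J₃` -/
noncomputable def tauJ : MulAut (G h ⧸ Subgroup.center (G h)) :=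
  QuotientGroup.congr (Subgroup.center (G h)) (Subgroup.center (G h)) (tauE h)
    (Subgroup.characteristic_iff_map_eq.mp Subgroup.centerCharacteristic (tauE h))

theorem tauJ_pi (g : G h) : tauJ h (pi h g) = pi h (tauE h g) := rfl

theorem tau_x : tauJ h (pi h (xh h)) = pi h (ch h) * (pi h (xh h))⁻¹ * (pi h (ch h))⁻¹ := by
  rw [tauJ_pi, ← map_inv, ← map_inv, ← map_mul, ← map_mul]
  congr 1
  apply Subtype.ext
  show tauGL h (gX h) = cG h * (gX h)⁻¹ * (cG h)⁻¹
  refine Rep.unique (rep_tau h (rep_gX h)) ?_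
  rw [tau_rel]
  have hxi : Rep ω (gX h)⁻¹ (XPi 1) := by
    have := rep_XPi h 1
    rw [pow_one] at this
    exact this
  exact Rep.mul h (Rep.mul h (rep_cG h) hxi) (rep_inv h (rep_cG h) cC0_inv.1)

theorem tau_outer : ∀ q : G h ⧸ Subgroup.center (G h), tauJ h ≠ MulAut.conj q := by
  intro q e
  obtain ⟨g, rfl⟩ := pi_surj h q
  have key : ∀ u : G h, (g * u * g⁻¹)⁻¹ * tauE h u ∈ Subgroup.center (G h) := by
    intro u
    have e1 : tauJ h (pi h u) = MulAut.conj (pi h g) (pi h u) := by rw [e]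
    rw [tauJ_pi, MulAut.conj_apply, ← map_inv, ← map_mul, ← map_mul] at e1
    exact QuotientGroup.eq.mp e1.symm
  have fix19 : ∀ u : G h, u ^ 19 = 1 → tauE h u = g * u * g⁻¹ := by
    intro u hu
    have hzc := key u
    have hz3 := center_pow3 h _ hzc
    have hw19 : (g * u * g⁻¹) ^ 19 = 1 := by rw [conj_pow, hu, mul_one, mul_inv_cancel]
    have ht19 : tauE h u ^ 19 = 1 := by rw [← map_pow, hu, map_one]
    have e1 : tauE h u = g * u * g⁻¹ * ((g * u * g⁻¹)⁻¹ * tauE h u) := by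
      rw [mul_inv_cancel_left]
    have hcomm : Commute (g * u * g⁻¹) ((g * u * g⁻¹)⁻¹ * tauE h u) :=
      (Subgroup.mem_center_iff.mp hzc (g * u * g⁻¹))
    have hz19 : ((g * u * g⁻¹)⁻¹ * tauE h u) ^ 19 = 1 := by
      have := ht19
      rw [e1, hcomm.mul_pow, hw19, one_mul] at this
      exact this
    have hz1 : (g * u * g⁻¹)⁻¹ * tauE h u = 1 := by
      have e2 : ((g * u * g⁻¹)⁻¹ * tauE h u) ^ 19 = (g * u * g⁻¹)⁻¹ * tauE h u := by
        rw [show 19 = 3 * 6 + 1 from rfl, pow_succ, pow_mul, hz3, one_pow, one_mul]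
      rw [← e2]
      exact hz19
    rw [e1, hz1, mul_one]
  have hEq : (tauE h).toMonoidHom = (MulAut.conj g).toMonoidHom := by
    apply MonoidHom.eq_of_eqOn_dense (closure_gX h)
    rintro u (hu | hu)
    · exact fix19 u (Subtype.ext ((congrArg (· ^ 19) hu).trans (gX_pow h)))
    · exact fix19 u (Subtype.ext ((congrArg (· ^ 19) hu).trans (gX'_pow h)))
  have hmem : (⟨Eg h 4981, H'_le h (Eg_mem h _)⟩ : G h) ∈
      (Subgroup.center (G h) : Set (G h)) := by
    rw [center_set]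
    exact Set.mem_insert_of_mem _ (Set.mem_insert _ _)
  have e3 : tauE h ⟨Eg h 4981, H'_le h (Eg_mem h _)⟩ = ⟨Eg h 4981, H'_le h (Eg_mem h _)⟩ := by
    have := DFunLike.congr_fun hEq ⟨Eg h 4981, H'_le h (Eg_mem h _)⟩
    have e4 : g * ⟨Eg h 4981, H'_le h (Eg_mem h _)⟩ * g⁻¹ = ⟨Eg h 4981, H'_le h (Eg_mem h _)⟩ := by
      rw [Subgroup.mem_center_iff.mp hmem g, mul_inv_cancel_right]
    exact this.trans e4
  have e5 : tauGL h (Eg h 4981) = Eg h 4981 := congrArg Subtype.val e3
  have h1 := rep_tau h (Eg_rep h 4981 (by norm_num))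
  rw [e5] at h1
  exact tau_scal (Rep.inj h h1 (Eg_rep h 4981 (by norm_num)))

/-! ### The theorem -/

theorem hk19 : ∀ m : ℕ, 0 < m → m < 19 → ∃ i : ℕ, 4 ^ i % 19 = m ∨ (4 ^ i + m) % 19 = 0 := by
  intro m h0 h1
  have key : ∀ m : Fin 19, 0 < m.val → ∃ i : Fin 9, 4 ^ i.val % 19 = m.val ∨
      (4 ^ i.val + m.val) % 19 = 0 := by decide
  obtain ⟨i, hi⟩ := key ⟨m, h1⟩ h0
  exact ⟨i.val, hi⟩

theorem out_card (K : Subgroup (GL F9 F)) (hK : K = G h) :
    Nat.card (Cfsg.Out (K ⧸ Subgroup.center K)) = 2 := by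
  subst hK
  have hcard : Nat.card (G h ⧸ Subgroup.center (G h)) = 50232960 := (main h (G h) rfl).2.2.1
  have : Finite (G h ⧸ Subgroup.center (G h)) :=
    Nat.finite_of_card_ne_zero (by rw [hcard]; norm_num)
  have : Fact (Nat.Prime 19) := ⟨by norm_num⟩
  exact Cfsg.Agent.H27.J3Out.card_out_eq_two (pi h (xh h)) (pi h (yh h)) (pi h (nh h))
    (pi h (ch h)) (tauJ h) 19 4 (gen_J h) (pi_x_order h) (by rw [hcard]; norm_num) (n_rel h)
    hk19 (tau_x h) (tau_outer h) (fix_x h)

end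

end Cfsg.Agent.H6.J3O
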