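import Mathlib

/-!
# Team project S2071 (helper6): the outer automorphism group of the Conway group Co3 is trivial

Statements of the two abstract pieces.
-/

set_option autoImplicit false

namespace Cfsg.Agent.H6.Co3

/-- piece CO3-OUT1: a criterion for a trivial outer automorphism group. `x` of prime order `p`
generates a Sylow `p`-subgroup, `n` normalises it, every automorphism fixing `x` sends `y` to a
conjugate under a power of `x`, and no automorphism inverts `x`. -/
def StOut1 : Prop :=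
  ∀ (J : Type) [Group J] [Finite J] (x y n : J) (p k : ℕ), p.Prime →
    Subgroup.closure ({x, y} : Set J) = ⊤ → orderOf x = p → ¬ p ^ 2 ∣ Nat.card J →
    n * x * n⁻¹ = x ^ k →
    (∀ m : ℕ, 0 < m → m < p → ∃ i : ℕ, k ^ i % p = m ∨ (k ^ i + m) % p = 0) →
    (∀ α : MulAut J, α x = x → ∃ i : ℕ, α y = x ^ i * y * (x ^ i)⁻¹) →
    (∀ α : MulAut J, α x ≠ x⁻¹) →
    Nat.card (MulAut J ⧸ (MulAut.conj : J →* MulAut J).range) = 1

/-- piece CO3-CENTRAL: if `y` is the only nontrivial central element of a Sylow 2-subgroup `P`,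
every automorphism sends `y` to a conjugate of `y`. -/
def StCentral : Prop :=
  ∀ (J : Type) [Group J] [Finite J] (P : Subgroup J) (y : J) (k : ℕ),
    Nat.card ↥P = 2 ^ k → ¬ 2 ^ (k + 1) ∣ Nat.card J → y ∈ P → y ≠ 1 →
    (∀ g ∈ P, y * g = g * y) →
    (∀ c ∈ P, (∀ g ∈ P, c * g = g * c) → c = 1 ∨ c = y) →
    ∀ α : MulAut J, ∃ g : J, α y = g * y * g⁻¹

end Cfsg.Agent.H6.Co3
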