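import Cfsg.Agent.H6.Co3ChkLem

/-!
Kernel-evaluated certificate checks for the Conway group Co3 on 552 points: generators, transversals, powers, words (helper6).
The check is evaluated in short segments, glued at the end.
-/

set_option autoImplicit false

namespace Cfsg.Agent.H6.Co3

open Cfsg Cfsg.Agent.H9 Cfsg.Agent.H93 Cfsg.Agent.H33

theorem nC_0 : allB (fun p => Nat.beq (f16 (nC 0) p) (f16 cX p)) 552 = true := by decide +kernel
theorem nC_1 : allB (fun p => Nat.beq (f16 (nC 1) p) (f16 cY p)) 552 = true := by decide +kernel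

theorem chkT_0_s0 : allB (fun j => chkT tr0 552 0 (Nat.add 0 j)) 138 = true := by decide +kernel
theorem chkT_0_s1 : allB (fun j => chkT tr0 552 0 (Nat.add 138 j)) 138 = true := by decide +kernel
theorem chkT_0_s2 : allB (fun j => chkT tr0 552 0 (Nat.add 276 j)) 138 = true := by decide +kernel
theorem chkT_0_s3 : allB (fun j => chkT tr0 552 0 (Nat.add 414 j)) 138 = true := by decide +kernel
theorem chkT_0 : allB (chkT tr0 552 0) 552 = true := by
  have g0 : allB (fun j => chkT tr0 552 0 (Nat.add 0 j)) 138 = true := chkT_0_s0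
  have g1 : allB (fun j => chkT tr0 552 0 (Nat.add 0 j)) 276 = true :=
    seg_glue (chkT tr0 552 0) 0 138 138 g0 chkT_0_s1
  have g2 : allB (fun j => chkT tr0 552 0 (Nat.add 0 j)) 414 = true :=
    seg_glue (chkT tr0 552 0) 0 276 138 g1 chkT_0_s2
  have g3 : allB (fun j => chkT tr0 552 0 (Nat.add 0 j)) 552 = true :=
    seg_glue (chkT tr0 552 0) 0 414 138 g2 chkT_0_s3
  exact seg_all (chkT tr0 552 0) 552 g3
theorem chkT_1 : allB (chkT tr1 275 1) 275 = true := by decide +kernel
theorem chkT_2 : allB (chkT tr2 162 2) 162 = true := by decide +kernel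
theorem chkT_3 : allB (chkT tr3 105 3) 105 = true := by decide +kernel
theorem chkT_4 : allB (chkT tr4 4 4) 4 = true := by decide +kernel
theorem chkT_5 : allB (chkT tr5 3 5) 3 = true := by decide +kernel
theorem chkT_6 : allB (chkT tr6 16 6) 16 = true := by decide +kernel

theorem XP_zero : allB (fun p => Nat.beq (f16 (XP 0) p) p) 552 = true := by decide +kernel
theorem XP_succ : allB (fun i => allB (fun p =>
    Nat.beq (f16 (XP (i + 1)) p) (f16 cX (f16 (XP i) p))) 552) 22 = true := by decide +kernel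
theorem XP_last : allB (fun p => Nat.beq (f16 cX (f16 (XP 22) p)) p) 552 = true := by decide +kernel
theorem XP_inv : allB (fun i => invOK (XP i) (XPi i)) 23 = true := by decide +kernel
theorem cX_ne : Nat.beq (f16 cX 0) 0 = false := by decide +kernel
theorem cY_ne : allB (fun p => Nat.beq (f16 cY p) p) 552 = false := by decide +kernel
theorem cR_y : allB (fun p => Nat.beq (f16 (rE jY) p) (f16 cY p)) 552 = true := by decide +kernel
theorem pE_one : allB (fun p => Nat.beq (f16 (pE pOne) p) p) 552 = true := by decide +kernel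
theorem pE_y : allB (fun p => Nat.beq (f16 (pE pY) p) (f16 cY p)) 552 = true := by decide +kernel
theorem sNl_lt : allB (fun s => Nat.blt (sNl.getD s 0) 1281) 4 = true := by decide +kernel
theorem cS_comm : allB (fun s => allB (fun p =>
    Nat.beq (f16 (cS s) (f16 cY p)) (f16 cY (f16 (cS s) p))) 552) 4 = true := by decide +kernel
theorem nN_rel : (Nat.blt nN 1281 && allB (fun p =>
    Nat.beq (f16 (nC nN) (f16 cX p)) (f16 (XP 13) (f16 (nC nN) p))) 552) = true := by
  decide +kernel
theorem wOrd_s0 : allB (fun j => wOrdF (Nat.add 0 j)) 3 = true := by decide +kernel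
theorem wOrd_s1 : allB (fun j => wOrdF (Nat.add 3 j)) 3 = true := by decide +kernel
theorem wOrd_s2 : allB (fun j => wOrdF (Nat.add 6 j)) 3 = true := by decide +kernel
theorem wOrd_s3 : allB (fun j => wOrdF (Nat.add 9 j)) 3 = true := by decide +kernel
theorem wOrd_s4 : allB (fun j => wOrdF (Nat.add 12 j)) 3 = true := by decide +kernel
theorem wOrd_s5 : allB (fun j => wOrdF (Nat.add 15 j)) 3 = true := by decide +kernel
theorem wOrd_s6 : allB (fun j => wOrdF (Nat.add 18 j)) 3 = true := by decide +kernel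
theorem wOrd_s7 : allB (fun j => wOrdF (Nat.add 21 j)) 2 = true := by decide +kernel
theorem wOrd_ok : allB (fun k => allB (fun p => Nat.beq (iterP XP cY (WL k) (wOrd k) p) p) 552) 23 =
    true := by
  have g0 : allB (fun j => wOrdF (Nat.add 0 j)) 3 = true := wOrd_s0
  have g1 : allB (fun j => wOrdF (Nat.add 0 j)) 6 = true :=
    seg_glue (wOrdF) 0 3 3 g0 wOrd_s1
  have g2 : allB (fun j => wOrdF (Nat.add 0 j)) 9 = true :=
    seg_glue (wOrdF) 0 6 3 g1 wOrd_s2
  have g3 : allB (fun j => wOrdF (Nat.add 0 j)) 12 = true :=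
    seg_glue (wOrdF) 0 9 3 g2 wOrd_s3
  have g4 : allB (fun j => wOrdF (Nat.add 0 j)) 15 = true :=
    seg_glue (wOrdF) 0 12 3 g3 wOrd_s4
  have g5 : allB (fun j => wOrdF (Nat.add 0 j)) 18 = true :=
    seg_glue (wOrdF) 0 15 3 g4 wOrd_s5
  have g6 : allB (fun j => wOrdF (Nat.add 0 j)) 21 = true :=
    seg_glue (wOrdF) 0 18 3 g5 wOrd_s6
  have g7 : allB (fun j => wOrdF (Nat.add 0 j)) 23 = true :=
    seg_glue (wOrdF) 0 21 2 g6 wOrd_s7
  exact seg_all wOrdF 23 g7
theorem WL_ok : allB (fun k => (WL k).all (fun a => Nat.blt a 23)) 23 = true := by decide +kernel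
theorem jY_lt : (Nat.blt jY 7425 && (Nat.blt pY 1024 && (Nat.blt pOne 1024 &&
    !(Nat.beq pY pOne)))) = true := by decide +kernel


end Cfsg.Agent.H6.Co3
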