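import Cfsg.Agent.H6.Co3ChkLem

/-!
Kernel-evaluated certificate checks for the Conway group Co3 on 552 points: closure of the set of involutions under conjugation, on a base, part 1 (helper6).
The check is evaluated in short segments, glued at the end.
-/

set_option autoImplicit false

namespace Cfsg.Agent.H6.Co3

open Cfsg Cfsg.Agent.H9 Cfsg.Agent.H93 Cfsg.Agent.H33

theorem chkB_1_s0 : allB (fun j => chkB (Nat.add 1860 j)) 124 = true := by decide +kernel
theorem chkB_1_s1 : allB (fun j => chkB (Nat.add 1984 j)) 124 = true := by decide +kernel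
theorem chkB_1_s2 : allB (fun j => chkB (Nat.add 2108 j)) 124 = true := by decide +kernel
theorem chkB_1_s3 : allB (fun j => chkB (Nat.add 2232 j)) 124 = true := by decide +kernel
theorem chkB_1_s4 : allB (fun j => chkB (Nat.add 2356 j)) 124 = true := by decide +kernel
theorem chkB_1_s5 : allB (fun j => chkB (Nat.add 2480 j)) 124 = true := by decide +kernel
theorem chkB_1_s6 : allB (fun j => chkB (Nat.add 2604 j)) 124 = true := by decide +kernel
theorem chkB_1_s7 : allB (fun j => chkB (Nat.add 2728 j)) 124 = true := by decide +kernel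
theorem chkB_1_s8 : allB (fun j => chkB (Nat.add 2852 j)) 124 = true := by decide +kernel
theorem chkB_1_s9 : allB (fun j => chkB (Nat.add 2976 j)) 124 = true := by decide +kernel
theorem chkB_1_s10 : allB (fun j => chkB (Nat.add 3100 j)) 124 = true := by decide +kernel
theorem chkB_1_s11 : allB (fun j => chkB (Nat.add 3224 j)) 124 = true := by decide +kernel
theorem chkB_1_s12 : allB (fun j => chkB (Nat.add 3348 j)) 124 = true := by decide +kernel
theorem chkB_1_s13 : allB (fun j => chkB (Nat.add 3472 j)) 124 = true := by decide +kernel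
theorem chkB_1_s14 : allB (fun j => chkB (Nat.add 3596 j)) 124 = true := by decide +kernel

theorem chkB_1 : allB (fun j => chkB (Nat.add 1860 j)) 1860 = true := by
  have g0 : allB (fun j => chkB (Nat.add 1860 j)) 124 = true := chkB_1_s0
  have g1 : allB (fun j => chkB (Nat.add 1860 j)) 248 = true :=
    seg_glue (chkB) 1860 124 124 g0 chkB_1_s1
  have g2 : allB (fun j => chkB (Nat.add 1860 j)) 372 = true :=
    seg_glue (chkB) 1860 248 124 g1 chkB_1_s2
  have g3 : allB (fun j => chkB (Nat.add 1860 j)) 496 = true :=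
    seg_glue (chkB) 1860 372 124 g2 chkB_1_s3
  have g4 : allB (fun j => chkB (Nat.add 1860 j)) 620 = true :=
    seg_glue (chkB) 1860 496 124 g3 chkB_1_s4
  have g5 : allB (fun j => chkB (Nat.add 1860 j)) 744 = true :=
    seg_glue (chkB) 1860 620 124 g4 chkB_1_s5
  have g6 : allB (fun j => chkB (Nat.add 1860 j)) 868 = true :=
    seg_glue (chkB) 1860 744 124 g5 chkB_1_s6
  have g7 : allB (fun j => chkB (Nat.add 1860 j)) 992 = true :=
    seg_glue (chkB) 1860 868 124 g6 chkB_1_s7
  have g8 : allB (fun j => chkB (Nat.add 1860 j)) 1116 = true :=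
    seg_glue (chkB) 1860 992 124 g7 chkB_1_s8
  have g9 : allB (fun j => chkB (Nat.add 1860 j)) 1240 = true :=
    seg_glue (chkB) 1860 1116 124 g8 chkB_1_s9
  have g10 : allB (fun j => chkB (Nat.add 1860 j)) 1364 = true :=
    seg_glue (chkB) 1860 1240 124 g9 chkB_1_s10
  have g11 : allB (fun j => chkB (Nat.add 1860 j)) 1488 = true :=
    seg_glue (chkB) 1860 1364 124 g10 chkB_1_s11
  have g12 : allB (fun j => chkB (Nat.add 1860 j)) 1612 = true :=
    seg_glue (chkB) 1860 1488 124 g11 chkB_1_s12
  have g13 : allB (fun j => chkB (Nat.add 1860 j)) 1736 = true :=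
    seg_glue (chkB) 1860 1612 124 g12 chkB_1_s13
  have g14 : allB (fun j => chkB (Nat.add 1860 j)) 1860 = true :=
    seg_glue (chkB) 1860 1736 124 g13 chkB_1_s14
  exact g14

end Cfsg.Agent.H6.Co3
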