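import Cfsg.Agent.H6.Co3ChkLem

/-!
Kernel-evaluated certificate checks for the Conway group Co3 on 552 points: closure of the set of involutions under conjugation, on a base, part 3 (helper6).
The check is evaluated in short segments, glued at the end.
-/

set_option autoImplicit false

namespace Cfsg.Agent.H6.Co3

open Cfsg Cfsg.Agent.H9 Cfsg.Agent.H93 Cfsg.Agent.H33

theorem chkB_3_s0 : allB (fun j => chkB (Nat.add 5580 j)) 124 = true := by decide +kernel
theorem chkB_3_s1 : allB (fun j => chkB (Nat.add 5704 j)) 124 = true := by decide +kernel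
theorem chkB_3_s2 : allB (fun j => chkB (Nat.add 5828 j)) 124 = true := by decide +kernel
theorem chkB_3_s3 : allB (fun j => chkB (Nat.add 5952 j)) 124 = true := by decide +kernel
theorem chkB_3_s4 : allB (fun j => chkB (Nat.add 6076 j)) 124 = true := by decide +kernel
theorem chkB_3_s5 : allB (fun j => chkB (Nat.add 6200 j)) 124 = true := by decide +kernel
theorem chkB_3_s6 : allB (fun j => chkB (Nat.add 6324 j)) 124 = true := by decide +kernel
theorem chkB_3_s7 : allB (fun j => chkB (Nat.add 6448 j)) 124 = true := by decide +kernel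
theorem chkB_3_s8 : allB (fun j => chkB (Nat.add 6572 j)) 124 = true := by decide +kernel
theorem chkB_3_s9 : allB (fun j => chkB (Nat.add 6696 j)) 124 = true := by decide +kernel
theorem chkB_3_s10 : allB (fun j => chkB (Nat.add 6820 j)) 124 = true := by decide +kernel
theorem chkB_3_s11 : allB (fun j => chkB (Nat.add 6944 j)) 124 = true := by decide +kernel
theorem chkB_3_s12 : allB (fun j => chkB (Nat.add 7068 j)) 124 = true := by decide +kernel
theorem chkB_3_s13 : allB (fun j => chkB (Nat.add 7192 j)) 124 = true := by decide +kernel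
theorem chkB_3_s14 : allB (fun j => chkB (Nat.add 7316 j)) 109 = true := by decide +kernel

theorem chkB_3 : allB (fun j => chkB (Nat.add 5580 j)) 1845 = true := by
  have g0 : allB (fun j => chkB (Nat.add 5580 j)) 124 = true := chkB_3_s0
  have g1 : allB (fun j => chkB (Nat.add 5580 j)) 248 = true :=
    seg_glue (chkB) 5580 124 124 g0 chkB_3_s1
  have g2 : allB (fun j => chkB (Nat.add 5580 j)) 372 = true :=
    seg_glue (chkB) 5580 248 124 g1 chkB_3_s2
  have g3 : allB (fun j => chkB (Nat.add 5580 j)) 496 = true :=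
    seg_glue (chkB) 5580 372 124 g2 chkB_3_s3
  have g4 : allB (fun j => chkB (Nat.add 5580 j)) 620 = true :=
    seg_glue (chkB) 5580 496 124 g3 chkB_3_s4
  have g5 : allB (fun j => chkB (Nat.add 5580 j)) 744 = true :=
    seg_glue (chkB) 5580 620 124 g4 chkB_3_s5
  have g6 : allB (fun j => chkB (Nat.add 5580 j)) 868 = true :=
    seg_glue (chkB) 5580 744 124 g5 chkB_3_s6
  have g7 : allB (fun j => chkB (Nat.add 5580 j)) 992 = true :=
    seg_glue (chkB) 5580 868 124 g6 chkB_3_s7
  have g8 : allB (fun j => chkB (Nat.add 5580 j)) 1116 = true :=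
    seg_glue (chkB) 5580 992 124 g7 chkB_3_s8
  have g9 : allB (fun j => chkB (Nat.add 5580 j)) 1240 = true :=
    seg_glue (chkB) 5580 1116 124 g8 chkB_3_s9
  have g10 : allB (fun j => chkB (Nat.add 5580 j)) 1364 = true :=
    seg_glue (chkB) 5580 1240 124 g9 chkB_3_s10
  have g11 : allB (fun j => chkB (Nat.add 5580 j)) 1488 = true :=
    seg_glue (chkB) 5580 1364 124 g10 chkB_3_s11
  have g12 : allB (fun j => chkB (Nat.add 5580 j)) 1612 = true :=
    seg_glue (chkB) 5580 1488 124 g11 chkB_3_s12
  have g13 : allB (fun j => chkB (Nat.add 5580 j)) 1736 = true :=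
    seg_glue (chkB) 5580 1612 124 g12 chkB_3_s13
  have g14 : allB (fun j => chkB (Nat.add 5580 j)) 1845 = true :=
    seg_glue (chkB) 5580 1736 109 g13 chkB_3_s14
  exact g14

end Cfsg.Agent.H6.Co3
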