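import Cfsg.Agent.H6.Co3ChkLem

/-!
Kernel-evaluated certificate checks for the Conway group Co3 on 552 points: the Sylow 2-subgroup, part 0 (helper6).
The check is evaluated in short segments, glued at the end.
-/

set_option autoImplicit false

namespace Cfsg.Agent.H6.Co3

open Cfsg Cfsg.Agent.H9 Cfsg.Agent.H93 Cfsg.Agent.H33

theorem chkP_0_s0 : allB (fun j => chkP (Nat.add 0 j)) 32 = true := by decide +kernel
theorem chkP_0_s1 : allB (fun j => chkP (Nat.add 32 j)) 32 = true := by decide +kernel
theorem chkP_0_s2 : allB (fun j => chkP (Nat.add 64 j)) 32 = true := by decide +kernel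
theorem chkP_0_s3 : allB (fun j => chkP (Nat.add 96 j)) 32 = true := by decide +kernel
theorem chkP_0_s4 : allB (fun j => chkP (Nat.add 128 j)) 32 = true := by decide +kernel
theorem chkP_0_s5 : allB (fun j => chkP (Nat.add 160 j)) 32 = true := by decide +kernel
theorem chkP_0_s6 : allB (fun j => chkP (Nat.add 192 j)) 32 = true := by decide +kernel
theorem chkP_0_s7 : allB (fun j => chkP (Nat.add 224 j)) 32 = true := by decide +kernel
theorem chkP_0_s8 : allB (fun j => chkP (Nat.add 256 j)) 32 = true := by decide +kernel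
theorem chkP_0_s9 : allB (fun j => chkP (Nat.add 288 j)) 32 = true := by decide +kernel
theorem chkP_0_s10 : allB (fun j => chkP (Nat.add 320 j)) 32 = true := by decide +kernel
theorem chkP_0_s11 : allB (fun j => chkP (Nat.add 352 j)) 32 = true := by decide +kernel
theorem chkP_0_s12 : allB (fun j => chkP (Nat.add 384 j)) 32 = true := by decide +kernel
theorem chkP_0_s13 : allB (fun j => chkP (Nat.add 416 j)) 32 = true := by decide +kernel
theorem chkP_0_s14 : allB (fun j => chkP (Nat.add 448 j)) 32 = true := by decide +kernel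
theorem chkP_0_s15 : allB (fun j => chkP (Nat.add 480 j)) 32 = true := by decide +kernel

theorem chkP_0 : allB (fun j => chkP (Nat.add 0 j)) 512 = true := by
  have g0 : allB (fun j => chkP (Nat.add 0 j)) 32 = true := chkP_0_s0
  have g1 : allB (fun j => chkP (Nat.add 0 j)) 64 = true :=
    seg_glue (chkP) 0 32 32 g0 chkP_0_s1
  have g2 : allB (fun j => chkP (Nat.add 0 j)) 96 = true :=
    seg_glue (chkP) 0 64 32 g1 chkP_0_s2
  have g3 : allB (fun j => chkP (Nat.add 0 j)) 128 = true :=
    seg_glue (chkP) 0 96 32 g2 chkP_0_s3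
  have g4 : allB (fun j => chkP (Nat.add 0 j)) 160 = true :=
    seg_glue (chkP) 0 128 32 g3 chkP_0_s4
  have g5 : allB (fun j => chkP (Nat.add 0 j)) 192 = true :=
    seg_glue (chkP) 0 160 32 g4 chkP_0_s5
  have g6 : allB (fun j => chkP (Nat.add 0 j)) 224 = true :=
    seg_glue (chkP) 0 192 32 g5 chkP_0_s6
  have g7 : allB (fun j => chkP (Nat.add 0 j)) 256 = true :=
    seg_glue (chkP) 0 224 32 g6 chkP_0_s7
  have g8 : allB (fun j => chkP (Nat.add 0 j)) 288 = true :=
    seg_glue (chkP) 0 256 32 g7 chkP_0_s8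
  have g9 : allB (fun j => chkP (Nat.add 0 j)) 320 = true :=
    seg_glue (chkP) 0 288 32 g8 chkP_0_s9
  have g10 : allB (fun j => chkP (Nat.add 0 j)) 352 = true :=
    seg_glue (chkP) 0 320 32 g9 chkP_0_s10
  have g11 : allB (fun j => chkP (Nat.add 0 j)) 384 = true :=
    seg_glue (chkP) 0 352 32 g10 chkP_0_s11
  have g12 : allB (fun j => chkP (Nat.add 0 j)) 416 = true :=
    seg_glue (chkP) 0 384 32 g11 chkP_0_s12
  have g13 : allB (fun j => chkP (Nat.add 0 j)) 448 = true :=
    seg_glue (chkP) 0 416 32 g12 chkP_0_s13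
  have g14 : allB (fun j => chkP (Nat.add 0 j)) 480 = true :=
    seg_glue (chkP) 0 448 32 g13 chkP_0_s14
  have g15 : allB (fun j => chkP (Nat.add 0 j)) 512 = true :=
    seg_glue (chkP) 0 480 32 g14 chkP_0_s15
  exact g15

end Cfsg.Agent.H6.Co3
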