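import Cfsg.Agent.H6.Co3ChkLem

/-!
Kernel-evaluated certificate checks for the Conway group Co3 on 552 points: the Sylow 2-subgroup, part 1 (helper6).
The check is evaluated in short segments, glued at the end.
-/

set_option autoImplicit false

namespace Cfsg.Agent.H6.Co3

open Cfsg Cfsg.Agent.H9 Cfsg.Agent.H93 Cfsg.Agent.H33

theorem chkP_1_s0 : allB (fun j => chkP (Nat.add 512 j)) 32 = true := by decide +kernel
theorem chkP_1_s1 : allB (fun j => chkP (Nat.add 544 j)) 32 = true := by decide +kernel
theorem chkP_1_s2 : allB (fun j => chkP (Nat.add 576 j)) 32 = true := by decide +kernel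
theorem chkP_1_s3 : allB (fun j => chkP (Nat.add 608 j)) 32 = true := by decide +kernel
theorem chkP_1_s4 : allB (fun j => chkP (Nat.add 640 j)) 32 = true := by decide +kernel
theorem chkP_1_s5 : allB (fun j => chkP (Nat.add 672 j)) 32 = true := by decide +kernel
theorem chkP_1_s6 : allB (fun j => chkP (Nat.add 704 j)) 32 = true := by decide +kernel
theorem chkP_1_s7 : allB (fun j => chkP (Nat.add 736 j)) 32 = true := by decide +kernel
theorem chkP_1_s8 : allB (fun j => chkP (Nat.add 768 j)) 32 = true := by decide +kernel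
theorem chkP_1_s9 : allB (fun j => chkP (Nat.add 800 j)) 32 = true := by decide +kernel
theorem chkP_1_s10 : allB (fun j => chkP (Nat.add 832 j)) 32 = true := by decide +kernel
theorem chkP_1_s11 : allB (fun j => chkP (Nat.add 864 j)) 32 = true := by decide +kernel
theorem chkP_1_s12 : allB (fun j => chkP (Nat.add 896 j)) 32 = true := by decide +kernel
theorem chkP_1_s13 : allB (fun j => chkP (Nat.add 928 j)) 32 = true := by decide +kernel
theorem chkP_1_s14 : allB (fun j => chkP (Nat.add 960 j)) 32 = true := by decide +kernel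
theorem chkP_1_s15 : allB (fun j => chkP (Nat.add 992 j)) 32 = true := by decide +kernel

theorem chkP_1 : allB (fun j => chkP (Nat.add 512 j)) 512 = true := by
  have g0 : allB (fun j => chkP (Nat.add 512 j)) 32 = true := chkP_1_s0
  have g1 : allB (fun j => chkP (Nat.add 512 j)) 64 = true :=
    seg_glue (chkP) 512 32 32 g0 chkP_1_s1
  have g2 : allB (fun j => chkP (Nat.add 512 j)) 96 = true :=
    seg_glue (chkP) 512 64 32 g1 chkP_1_s2
  have g3 : allB (fun j => chkP (Nat.add 512 j)) 128 = true :=
    seg_glue (chkP) 512 96 32 g2 chkP_1_s3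
  have g4 : allB (fun j => chkP (Nat.add 512 j)) 160 = true :=
    seg_glue (chkP) 512 128 32 g3 chkP_1_s4
  have g5 : allB (fun j => chkP (Nat.add 512 j)) 192 = true :=
    seg_glue (chkP) 512 160 32 g4 chkP_1_s5
  have g6 : allB (fun j => chkP (Nat.add 512 j)) 224 = true :=
    seg_glue (chkP) 512 192 32 g5 chkP_1_s6
  have g7 : allB (fun j => chkP (Nat.add 512 j)) 256 = true :=
    seg_glue (chkP) 512 224 32 g6 chkP_1_s7
  have g8 : allB (fun j => chkP (Nat.add 512 j)) 288 = true :=
    seg_glue (chkP) 512 256 32 g7 chkP_1_s8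
  have g9 : allB (fun j => chkP (Nat.add 512 j)) 320 = true :=
    seg_glue (chkP) 512 288 32 g8 chkP_1_s9
  have g10 : allB (fun j => chkP (Nat.add 512 j)) 352 = true :=
    seg_glue (chkP) 512 320 32 g9 chkP_1_s10
  have g11 : allB (fun j => chkP (Nat.add 512 j)) 384 = true :=
    seg_glue (chkP) 512 352 32 g10 chkP_1_s11
  have g12 : allB (fun j => chkP (Nat.add 512 j)) 416 = true :=
    seg_glue (chkP) 512 384 32 g11 chkP_1_s12
  have g13 : allB (fun j => chkP (Nat.add 512 j)) 448 = true :=
    seg_glue (chkP) 512 416 32 g12 chkP_1_s13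
  have g14 : allB (fun j => chkP (Nat.add 512 j)) 480 = true :=
    seg_glue (chkP) 512 448 32 g13 chkP_1_s14
  have g15 : allB (fun j => chkP (Nat.add 512 j)) 512 = true :=
    seg_glue (chkP) 512 480 32 g14 chkP_1_s15
  exact g15

end Cfsg.Agent.H6.Co3
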