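import Cfsg.Agent.H6.Co3ChkLem

/-!
Kernel-evaluated certificate checks for the Conway group Co3 on 552 points: the spanning tree of the conjugation graph, part 2 (helper6).
The check is evaluated in short segments, glued at the end.
-/

set_option autoImplicit false

namespace Cfsg.Agent.H6.Co3

open Cfsg Cfsg.Agent.H9 Cfsg.Agent.H93 Cfsg.Agent.H33

theorem chkTree_2_s0 : allB (fun j => chkTree (Nat.add 1860 j)) 62 = true := by decide +kernel
theorem chkTree_2_s1 : allB (fun j => chkTree (Nat.add 1922 j)) 62 = true := by decide +kernel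
theorem chkTree_2_s2 : allB (fun j => chkTree (Nat.add 1984 j)) 62 = true := by decide +kernel
theorem chkTree_2_s3 : allB (fun j => chkTree (Nat.add 2046 j)) 62 = true := by decide +kernel
theorem chkTree_2_s4 : allB (fun j => chkTree (Nat.add 2108 j)) 62 = true := by decide +kernel
theorem chkTree_2_s5 : allB (fun j => chkTree (Nat.add 2170 j)) 62 = true := by decide +kernel
theorem chkTree_2_s6 : allB (fun j => chkTree (Nat.add 2232 j)) 62 = true := by decide +kernel
theorem chkTree_2_s7 : allB (fun j => chkTree (Nat.add 2294 j)) 62 = true := by decide +kernel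
theorem chkTree_2_s8 : allB (fun j => chkTree (Nat.add 2356 j)) 62 = true := by decide +kernel
theorem chkTree_2_s9 : allB (fun j => chkTree (Nat.add 2418 j)) 62 = true := by decide +kernel
theorem chkTree_2_s10 : allB (fun j => chkTree (Nat.add 2480 j)) 62 = true := by decide +kernel
theorem chkTree_2_s11 : allB (fun j => chkTree (Nat.add 2542 j)) 62 = true := by decide +kernel
theorem chkTree_2_s12 : allB (fun j => chkTree (Nat.add 2604 j)) 62 = true := by decide +kernel
theorem chkTree_2_s13 : allB (fun j => chkTree (Nat.add 2666 j)) 62 = true := by decide +kernel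
theorem chkTree_2_s14 : allB (fun j => chkTree (Nat.add 2728 j)) 62 = true := by decide +kernel

theorem chkTree_2 : allB (fun j => chkTree (Nat.add 1860 j)) 930 = true := by
  have g0 : allB (fun j => chkTree (Nat.add 1860 j)) 62 = true := chkTree_2_s0
  have g1 : allB (fun j => chkTree (Nat.add 1860 j)) 124 = true :=
    seg_glue (chkTree) 1860 62 62 g0 chkTree_2_s1
  have g2 : allB (fun j => chkTree (Nat.add 1860 j)) 186 = true :=
    seg_glue (chkTree) 1860 124 62 g1 chkTree_2_s2
  have g3 : allB (fun j => chkTree (Nat.add 1860 j)) 248 = true :=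
    seg_glue (chkTree) 1860 186 62 g2 chkTree_2_s3
  have g4 : allB (fun j => chkTree (Nat.add 1860 j)) 310 = true :=
    seg_glue (chkTree) 1860 248 62 g3 chkTree_2_s4
  have g5 : allB (fun j => chkTree (Nat.add 1860 j)) 372 = true :=
    seg_glue (chkTree) 1860 310 62 g4 chkTree_2_s5
  have g6 : allB (fun j => chkTree (Nat.add 1860 j)) 434 = true :=
    seg_glue (chkTree) 1860 372 62 g5 chkTree_2_s6
  have g7 : allB (fun j => chkTree (Nat.add 1860 j)) 496 = true :=
    seg_glue (chkTree) 1860 434 62 g6 chkTree_2_s7
  have g8 : allB (fun j => chkTree (Nat.add 1860 j)) 558 = true :=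
    seg_glue (chkTree) 1860 496 62 g7 chkTree_2_s8
  have g9 : allB (fun j => chkTree (Nat.add 1860 j)) 620 = true :=
    seg_glue (chkTree) 1860 558 62 g8 chkTree_2_s9
  have g10 : allB (fun j => chkTree (Nat.add 1860 j)) 682 = true :=
    seg_glue (chkTree) 1860 620 62 g9 chkTree_2_s10
  have g11 : allB (fun j => chkTree (Nat.add 1860 j)) 744 = true :=
    seg_glue (chkTree) 1860 682 62 g10 chkTree_2_s11
  have g12 : allB (fun j => chkTree (Nat.add 1860 j)) 806 = true :=
    seg_glue (chkTree) 1860 744 62 g11 chkTree_2_s12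
  have g13 : allB (fun j => chkTree (Nat.add 1860 j)) 868 = true :=
    seg_glue (chkTree) 1860 806 62 g12 chkTree_2_s13
  have g14 : allB (fun j => chkTree (Nat.add 1860 j)) 930 = true :=
    seg_glue (chkTree) 1860 868 62 g13 chkTree_2_s14
  exact g14

end Cfsg.Agent.H6.Co3
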