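import Cfsg.Agent.H6.Co3ChkLem

/-!
Kernel-evaluated certificate checks for the Conway group Co3 on 552 points: the spanning tree of the conjugation graph, part 6 (helper6).
The check is evaluated in short segments, glued at the end.
-/

set_option autoImplicit false

namespace Cfsg.Agent.H6.Co3

open Cfsg Cfsg.Agent.H9 Cfsg.Agent.H93 Cfsg.Agent.H33

theorem chkTree_6_s0 : allB (fun j => chkTree (Nat.add 5580 j)) 62 = true := by decide +kernel
theorem chkTree_6_s1 : allB (fun j => chkTree (Nat.add 5642 j)) 62 = true := by decide +kernel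
theorem chkTree_6_s2 : allB (fun j => chkTree (Nat.add 5704 j)) 62 = true := by decide +kernel
theorem chkTree_6_s3 : allB (fun j => chkTree (Nat.add 5766 j)) 62 = true := by decide +kernel
theorem chkTree_6_s4 : allB (fun j => chkTree (Nat.add 5828 j)) 62 = true := by decide +kernel
theorem chkTree_6_s5 : allB (fun j => chkTree (Nat.add 5890 j)) 62 = true := by decide +kernel
theorem chkTree_6_s6 : allB (fun j => chkTree (Nat.add 5952 j)) 62 = true := by decide +kernel
theorem chkTree_6_s7 : allB (fun j => chkTree (Nat.add 6014 j)) 62 = true := by decide +kernel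
theorem chkTree_6_s8 : allB (fun j => chkTree (Nat.add 6076 j)) 62 = true := by decide +kernel
theorem chkTree_6_s9 : allB (fun j => chkTree (Nat.add 6138 j)) 62 = true := by decide +kernel
theorem chkTree_6_s10 : allB (fun j => chkTree (Nat.add 6200 j)) 62 = true := by decide +kernel
theorem chkTree_6_s11 : allB (fun j => chkTree (Nat.add 6262 j)) 62 = true := by decide +kernel
theorem chkTree_6_s12 : allB (fun j => chkTree (Nat.add 6324 j)) 62 = true := by decide +kernel
theorem chkTree_6_s13 : allB (fun j => chkTree (Nat.add 6386 j)) 62 = true := by decide +kernel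
theorem chkTree_6_s14 : allB (fun j => chkTree (Nat.add 6448 j)) 62 = true := by decide +kernel

theorem chkTree_6 : allB (fun j => chkTree (Nat.add 5580 j)) 930 = true := by
  have g0 : allB (fun j => chkTree (Nat.add 5580 j)) 62 = true := chkTree_6_s0
  have g1 : allB (fun j => chkTree (Nat.add 5580 j)) 124 = true :=
    seg_glue (chkTree) 5580 62 62 g0 chkTree_6_s1
  have g2 : allB (fun j => chkTree (Nat.add 5580 j)) 186 = true :=
    seg_glue (chkTree) 5580 124 62 g1 chkTree_6_s2
  have g3 : allB (fun j => chkTree (Nat.add 5580 j)) 248 = true :=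
    seg_glue (chkTree) 5580 186 62 g2 chkTree_6_s3
  have g4 : allB (fun j => chkTree (Nat.add 5580 j)) 310 = true :=
    seg_glue (chkTree) 5580 248 62 g3 chkTree_6_s4
  have g5 : allB (fun j => chkTree (Nat.add 5580 j)) 372 = true :=
    seg_glue (chkTree) 5580 310 62 g4 chkTree_6_s5
  have g6 : allB (fun j => chkTree (Nat.add 5580 j)) 434 = true :=
    seg_glue (chkTree) 5580 372 62 g5 chkTree_6_s6
  have g7 : allB (fun j => chkTree (Nat.add 5580 j)) 496 = true :=
    seg_glue (chkTree) 5580 434 62 g6 chkTree_6_s7
  have g8 : allB (fun j => chkTree (Nat.add 5580 j)) 558 = true :=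
    seg_glue (chkTree) 5580 496 62 g7 chkTree_6_s8
  have g9 : allB (fun j => chkTree (Nat.add 5580 j)) 620 = true :=
    seg_glue (chkTree) 5580 558 62 g8 chkTree_6_s9
  have g10 : allB (fun j => chkTree (Nat.add 5580 j)) 682 = true :=
    seg_glue (chkTree) 5580 620 62 g9 chkTree_6_s10
  have g11 : allB (fun j => chkTree (Nat.add 5580 j)) 744 = true :=
    seg_glue (chkTree) 5580 682 62 g10 chkTree_6_s11
  have g12 : allB (fun j => chkTree (Nat.add 5580 j)) 806 = true :=
    seg_glue (chkTree) 5580 744 62 g11 chkTree_6_s12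
  have g13 : allB (fun j => chkTree (Nat.add 5580 j)) 868 = true :=
    seg_glue (chkTree) 5580 806 62 g12 chkTree_6_s13
  have g14 : allB (fun j => chkTree (Nat.add 5580 j)) 930 = true :=
    seg_glue (chkTree) 5580 868 62 g13 chkTree_6_s14
  exact g14

end Cfsg.Agent.H6.Co3
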