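import Mathlib

/-! Tables for an explicit homomorphism `SL₂(9) → S₆` with kernel `±1` (helper6).
`F₉ = F₃[i]`; an element `re + im·i` is coded `3·re + im`.  The tables are indexed by the codes
of the four entries `a b c d` of a matrix; entries of matrices of determinant `≠ 1` are `0`.
`tblF` gives the image, a permutation being coded by the base-6 digits `d₀..d₄` with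
`σ = swap 0 d₀ * swap 1 d₁ * ... * swap 4 d₄`; `tblD` gives the word length with respect to the
generators `!![1,1;0,1]`, `!![1,i;0,1]`, `!![1,0;1,1]`. -/

set_option autoImplicit false

namespace Cfsg.Agent.H6.L29

def tblF : List (List (List (List ℕ))) := [
  [[[0, 0, 0, 0, 0, 0, 0, 0, 0], [0, 0, 0, 0, 0, 0, 0, 0, 0], [0, 0, 0, 0, 0, 0, 0, 0, 0], [0, 0, 0, 0, 0, 0, 0, 0, 0], [0, 0, 0, 0, 0, 0, 0, 0, 0], [0, 0, 0, 0, 0, 0, 0, 0, 0], [0, 0, 0, 0, 0, 0, 0, 0, 0], [0, 0, 0, 0, 0, 0, 0, 0, 0], [0, 0, 0, 0, 0, 0, 0, 0, 0]],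
   [[0, 0, 0, 0, 0, 0, 0, 0, 0], [7242, 7255, 7257, 6162, 6175, 6177, 6378, 6391, 6393], [0, 0, 0, 0, 0, 0, 0, 0, 0], [0, 0, 0, 0, 0, 0, 0, 0, 0], [0, 0, 0, 0, 0, 0, 0, 0, 0], [0, 0, 0, 0, 0, 0, 0, 0, 0], [0, 0, 0, 0, 0, 0, 0, 0, 0], [0, 0, 0, 0, 0, 0, 0, 0, 0], [0, 0, 0, 0, 0, 0, 0, 0, 0]],
   [[0, 0, 0, 0, 0, 0, 0, 0, 0], [0, 0, 0, 0, 0, 0, 0, 0, 0], [7242, 7257, 7255, 6378, 6393, 6391, 6162, 6177, 6175], [0, 0, 0, 0, 0, 0, 0, 0, 0], [0, 0, 0, 0, 0, 0, 0, 0, 0], [0, 0, 0, 0, 0, 0, 0, 0, 0], [0, 0, 0, 0, 0, 0, 0, 0, 0], [0, 0, 0, 0, 0, 0, 0, 0, 0], [0, 0, 0, 0, 0, 0, 0, 0, 0]],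
   [[0, 0, 0, 0, 0, 0, 0, 0, 0], [0, 0, 0, 0, 0, 0, 0, 0, 0], [0, 0, 0, 0, 0, 0, 0, 0, 0], [0, 0, 0, 0, 0, 0, 0, 0, 0], [0, 0, 0, 0, 0, 0, 0, 0, 0], [0, 0, 0, 0, 0, 0, 0, 0, 0], [5947, 7675, 7459, 5949, 7677, 7461, 5958, 7686, 7470], [0, 0, 0, 0, 0, 0, 0, 0, 0], [0, 0, 0, 0, 0, 0, 0, 0, 0]],
   [[0, 0, 0, 0, 0, 0, 0, 0, 0], [0, 0, 0, 0, 0, 0, 0, 0, 0], [0, 0, 0, 0, 0, 0, 0, 0, 0], [0, 0, 0, 0, 0, 0, 0, 0, 0], [0, 0, 0, 0, 0, 0, 0, 0, 0], [5938, 6209, 6470, 6254, 7450, 7289, 6425, 7334, 7666], [0, 0, 0, 0, 0, 0, 0, 0, 0], [0, 0, 0, 0, 0, 0, 0, 0, 0], [0, 0, 0, 0, 0, 0, 0, 0, 0]],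
   [[0, 0, 0, 0, 0, 0, 0, 0, 0], [0, 0, 0, 0, 0, 0, 0, 0, 0], [0, 0, 0, 0, 0, 0, 0, 0, 0], [0, 0, 0, 0, 0, 0, 0, 0, 0], [5933, 6224, 6460, 6440, 7324, 7661, 6244, 7445, 7304], [0, 0, 0, 0, 0, 0, 0, 0, 0], [0, 0, 0, 0, 0, 0, 0, 0, 0], [0, 0, 0, 0, 0, 0, 0, 0, 0], [0, 0, 0, 0, 0, 0, 0, 0, 0]],
   [[0, 0, 0, 0, 0, 0, 0, 0, 0], [0, 0, 0, 0, 0, 0, 0, 0, 0], [0, 0, 0, 0, 0, 0, 0, 0, 0], [5947, 7459, 7675, 5958, 7470, 7686, 5949, 7461, 7677], [0, 0, 0, 0, 0, 0, 0, 0, 0], [0, 0, 0, 0, 0, 0, 0, 0, 0], [0, 0, 0, 0, 0, 0, 0, 0, 0], [0, 0, 0, 0, 0, 0, 0, 0, 0], [0, 0, 0, 0, 0, 0, 0, 0, 0]],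
   [[0, 0, 0, 0, 0, 0, 0, 0, 0], [0, 0, 0, 0, 0, 0, 0, 0, 0], [0, 0, 0, 0, 0, 0, 0, 0, 0], [0, 0, 0, 0, 0, 0, 0, 0, 0], [0, 0, 0, 0, 0, 0, 0, 0, 0], [0, 0, 0, 0, 0, 0, 0, 0, 0], [0, 0, 0, 0, 0, 0, 0, 0, 0], [0, 0, 0, 0, 0, 0, 0, 0, 0], [5933, 6460, 6224, 6244, 7304, 7445, 6440, 7661, 7324]],
   [[0, 0, 0, 0, 0, 0, 0, 0, 0], [0, 0, 0, 0, 0, 0, 0, 0, 0], [0, 0, 0, 0, 0, 0, 0, 0, 0], [0, 0, 0, 0, 0, 0, 0, 0, 0], [0, 0, 0, 0, 0, 0, 0, 0, 0], [0, 0, 0, 0, 0, 0, 0, 0, 0], [0, 0, 0, 0, 0, 0, 0, 0, 0], [5938, 6470, 6209, 6425, 7666, 7334, 6254, 7289, 7450], [0, 0, 0, 0, 0, 0, 0, 0, 0]]],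
  [[[0, 0, 7207, 0, 0, 0, 0, 0, 0], [0, 0, 7209, 0, 0, 0, 0, 0, 0], [0, 0, 7218, 0, 0, 0, 0, 0, 0], [0, 0, 5983, 0, 0, 0, 0, 0, 0], [0, 0, 5985, 0, 0, 0, 0, 0, 0], [0, 0, 5994, 0, 0, 0, 0, 0, 0], [0, 0, 6019, 0, 0, 0, 0, 0, 0], [0, 0, 6021, 0, 0, 0, 0, 0, 0], [0, 0, 6030, 0, 0, 0, 0, 0, 0]],
   [[0, 0, 7212, 0, 0, 0, 0, 0, 0], [7249, 0, 0, 0, 0, 0, 0, 0, 0], [0, 7251, 0, 0, 0, 0, 0, 0, 0], [0, 0, 0, 0, 0, 6000, 0, 0, 0], [0, 0, 0, 6181, 0, 0, 0, 0, 0], [0, 0, 0, 0, 6183, 0, 0, 0, 0], [0, 0, 0, 0, 0, 0, 0, 0, 6042], [0, 0, 0, 0, 0, 0, 6403, 0, 0], [0, 0, 0, 0, 0, 0, 0, 6405, 0]],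
   [[0, 0, 7208, 0, 0, 0, 0, 0, 0], [0, 7256, 0, 0, 0, 0, 0, 0, 0], [7250, 0, 0, 0, 0, 0, 0, 0, 0], [0, 0, 0, 0, 0, 0, 0, 0, 5986], [0, 0, 0, 0, 0, 0, 0, 6178, 0], [0, 0, 0, 0, 0, 0, 6184, 0, 0], [0, 0, 0, 0, 0, 6023, 0, 0, 0], [0, 0, 0, 0, 6395, 0, 0, 0, 0], [0, 0, 0, 6407, 0, 0, 0, 0, 0]],
   [[0, 0, 6127, 0, 0, 0, 0, 0, 0], [0, 0, 0, 0, 0, 6129, 0, 0, 0], [0, 0, 0, 0, 0, 0, 0, 0, 6138], [0, 7711, 0, 0, 0, 0, 0, 0, 0], [0, 0, 0, 0, 7713, 0, 0, 0, 0], [0, 0, 0, 0, 0, 0, 0, 7722, 0], [7747, 0, 0, 0, 0, 0, 0, 0, 0], [0, 0, 0, 7749, 0, 0, 0, 0, 0], [0, 0, 0, 0, 0, 0, 7758, 0, 0]],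
   [[0, 0, 6132, 0, 0, 0, 0, 0, 0], [0, 0, 0, 6169, 0, 0, 0, 0, 0], [0, 0, 0, 0, 0, 0, 0, 6171, 0], [0, 0, 0, 0, 7728, 0, 0, 0, 0], [0, 0, 0, 0, 0, 0, 0, 0, 6397], [6399, 0, 0, 0, 0, 0, 0, 0, 0], [0, 0, 0, 0, 0, 0, 7770, 0, 0], [0, 7267, 0, 0, 0, 0, 0, 0, 0], [0, 0, 0, 0, 0, 7269, 0, 0, 0]],
   [[0, 0, 6128, 0, 0, 0, 0, 0, 0], [0, 0, 0, 0, 6176, 0, 0, 0, 0], [0, 0, 0, 0, 0, 0, 6170, 0, 0], [0, 0, 0, 0, 0, 0, 0, 7714, 0], [6394, 0, 0, 0, 0, 0, 0, 0, 0], [0, 0, 0, 0, 0, 6400, 0, 0, 0], [0, 0, 0, 7751, 0, 0, 0, 0, 0], [0, 0, 0, 0, 0, 0, 0, 0, 7259], [0, 7271, 0, 0, 0, 0, 0, 0, 0]],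
   [[0, 0, 6343, 0, 0, 0, 0, 0, 0], [0, 0, 0, 0, 0, 0, 0, 0, 6345], [0, 0, 0, 0, 0, 6354, 0, 0, 0], [7495, 0, 0, 0, 0, 0, 0, 0, 0], [0, 0, 0, 0, 0, 0, 7497, 0, 0], [0, 0, 0, 7506, 0, 0, 0, 0, 0], [0, 7531, 0, 0, 0, 0, 0, 0, 0], [0, 0, 0, 0, 0, 0, 0, 7533, 0], [0, 0, 0, 0, 7542, 0, 0, 0, 0]],
   [[0, 0, 6348, 0, 0, 0, 0, 0, 0], [0, 0, 0, 0, 0, 0, 6385, 0, 0], [0, 0, 0, 0, 6387, 0, 0, 0, 0], [0, 0, 0, 7512, 0, 0, 0, 0, 0], [0, 7261, 0, 0, 0, 0, 0, 0, 0], [0, 0, 0, 0, 0, 0, 0, 0, 7263], [0, 0, 0, 0, 0, 0, 0, 7554, 0], [0, 0, 0, 0, 0, 6187, 0, 0, 0], [6189, 0, 0, 0, 0, 0, 0, 0, 0]],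
   [[0, 0, 6344, 0, 0, 0, 0, 0, 0], [0, 0, 0, 0, 0, 0, 0, 6392, 0], [0, 0, 0, 6386, 0, 0, 0, 0, 0], [0, 0, 0, 0, 0, 0, 7498, 0, 0], [0, 0, 0, 0, 0, 7258, 0, 0, 0], [0, 7264, 0, 0, 0, 0, 0, 0, 0], [0, 0, 0, 0, 7535, 0, 0, 0, 0], [6179, 0, 0, 0, 0, 0, 0, 0, 0], [0, 0, 0, 0, 0, 0, 0, 0, 6191]]],
  [[[0, 7207, 0, 0, 0, 0, 0, 0, 0], [0, 7218, 0, 0, 0, 0, 0, 0, 0], [0, 7209, 0, 0, 0, 0, 0, 0, 0], [0, 6019, 0, 0, 0, 0, 0, 0, 0], [0, 6030, 0, 0, 0, 0, 0, 0, 0], [0, 6021, 0, 0, 0, 0, 0, 0, 0], [0, 5983, 0, 0, 0, 0, 0, 0, 0], [0, 5994, 0, 0, 0, 0, 0, 0, 0], [0, 5985, 0, 0, 0, 0, 0, 0, 0]],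
   [[0, 7208, 0, 0, 0, 0, 0, 0, 0], [7250, 0, 0, 0, 0, 0, 0, 0, 0], [0, 0, 7256, 0, 0, 0, 0, 0, 0], [0, 0, 0, 0, 0, 0, 0, 6023, 0], [0, 0, 0, 0, 0, 0, 6407, 0, 0], [0, 0, 0, 0, 0, 0, 0, 0, 6395], [0, 0, 0, 0, 5986, 0, 0, 0, 0], [0, 0, 0, 6184, 0, 0, 0, 0, 0], [0, 0, 0, 0, 0, 6178, 0, 0, 0]],
   [[0, 7212, 0, 0, 0, 0, 0, 0, 0], [0, 0, 7251, 0, 0, 0, 0, 0, 0], [7249, 0, 0, 0, 0, 0, 0, 0, 0], [0, 0, 0, 0, 6042, 0, 0, 0, 0], [0, 0, 0, 0, 0, 6405, 0, 0, 0], [0, 0, 0, 6403, 0, 0, 0, 0, 0], [0, 0, 0, 0, 0, 0, 0, 6000, 0], [0, 0, 0, 0, 0, 0, 0, 0, 6183], [0, 0, 0, 0, 0, 0, 6181, 0, 0]],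
   [[0, 6343, 0, 0, 0, 0, 0, 0, 0], [0, 0, 0, 0, 0, 0, 0, 6354, 0], [0, 0, 0, 0, 6345, 0, 0, 0, 0], [0, 0, 7531, 0, 0, 0, 0, 0, 0], [0, 0, 0, 0, 0, 0, 0, 0, 7542], [0, 0, 0, 0, 0, 7533, 0, 0, 0], [7495, 0, 0, 0, 0, 0, 0, 0, 0], [0, 0, 0, 0, 0, 0, 7506, 0, 0], [0, 0, 0, 7497, 0, 0, 0, 0, 0]],
   [[0, 6344, 0, 0, 0, 0, 0, 0, 0], [0, 0, 0, 0, 0, 0, 6386, 0, 0], [0, 0, 0, 0, 0, 6392, 0, 0, 0], [0, 0, 0, 0, 0, 0, 0, 0, 7535], [0, 0, 0, 0, 6191, 0, 0, 0, 0], [6179, 0, 0, 0, 0, 0, 0, 0, 0], [0, 0, 0, 7498, 0, 0, 0, 0, 0], [0, 0, 7264, 0, 0, 0, 0, 0, 0], [0, 0, 0, 0, 0, 0, 0, 7258, 0]],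
   [[0, 6348, 0, 0, 0, 0, 0, 0, 0], [0, 0, 0, 0, 0, 0, 0, 0, 6387], [0, 0, 0, 6385, 0, 0, 0, 0, 0], [0, 0, 0, 0, 0, 7554, 0, 0, 0], [6189, 0, 0, 0, 0, 0, 0, 0, 0], [0, 0, 0, 0, 0, 0, 0, 6187, 0], [0, 0, 0, 0, 0, 0, 7512, 0, 0], [0, 0, 0, 0, 7263, 0, 0, 0, 0], [0, 0, 7261, 0, 0, 0, 0, 0, 0]],
   [[0, 6127, 0, 0, 0, 0, 0, 0, 0], [0, 0, 0, 0, 6138, 0, 0, 0, 0], [0, 0, 0, 0, 0, 0, 0, 6129, 0], [7747, 0, 0, 0, 0, 0, 0, 0, 0], [0, 0, 0, 7758, 0, 0, 0, 0, 0], [0, 0, 0, 0, 0, 0, 7749, 0, 0], [0, 0, 7711, 0, 0, 0, 0, 0, 0], [0, 0, 0, 0, 0, 7722, 0, 0, 0], [0, 0, 0, 0, 0, 0, 0, 0, 7713]],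
   [[0, 6128, 0, 0, 0, 0, 0, 0, 0], [0, 0, 0, 6170, 0, 0, 0, 0, 0], [0, 0, 0, 0, 0, 0, 0, 0, 6176], [0, 0, 0, 0, 0, 0, 7751, 0, 0], [0, 0, 7271, 0, 0, 0, 0, 0, 0], [0, 0, 0, 0, 7259, 0, 0, 0, 0], [0, 0, 0, 0, 0, 7714, 0, 0, 0], [0, 0, 0, 0, 0, 0, 0, 6400, 0], [6394, 0, 0, 0, 0, 0, 0, 0, 0]],
   [[0, 6132, 0, 0, 0, 0, 0, 0, 0], [0, 0, 0, 0, 0, 6171, 0, 0, 0], [0, 0, 0, 0, 0, 0, 6169, 0, 0], [0, 0, 0, 7770, 0, 0, 0, 0, 0], [0, 0, 0, 0, 0, 0, 0, 7269, 0], [0, 0, 7267, 0, 0, 0, 0, 0, 0], [0, 0, 0, 0, 0, 0, 0, 0, 7728], [6399, 0, 0, 0, 0, 0, 0, 0, 0], [0, 0, 0, 0, 6397, 0, 0, 0, 0]]],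
  [[[0, 0, 0, 5910, 0, 0, 0, 0, 0], [0, 0, 0, 7314, 0, 0, 0, 0, 0], [0, 0, 0, 7278, 0, 0, 0, 0, 0], [0, 0, 0, 5923, 0, 0, 0, 0, 0], [0, 0, 0, 7327, 0, 0, 0, 0, 0], [0, 0, 0, 7291, 0, 0, 0, 0, 0], [0, 0, 0, 5925, 0, 0, 0, 0, 0], [0, 0, 0, 7329, 0, 0, 0, 0, 0], [0, 0, 0, 7293, 0, 0, 0, 0, 0]],
   [[0, 0, 0, 7422, 0, 0, 0, 0, 0], [6450, 0, 0, 0, 0, 0, 0, 0, 0], [0, 0, 0, 0, 0, 0, 6414, 0, 0], [0, 0, 0, 0, 7435, 0, 0, 0, 0], [0, 6463, 0, 0, 0, 0, 0, 0, 0], [0, 0, 0, 0, 0, 0, 0, 6427, 0], [0, 0, 0, 0, 0, 7437, 0, 0, 0], [0, 0, 6465, 0, 0, 0, 0, 0, 0], [0, 0, 0, 0, 0, 0, 0, 0, 6429]],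
   [[0, 0, 0, 7638, 0, 0, 0, 0, 0], [0, 0, 0, 0, 0, 0, 6234, 0, 0], [6198, 0, 0, 0, 0, 0, 0, 0, 0], [0, 0, 0, 0, 0, 7651, 0, 0, 0], [0, 0, 0, 0, 0, 0, 0, 0, 6247], [0, 0, 6211, 0, 0, 0, 0, 0, 0], [0, 0, 0, 0, 7653, 0, 0, 0, 0], [0, 0, 0, 0, 0, 0, 0, 6249, 0], [0, 6213, 0, 0, 0, 0, 0, 0, 0]],
   [[0, 0, 0, 5917, 0, 0, 0, 0, 0], [0, 0, 0, 0, 7339, 0, 0, 0, 0], [0, 0, 0, 0, 0, 7297, 0, 0, 0], [0, 0, 0, 0, 0, 0, 5919, 0, 0], [0, 0, 0, 0, 0, 0, 0, 7341, 0], [0, 0, 0, 0, 0, 0, 0, 0, 7299], [5952, 0, 0, 0, 0, 0, 0, 0, 0], [0, 7698, 0, 0, 0, 0, 0, 0, 0], [0, 0, 7476, 0, 0, 0, 0, 0, 0]],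
   [[0, 0, 0, 7429, 0, 0, 0, 0, 0], [0, 6475, 0, 0, 0, 0, 0, 0, 0], [0, 0, 0, 0, 0, 0, 0, 0, 6433], [0, 0, 0, 0, 0, 0, 0, 7431, 0], [0, 0, 0, 0, 0, 6477, 0, 0, 0], [6435, 0, 0, 0, 0, 0, 0, 0, 0], [0, 0, 7464, 0, 0, 0, 0, 0, 0], [0, 0, 0, 0, 0, 0, 5970, 0, 0], [0, 0, 0, 0, 7692, 0, 0, 0, 0]],
   [[0, 0, 0, 7645, 0, 0, 0, 0, 0], [0, 0, 0, 0, 0, 0, 0, 6259, 0], [0, 0, 6217, 0, 0, 0, 0, 0, 0], [0, 0, 0, 0, 0, 0, 0, 0, 7647], [6261, 0, 0, 0, 0, 0, 0, 0, 0], [0, 0, 0, 0, 6219, 0, 0, 0, 0], [0, 7680, 0, 0, 0, 0, 0, 0, 0], [0, 0, 0, 0, 0, 7482, 0, 0, 0], [0, 0, 0, 0, 0, 0, 5964, 0, 0]],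
   [[0, 0, 0, 5918, 0, 0, 0, 0, 0], [0, 0, 0, 0, 0, 7343, 0, 0, 0], [0, 0, 0, 0, 7300, 0, 0, 0, 0], [5948, 0, 0, 0, 0, 0, 0, 0, 0], [0, 0, 7679, 0, 0, 0, 0, 0, 0], [0, 7462, 0, 0, 0, 0, 0, 0, 0], [0, 0, 0, 0, 0, 0, 5924, 0, 0], [0, 0, 0, 0, 0, 0, 0, 0, 7331], [0, 0, 0, 0, 0, 0, 0, 7294, 0]],
   [[0, 0, 0, 7430, 0, 0, 0, 0, 0], [0, 0, 6479, 0, 0, 0, 0, 0, 0], [0, 0, 0, 0, 0, 0, 0, 6436, 0], [0, 7460, 0, 0, 0, 0, 0, 0, 0], [0, 0, 0, 0, 0, 0, 5951, 0, 0], [0, 0, 0, 0, 0, 7678, 0, 0, 0], [0, 0, 0, 0, 0, 0, 0, 0, 7436], [0, 0, 0, 0, 6467, 0, 0, 0, 0], [6430, 0, 0, 0, 0, 0, 0, 0, 0]],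
   [[0, 0, 0, 7646, 0, 0, 0, 0, 0], [0, 0, 0, 0, 0, 0, 0, 0, 6263], [0, 6220, 0, 0, 0, 0, 0, 0, 0], [0, 0, 7676, 0, 0, 0, 0, 0, 0], [0, 0, 0, 0, 7463, 0, 0, 0, 0], [0, 0, 0, 0, 0, 0, 5950, 0, 0], [0, 0, 0, 0, 0, 0, 0, 7652, 0], [6251, 0, 0, 0, 0, 0, 0, 0, 0], [0, 0, 0, 0, 0, 6214, 0, 0, 0]]],
  [[[0, 0, 0, 0, 0, 0, 0, 7265, 0], [0, 0, 0, 0, 0, 0, 0, 6260, 0], [0, 0, 0, 0, 0, 0, 0, 6424, 0], [0, 0, 0, 0, 0, 0, 0, 7648, 0], [0, 0, 0, 0, 0, 0, 0, 6473, 0], [0, 0, 0, 0, 0, 0, 0, 6188, 0], [0, 0, 0, 0, 0, 0, 0, 7448, 0], [0, 0, 0, 0, 0, 0, 0, 6388, 0], [0, 0, 0, 0, 0, 0, 0, 6221, 0]],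
   [[0, 0, 0, 0, 0, 0, 0, 6441, 0], [6457, 0, 0, 0, 0, 0, 0, 0, 0], [0, 0, 0, 0, 0, 7224, 0, 0, 0], [0, 0, 0, 7441, 0, 0, 0, 0, 0], [0, 0, 0, 0, 0, 0, 0, 0, 6006], [0, 6459, 0, 0, 0, 0, 0, 0, 0], [0, 0, 6024, 0, 0, 0, 0, 0, 0], [0, 0, 0, 0, 7443, 0, 0, 0, 0], [0, 0, 0, 0, 0, 0, 6439, 0, 0]],
   [[0, 0, 0, 0, 0, 0, 0, 6250, 0], [0, 0, 0, 0, 0, 7211, 0, 0, 0], [6206, 0, 0, 0, 0, 0, 0, 0, 0], [0, 0, 5984, 0, 0, 0, 0, 0, 0], [0, 0, 0, 0, 0, 0, 6256, 0, 0], [0, 0, 0, 0, 7655, 0, 0, 0, 0], [0, 0, 0, 7667, 0, 0, 0, 0, 0], [0, 6212, 0, 0, 0, 0, 0, 0, 0], [0, 0, 0, 0, 0, 0, 0, 0, 6022]],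
   [[0, 0, 0, 0, 0, 0, 0, 7305, 0], [0, 0, 0, 7321, 0, 0, 0, 0, 0], [0, 0, 6144, 0, 0, 0, 0, 0, 0], [0, 0, 0, 0, 0, 5929, 0, 0, 0], [0, 7734, 0, 0, 0, 0, 0, 0, 0], [0, 0, 0, 0, 0, 0, 7323, 0, 0], [7752, 0, 0, 0, 0, 0, 0, 0, 0], [0, 0, 0, 0, 0, 0, 0, 0, 5931], [0, 0, 0, 0, 7303, 0, 0, 0, 0]],
   [[0, 0, 0, 0, 0, 0, 0, 6466, 0], [0, 0, 0, 0, 0, 0, 0, 0, 6131], [0, 0, 0, 0, 0, 0, 6422, 0, 0], [0, 7712, 0, 0, 0, 0, 0, 0, 0], [0, 0, 6472, 0, 0, 0, 0, 0, 0], [7439, 0, 0, 0, 0, 0, 0, 0, 0], [0, 0, 0, 0, 7451, 0, 0, 0, 0], [0, 0, 0, 0, 0, 6428, 0, 0, 0], [0, 0, 0, 7750, 0, 0, 0, 0, 0]],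
   [[0, 0, 0, 0, 0, 0, 0, 6185, 0], [0, 6476, 0, 0, 0, 0, 0, 0, 0], [0, 0, 0, 0, 7288, 0, 0, 0, 0], [0, 0, 0, 0, 0, 0, 7432, 0, 0], [7337, 0, 0, 0, 0, 0, 0, 0, 0], [0, 0, 0, 6404, 0, 0, 0, 0, 0], [0, 0, 0, 0, 0, 0, 0, 0, 5936], [0, 0, 7252, 0, 0, 0, 0, 0, 0], [0, 0, 0, 0, 0, 6437, 0, 0, 0]],
   [[0, 0, 0, 0, 0, 0, 0, 7330, 0], [0, 0, 6347, 0, 0, 0, 0, 0, 0], [0, 0, 0, 7286, 0, 0, 0, 0, 0], [7496, 0, 0, 0, 0, 0, 0, 0, 0], [0, 0, 0, 0, 7336, 0, 0, 0, 0], [0, 0, 0, 0, 0, 0, 0, 0, 5927], [0, 0, 0, 0, 0, 5939, 0, 0, 0], [0, 0, 0, 0, 0, 0, 7292, 0, 0], [0, 7534, 0, 0, 0, 0, 0, 0, 0]],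
   [[0, 0, 0, 0, 0, 0, 0, 6401, 0], [0, 0, 0, 0, 7340, 0, 0, 0, 0], [0, 6208, 0, 0, 0, 0, 0, 0, 0], [0, 0, 0, 0, 0, 0, 0, 0, 5920], [0, 0, 0, 0, 0, 6257, 0, 0, 0], [0, 0, 7268, 0, 0, 0, 0, 0, 0], [0, 0, 0, 0, 0, 0, 7664, 0, 0], [0, 0, 0, 6172, 0, 0, 0, 0, 0], [7301, 0, 0, 0, 0, 0, 0, 0, 0]],
   [[0, 0, 0, 0, 0, 0, 0, 6225, 0], [0, 0, 0, 0, 0, 0, 6241, 0, 0], [0, 0, 0, 0, 0, 0, 0, 0, 6360], [0, 0, 0, 0, 7657, 0, 0, 0, 0], [0, 0, 0, 7518, 0, 0, 0, 0, 0], [0, 0, 0, 0, 0, 6243, 0, 0, 0], [0, 7536, 0, 0, 0, 0, 0, 0, 0], [7659, 0, 0, 0, 0, 0, 0, 0, 0], [0, 0, 6223, 0, 0, 0, 0, 0, 0]]],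
  [[[0, 0, 0, 0, 0, 0, 0, 0, 7270], [0, 0, 0, 0, 0, 0, 0, 0, 6245], [0, 0, 0, 0, 0, 0, 0, 0, 6434], [0, 0, 0, 0, 0, 0, 0, 0, 7433], [0, 0, 0, 0, 0, 0, 0, 0, 6398], [0, 0, 0, 0, 0, 0, 0, 0, 6226], [0, 0, 0, 0, 0, 0, 0, 0, 7658], [0, 0, 0, 0, 0, 0, 0, 0, 6478], [0, 0, 0, 0, 0, 0, 0, 0, 6173]],
   [[0, 0, 0, 0, 0, 0, 0, 0, 6431], [6458, 0, 0, 0, 0, 0, 0, 0, 0], [0, 0, 0, 0, 7210, 0, 0, 0, 0], [0, 6020, 0, 0, 0, 0, 0, 0, 0], [0, 0, 0, 0, 0, 7438, 0, 0, 0], [0, 0, 0, 0, 0, 0, 6443, 0, 0], [0, 0, 0, 7444, 0, 0, 0, 0, 0], [0, 0, 0, 0, 0, 0, 0, 5987, 0], [0, 0, 6464, 0, 0, 0, 0, 0, 0]],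
   [[0, 0, 0, 0, 0, 0, 0, 0, 6255], [0, 0, 0, 0, 7230, 0, 0, 0, 0], [6205, 0, 0, 0, 0, 0, 0, 0, 0], [0, 0, 0, 7663, 0, 0, 0, 0, 0], [0, 0, 6207, 0, 0, 0, 0, 0, 0], [0, 0, 0, 0, 0, 0, 0, 6036, 0], [0, 5988, 0, 0, 0, 0, 0, 0, 0], [0, 0, 0, 0, 0, 0, 6253, 0, 0], [0, 0, 0, 0, 0, 7665, 0, 0, 0]],
   [[0, 0, 0, 0, 0, 0, 0, 0, 7335], [0, 6366, 0, 0, 0, 0, 0, 0, 0], [0, 0, 0, 7285, 0, 0, 0, 0, 0], [0, 0, 0, 0, 5935, 0, 0, 0, 0], [0, 0, 0, 0, 0, 0, 7287, 0, 0], [0, 0, 7548, 0, 0, 0, 0, 0, 0], [7500, 0, 0, 0, 0, 0, 0, 0, 0], [0, 0, 0, 0, 0, 7333, 0, 0, 0], [0, 0, 0, 0, 0, 0, 0, 5937, 0]],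
   [[0, 0, 0, 0, 0, 0, 0, 0, 6406], [0, 0, 0, 0, 0, 7325, 0, 0, 0], [0, 0, 6218, 0, 0, 0, 0, 0, 0], [0, 0, 0, 0, 0, 0, 7649, 0, 0], [0, 0, 0, 6182, 0, 0, 0, 0, 0], [7306, 0, 0, 0, 0, 0, 0, 0, 0], [0, 0, 0, 0, 0, 0, 0, 5930, 0], [0, 0, 0, 0, 6262, 0, 0, 0, 0], [0, 7253, 0, 0, 0, 0, 0, 0, 0]],
   [[0, 0, 0, 0, 0, 0, 0, 0, 6215], [0, 0, 0, 0, 0, 0, 6242, 0, 0], [0, 0, 0, 0, 0, 0, 0, 6346, 0], [0, 0, 7532, 0, 0, 0, 0, 0, 0], [7654, 0, 0, 0, 0, 0, 0, 0, 0], [0, 6227, 0, 0, 0, 0, 0, 0, 0], [0, 0, 0, 0, 0, 7660, 0, 0, 0], [0, 0, 0, 7499, 0, 0, 0, 0, 0], [0, 0, 0, 0, 6248, 0, 0, 0, 0]],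
   [[0, 0, 0, 0, 0, 0, 0, 0, 7295], [0, 0, 0, 7322, 0, 0, 0, 0, 0], [0, 6130, 0, 0, 0, 0, 0, 0, 0], [7748, 0, 0, 0, 0, 0, 0, 0, 0], [0, 0, 0, 0, 0, 0, 0, 5926, 0], [0, 0, 0, 0, 0, 7307, 0, 0, 0], [0, 0, 0, 0, 5932, 0, 0, 0, 0], [0, 0, 7715, 0, 0, 0, 0, 0, 0], [0, 0, 0, 0, 0, 0, 7328, 0, 0]],
   [[0, 0, 0, 0, 0, 0, 0, 0, 6471], [0, 0, 0, 0, 0, 0, 0, 6150, 0], [0, 0, 0, 0, 0, 0, 6421, 0, 0], [0, 0, 0, 0, 0, 7447, 0, 0, 0], [0, 0, 0, 0, 6423, 0, 0, 0, 0], [0, 0, 0, 7764, 0, 0, 0, 0, 0], [0, 0, 7716, 0, 0, 0, 0, 0, 0], [0, 6469, 0, 0, 0, 0, 0, 0, 0], [7449, 0, 0, 0, 0, 0, 0, 0, 0]],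
   [[0, 0, 0, 0, 0, 0, 0, 0, 6190], [0, 0, 6461, 0, 0, 0, 0, 0, 0], [0, 0, 0, 0, 0, 7298, 0, 0, 0], [0, 0, 0, 0, 0, 0, 0, 5921, 0], [0, 7262, 0, 0, 0, 0, 0, 0, 0], [0, 0, 0, 0, 6442, 0, 0, 0, 0], [0, 0, 0, 0, 0, 0, 7442, 0, 0], [7342, 0, 0, 0, 0, 0, 0, 0, 0], [0, 0, 0, 6389, 0, 0, 0, 0, 0]]],
  [[[0, 0, 0, 0, 0, 0, 5910, 0, 0], [0, 0, 0, 0, 0, 0, 7278, 0, 0], [0, 0, 0, 0, 0, 0, 7314, 0, 0], [0, 0, 0, 0, 0, 0, 5925, 0, 0], [0, 0, 0, 0, 0, 0, 7293, 0, 0], [0, 0, 0, 0, 0, 0, 7329, 0, 0], [0, 0, 0, 0, 0, 0, 5923, 0, 0], [0, 0, 0, 0, 0, 0, 7291, 0, 0], [0, 0, 0, 0, 0, 0, 7327, 0, 0]],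
   [[0, 0, 0, 0, 0, 0, 7638, 0, 0], [6198, 0, 0, 0, 0, 0, 0, 0, 0], [0, 0, 0, 6234, 0, 0, 0, 0, 0], [0, 0, 0, 0, 0, 0, 0, 0, 7653], [0, 0, 6213, 0, 0, 0, 0, 0, 0], [0, 0, 0, 0, 0, 6249, 0, 0, 0], [0, 0, 0, 0, 0, 0, 0, 7651, 0], [0, 6211, 0, 0, 0, 0, 0, 0, 0], [0, 0, 0, 0, 6247, 0, 0, 0, 0]],
   [[0, 0, 0, 0, 0, 0, 7422, 0, 0], [0, 0, 0, 6414, 0, 0, 0, 0, 0], [6450, 0, 0, 0, 0, 0, 0, 0, 0], [0, 0, 0, 0, 0, 0, 0, 7437, 0], [0, 0, 0, 0, 6429, 0, 0, 0, 0], [0, 6465, 0, 0, 0, 0, 0, 0, 0], [0, 0, 0, 0, 0, 0, 0, 0, 7435], [0, 0, 0, 0, 0, 6427, 0, 0, 0], [0, 0, 6463, 0, 0, 0, 0, 0, 0]],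
   [[0, 0, 0, 0, 0, 0, 5918, 0, 0], [0, 0, 0, 0, 0, 0, 0, 0, 7300], [0, 0, 0, 0, 0, 0, 0, 7343, 0], [0, 0, 0, 5924, 0, 0, 0, 0, 0], [0, 0, 0, 0, 0, 7294, 0, 0, 0], [0, 0, 0, 0, 7331, 0, 0, 0, 0], [5948, 0, 0, 0, 0, 0, 0, 0, 0], [0, 0, 7462, 0, 0, 0, 0, 0, 0], [0, 7679, 0, 0, 0, 0, 0, 0, 0]],
   [[0, 0, 0, 0, 0, 0, 7646, 0, 0], [0, 0, 6220, 0, 0, 0, 0, 0, 0], [0, 0, 0, 0, 6263, 0, 0, 0, 0], [0, 0, 0, 0, 0, 7652, 0, 0, 0], [0, 0, 0, 0, 0, 0, 0, 6214, 0], [6251, 0, 0, 0, 0, 0, 0, 0, 0], [0, 7676, 0, 0, 0, 0, 0, 0, 0], [0, 0, 0, 5950, 0, 0, 0, 0, 0], [0, 0, 0, 0, 0, 0, 0, 0, 7463]],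
   [[0, 0, 0, 0, 0, 0, 7430, 0, 0], [0, 0, 0, 0, 0, 6436, 0, 0, 0], [0, 6479, 0, 0, 0, 0, 0, 0, 0], [0, 0, 0, 0, 7436, 0, 0, 0, 0], [6430, 0, 0, 0, 0, 0, 0, 0, 0], [0, 0, 0, 0, 0, 0, 0, 0, 6467], [0, 0, 7460, 0, 0, 0, 0, 0, 0], [0, 0, 0, 0, 0, 0, 0, 7678, 0], [0, 0, 0, 5951, 0, 0, 0, 0, 0]],
   [[0, 0, 0, 0, 0, 0, 5917, 0, 0], [0, 0, 0, 0, 0, 0, 0, 7297, 0], [0, 0, 0, 0, 0, 0, 0, 0, 7339], [5952, 0, 0, 0, 0, 0, 0, 0, 0], [0, 7476, 0, 0, 0, 0, 0, 0, 0], [0, 0, 7698, 0, 0, 0, 0, 0, 0], [0, 0, 0, 5919, 0, 0, 0, 0, 0], [0, 0, 0, 0, 7299, 0, 0, 0, 0], [0, 0, 0, 0, 0, 7341, 0, 0, 0]],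
   [[0, 0, 0, 0, 0, 0, 7645, 0, 0], [0, 6217, 0, 0, 0, 0, 0, 0, 0], [0, 0, 0, 0, 0, 6259, 0, 0, 0], [0, 0, 7680, 0, 0, 0, 0, 0, 0], [0, 0, 0, 5964, 0, 0, 0, 0, 0], [0, 0, 0, 0, 0, 0, 0, 7482, 0], [0, 0, 0, 0, 7647, 0, 0, 0, 0], [0, 0, 0, 0, 0, 0, 0, 0, 6219], [6261, 0, 0, 0, 0, 0, 0, 0, 0]],
   [[0, 0, 0, 0, 0, 0, 7429, 0, 0], [0, 0, 0, 0, 6433, 0, 0, 0, 0], [0, 0, 6475, 0, 0, 0, 0, 0, 0], [0, 7464, 0, 0, 0, 0, 0, 0, 0], [0, 0, 0, 0, 0, 0, 0, 0, 7692], [0, 0, 0, 5970, 0, 0, 0, 0, 0], [0, 0, 0, 0, 0, 7431, 0, 0, 0], [6435, 0, 0, 0, 0, 0, 0, 0, 0], [0, 0, 0, 0, 0, 0, 0, 6477, 0]]],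
  [[[0, 0, 0, 0, 7270, 0, 0, 0, 0], [0, 0, 0, 0, 6434, 0, 0, 0, 0], [0, 0, 0, 0, 6245, 0, 0, 0, 0], [0, 0, 0, 0, 7658, 0, 0, 0, 0], [0, 0, 0, 0, 6173, 0, 0, 0, 0], [0, 0, 0, 0, 6478, 0, 0, 0, 0], [0, 0, 0, 0, 7433, 0, 0, 0, 0], [0, 0, 0, 0, 6226, 0, 0, 0, 0], [0, 0, 0, 0, 6398, 0, 0, 0, 0]],
   [[0, 0, 0, 0, 6255, 0, 0, 0, 0], [6205, 0, 0, 0, 0, 0, 0, 0, 0], [0, 0, 0, 0, 0, 0, 0, 0, 7230], [0, 0, 5988, 0, 0, 0, 0, 0, 0], [0, 0, 0, 0, 0, 0, 0, 7665, 0], [0, 0, 0, 6253, 0, 0, 0, 0, 0], [0, 0, 0, 0, 0, 0, 7663, 0, 0], [0, 0, 0, 0, 0, 6036, 0, 0, 0], [0, 6207, 0, 0, 0, 0, 0, 0, 0]],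
   [[0, 0, 0, 0, 6431, 0, 0, 0, 0], [0, 0, 0, 0, 0, 0, 0, 0, 7210], [6458, 0, 0, 0, 0, 0, 0, 0, 0], [0, 0, 0, 0, 0, 0, 7444, 0, 0], [0, 6464, 0, 0, 0, 0, 0, 0, 0], [0, 0, 0, 0, 0, 5987, 0, 0, 0], [0, 0, 6020, 0, 0, 0, 0, 0, 0], [0, 0, 0, 6443, 0, 0, 0, 0, 0], [0, 0, 0, 0, 0, 0, 0, 7438, 0]],
   [[0, 0, 0, 0, 7295, 0, 0, 0, 0], [0, 0, 6130, 0, 0, 0, 0, 0, 0], [0, 0, 0, 0, 0, 0, 7322, 0, 0], [0, 0, 0, 0, 0, 0, 0, 0, 5932], [0, 0, 0, 7328, 0, 0, 0, 0, 0], [0, 7715, 0, 0, 0, 0, 0, 0, 0], [7748, 0, 0, 0, 0, 0, 0, 0, 0], [0, 0, 0, 0, 0, 0, 0, 7307, 0], [0, 0, 0, 0, 0, 5926, 0, 0, 0]],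
   [[0, 0, 0, 0, 6190, 0, 0, 0, 0], [0, 0, 0, 0, 0, 0, 0, 7298, 0], [0, 6461, 0, 0, 0, 0, 0, 0, 0], [0, 0, 0, 7442, 0, 0, 0, 0, 0], [0, 0, 0, 0, 0, 0, 6389, 0, 0], [7342, 0, 0, 0, 0, 0, 0, 0, 0], [0, 0, 0, 0, 0, 5921, 0, 0, 0], [0, 0, 0, 0, 0, 0, 0, 0, 6442], [0, 0, 7262, 0, 0, 0, 0, 0, 0]],
   [[0, 0, 0, 0, 6471, 0, 0, 0, 0], [0, 0, 0, 6421, 0, 0, 0, 0, 0], [0, 0, 0, 0, 0, 6150, 0, 0, 0], [0, 7716, 0, 0, 0, 0, 0, 0, 0], [7449, 0, 0, 0, 0, 0, 0, 0, 0], [0, 0, 6469, 0, 0, 0, 0, 0, 0], [0, 0, 0, 0, 0, 0, 0, 7447, 0], [0, 0, 0, 0, 0, 0, 7764, 0, 0], [0, 0, 0, 0, 0, 0, 0, 0, 6423]],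
   [[0, 0, 0, 0, 7335, 0, 0, 0, 0], [0, 0, 0, 0, 0, 0, 7285, 0, 0], [0, 0, 6366, 0, 0, 0, 0, 0, 0], [7500, 0, 0, 0, 0, 0, 0, 0, 0], [0, 0, 0, 0, 0, 5937, 0, 0, 0], [0, 0, 0, 0, 0, 0, 0, 7333, 0], [0, 0, 0, 0, 0, 0, 0, 0, 5935], [0, 7548, 0, 0, 0, 0, 0, 0, 0], [0, 0, 0, 7287, 0, 0, 0, 0, 0]],
   [[0, 0, 0, 0, 6215, 0, 0, 0, 0], [0, 0, 0, 0, 0, 6346, 0, 0, 0], [0, 0, 0, 6242, 0, 0, 0, 0, 0], [0, 0, 0, 0, 0, 0, 0, 7660, 0], [0, 0, 0, 0, 0, 0, 0, 0, 6248], [0, 0, 0, 0, 0, 0, 7499, 0, 0], [0, 7532, 0, 0, 0, 0, 0, 0, 0], [0, 0, 6227, 0, 0, 0, 0, 0, 0], [7654, 0, 0, 0, 0, 0, 0, 0, 0]],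
   [[0, 0, 0, 0, 6406, 0, 0, 0, 0], [0, 6218, 0, 0, 0, 0, 0, 0, 0], [0, 0, 0, 0, 0, 0, 0, 7325, 0], [0, 0, 0, 0, 0, 5930, 0, 0, 0], [0, 0, 7253, 0, 0, 0, 0, 0, 0], [0, 0, 0, 0, 0, 0, 0, 0, 6262], [0, 0, 0, 7649, 0, 0, 0, 0, 0], [7306, 0, 0, 0, 0, 0, 0, 0, 0], [0, 0, 0, 0, 0, 0, 6182, 0, 0]]],
  [[[0, 0, 0, 0, 0, 7265, 0, 0, 0], [0, 0, 0, 0, 0, 6424, 0, 0, 0], [0, 0, 0, 0, 0, 6260, 0, 0, 0], [0, 0, 0, 0, 0, 7448, 0, 0, 0], [0, 0, 0, 0, 0, 6221, 0, 0, 0], [0, 0, 0, 0, 0, 6388, 0, 0, 0], [0, 0, 0, 0, 0, 7648, 0, 0, 0], [0, 0, 0, 0, 0, 6188, 0, 0, 0], [0, 0, 0, 0, 0, 6473, 0, 0, 0]],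
   [[0, 0, 0, 0, 0, 6250, 0, 0, 0], [6206, 0, 0, 0, 0, 0, 0, 0, 0], [0, 0, 0, 0, 0, 0, 0, 7211, 0], [0, 0, 0, 0, 0, 0, 7667, 0, 0], [0, 0, 0, 0, 6022, 0, 0, 0, 0], [0, 0, 6212, 0, 0, 0, 0, 0, 0], [0, 5984, 0, 0, 0, 0, 0, 0, 0], [0, 0, 0, 0, 0, 0, 0, 0, 7655], [0, 0, 0, 6256, 0, 0, 0, 0, 0]],
   [[0, 0, 0, 0, 0, 6441, 0, 0, 0], [0, 0, 0, 0, 0, 0, 0, 7224, 0], [6457, 0, 0, 0, 0, 0, 0, 0, 0], [0, 6024, 0, 0, 0, 0, 0, 0, 0], [0, 0, 0, 6439, 0, 0, 0, 0, 0], [0, 0, 0, 0, 0, 0, 0, 0, 7443], [0, 0, 0, 0, 0, 0, 7441, 0, 0], [0, 0, 6459, 0, 0, 0, 0, 0, 0], [0, 0, 0, 0, 6006, 0, 0, 0, 0]],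
   [[0, 0, 0, 0, 0, 7330, 0, 0, 0], [0, 0, 0, 0, 0, 0, 7286, 0, 0], [0, 6347, 0, 0, 0, 0, 0, 0, 0], [0, 0, 0, 0, 0, 0, 0, 5939, 0], [0, 0, 7534, 0, 0, 0, 0, 0, 0], [0, 0, 0, 7292, 0, 0, 0, 0, 0], [7496, 0, 0, 0, 0, 0, 0, 0, 0], [0, 0, 0, 0, 5927, 0, 0, 0, 0], [0, 0, 0, 0, 0, 0, 0, 0, 7336]],
   [[0, 0, 0, 0, 0, 6225, 0, 0, 0], [0, 0, 0, 0, 6360, 0, 0, 0, 0], [0, 0, 0, 6241, 0, 0, 0, 0, 0], [0, 0, 7536, 0, 0, 0, 0, 0, 0], [0, 6223, 0, 0, 0, 0, 0, 0, 0], [7659, 0, 0, 0, 0, 0, 0, 0, 0], [0, 0, 0, 0, 0, 0, 0, 0, 7657], [0, 0, 0, 0, 0, 0, 0, 6243, 0], [0, 0, 0, 0, 0, 0, 7518, 0, 0]],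
   [[0, 0, 0, 0, 0, 6401, 0, 0, 0], [0, 0, 6208, 0, 0, 0, 0, 0, 0], [0, 0, 0, 0, 0, 0, 0, 0, 7340], [0, 0, 0, 7664, 0, 0, 0, 0, 0], [7301, 0, 0, 0, 0, 0, 0, 0, 0], [0, 0, 0, 0, 0, 0, 6172, 0, 0], [0, 0, 0, 0, 5920, 0, 0, 0, 0], [0, 7268, 0, 0, 0, 0, 0, 0, 0], [0, 0, 0, 0, 0, 0, 0, 6257, 0]],
   [[0, 0, 0, 0, 0, 7305, 0, 0, 0], [0, 6144, 0, 0, 0, 0, 0, 0, 0], [0, 0, 0, 0, 0, 0, 7321, 0, 0], [7752, 0, 0, 0, 0, 0, 0, 0, 0], [0, 0, 0, 0, 0, 0, 0, 0, 7303], [0, 0, 0, 0, 5931, 0, 0, 0, 0], [0, 0, 0, 0, 0, 0, 0, 5929, 0], [0, 0, 0, 7323, 0, 0, 0, 0, 0], [0, 0, 7734, 0, 0, 0, 0, 0, 0]],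
   [[0, 0, 0, 0, 0, 6185, 0, 0, 0], [0, 0, 0, 0, 0, 0, 0, 0, 7288], [0, 0, 6476, 0, 0, 0, 0, 0, 0], [0, 0, 0, 0, 5936, 0, 0, 0, 0], [0, 0, 0, 0, 0, 0, 0, 6437, 0], [0, 7252, 0, 0, 0, 0, 0, 0, 0], [0, 0, 0, 7432, 0, 0, 0, 0, 0], [0, 0, 0, 0, 0, 0, 6404, 0, 0], [7337, 0, 0, 0, 0, 0, 0, 0, 0]],
   [[0, 0, 0, 0, 0, 6466, 0, 0, 0], [0, 0, 0, 6422, 0, 0, 0, 0, 0], [0, 0, 0, 0, 6131, 0, 0, 0, 0], [0, 0, 0, 0, 0, 0, 0, 0, 7451], [0, 0, 0, 0, 0, 0, 7750, 0, 0], [0, 0, 0, 0, 0, 0, 0, 6428, 0], [0, 0, 7712, 0, 0, 0, 0, 0, 0], [7439, 0, 0, 0, 0, 0, 0, 0, 0], [0, 6472, 0, 0, 0, 0, 0, 0, 0]]]]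

def tblD : List (List (List (List ℕ))) := [
  [[[0, 0, 0, 0, 0, 0, 0, 0, 0], [0, 0, 0, 0, 0, 0, 0, 0, 0], [0, 0, 0, 0, 0, 0, 0, 0, 0], [0, 0, 0, 0, 0, 0, 0, 0, 0], [0, 0, 0, 0, 0, 0, 0, 0, 0], [0, 0, 0, 0, 0, 0, 0, 0, 0], [0, 0, 0, 0, 0, 0, 0, 0, 0], [0, 0, 0, 0, 0, 0, 0, 0, 0], [0, 0, 0, 0, 0, 0, 0, 0, 0]],
   [[0, 0, 0, 0, 0, 0, 0, 0, 0], [9, 8, 8, 8, 7, 8, 10, 8, 9], [0, 0, 0, 0, 0, 0, 0, 0, 0], [0, 0, 0, 0, 0, 0, 0, 0, 0], [0, 0, 0, 0, 0, 0, 0, 0, 0], [0, 0, 0, 0, 0, 0, 0, 0, 0], [0, 0, 0, 0, 0, 0, 0, 0, 0], [0, 0, 0, 0, 0, 0, 0, 0, 0], [0, 0, 0, 0, 0, 0, 0, 0, 0]],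
   [[0, 0, 0, 0, 0, 0, 0, 0, 0], [0, 0, 0, 0, 0, 0, 0, 0, 0], [10, 9, 9, 8, 8, 7, 9, 9, 8], [0, 0, 0, 0, 0, 0, 0, 0, 0], [0, 0, 0, 0, 0, 0, 0, 0, 0], [0, 0, 0, 0, 0, 0, 0, 0, 0], [0, 0, 0, 0, 0, 0, 0, 0, 0], [0, 0, 0, 0, 0, 0, 0, 0, 0], [0, 0, 0, 0, 0, 0, 0, 0, 0]],
   [[0, 0, 0, 0, 0, 0, 0, 0, 0], [0, 0, 0, 0, 0, 0, 0, 0, 0], [0, 0, 0, 0, 0, 0, 0, 0, 0], [0, 0, 0, 0, 0, 0, 0, 0, 0], [0, 0, 0, 0, 0, 0, 0, 0, 0], [0, 0, 0, 0, 0, 0, 0, 0, 0], [4, 6, 5, 3, 5, 4, 4, 6, 5], [0, 0, 0, 0, 0, 0, 0, 0, 0], [0, 0, 0, 0, 0, 0, 0, 0, 0]],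
   [[0, 0, 0, 0, 0, 0, 0, 0, 0], [0, 0, 0, 0, 0, 0, 0, 0, 0], [0, 0, 0, 0, 0, 0, 0, 0, 0], [0, 0, 0, 0, 0, 0, 0, 0, 0], [0, 0, 0, 0, 0, 0, 0, 0, 0], [9, 7, 9, 7, 7, 8, 8, 8, 8], [0, 0, 0, 0, 0, 0, 0, 0, 0], [0, 0, 0, 0, 0, 0, 0, 0, 0], [0, 0, 0, 0, 0, 0, 0, 0, 0]],
   [[0, 0, 0, 0, 0, 0, 0, 0, 0], [0, 0, 0, 0, 0, 0, 0, 0, 0], [0, 0, 0, 0, 0, 0, 0, 0, 0], [0, 0, 0, 0, 0, 0, 0, 0, 0], [7, 7, 8, 8, 8, 6, 7, 7, 8], [0, 0, 0, 0, 0, 0, 0, 0, 0], [0, 0, 0, 0, 0, 0, 0, 0, 0], [0, 0, 0, 0, 0, 0, 0, 0, 0], [0, 0, 0, 0, 0, 0, 0, 0, 0]],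
   [[0, 0, 0, 0, 0, 0, 0, 0, 0], [0, 0, 0, 0, 0, 0, 0, 0, 0], [0, 0, 0, 0, 0, 0, 0, 0, 0], [4, 5, 6, 3, 4, 5, 4, 5, 6], [0, 0, 0, 0, 0, 0, 0, 0, 0], [0, 0, 0, 0, 0, 0, 0, 0, 0], [0, 0, 0, 0, 0, 0, 0, 0, 0], [0, 0, 0, 0, 0, 0, 0, 0, 0], [0, 0, 0, 0, 0, 0, 0, 0, 0]],
   [[0, 0, 0, 0, 0, 0, 0, 0, 0], [0, 0, 0, 0, 0, 0, 0, 0, 0], [0, 0, 0, 0, 0, 0, 0, 0, 0], [0, 0, 0, 0, 0, 0, 0, 0, 0], [0, 0, 0, 0, 0, 0, 0, 0, 0], [0, 0, 0, 0, 0, 0, 0, 0, 0], [0, 0, 0, 0, 0, 0, 0, 0, 0], [0, 0, 0, 0, 0, 0, 0, 0, 0], [7, 7, 6, 8, 7, 6, 7, 7, 8]],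
   [[0, 0, 0, 0, 0, 0, 0, 0, 0], [0, 0, 0, 0, 0, 0, 0, 0, 0], [0, 0, 0, 0, 0, 0, 0, 0, 0], [0, 0, 0, 0, 0, 0, 0, 0, 0], [0, 0, 0, 0, 0, 0, 0, 0, 0], [0, 0, 0, 0, 0, 0, 0, 0, 0], [0, 0, 0, 0, 0, 0, 0, 0, 0], [5, 8, 5, 7, 4, 7, 6, 6, 6], [0, 0, 0, 0, 0, 0, 0, 0, 0]]],
  [[[0, 0, 8, 0, 0, 0, 0, 0, 0], [0, 0, 7, 0, 0, 0, 0, 0, 0], [0, 0, 8, 0, 0, 0, 0, 0, 0], [0, 0, 7, 0, 0, 0, 0, 0, 0], [0, 0, 8, 0, 0, 0, 0, 0, 0], [0, 0, 8, 0, 0, 0, 0, 0, 0], [0, 0, 7, 0, 0, 0, 0, 0, 0], [0, 0, 8, 0, 0, 0, 0, 0, 0], [0, 0, 8, 0, 0, 0, 0, 0, 0]],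
   [[0, 0, 9, 0, 0, 0, 0, 0, 0], [8, 0, 0, 0, 0, 0, 0, 0, 0], [0, 9, 0, 0, 0, 0, 0, 0, 0], [0, 0, 0, 0, 0, 6, 0, 0, 0], [0, 0, 0, 7, 0, 0, 0, 0, 0], [0, 0, 0, 0, 8, 0, 0, 0, 0], [0, 0, 0, 0, 0, 0, 0, 0, 7], [0, 0, 0, 0, 0, 0, 8, 0, 0], [0, 0, 0, 0, 0, 0, 0, 6, 0]],
   [[0, 0, 9, 0, 0, 0, 0, 0, 0], [0, 8, 0, 0, 0, 0, 0, 0, 0], [9, 0, 0, 0, 0, 0, 0, 0, 0], [0, 0, 0, 0, 0, 0, 0, 0, 7], [0, 0, 0, 0, 0, 0, 0, 8, 0], [0, 0, 0, 0, 0, 0, 9, 0, 0], [0, 0, 0, 0, 0, 6, 0, 0, 0], [0, 0, 0, 0, 7, 0, 0, 0, 0], [0, 0, 0, 7, 0, 0, 0, 0, 0]],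
   [[0, 0, 8, 0, 0, 0, 0, 0, 0], [0, 0, 0, 0, 0, 6, 0, 0, 0], [0, 0, 0, 0, 0, 0, 0, 0, 7], [0, 6, 0, 0, 0, 0, 0, 0, 0], [0, 0, 0, 0, 7, 0, 0, 0, 0], [0, 0, 0, 0, 0, 0, 0, 8, 0], [6, 0, 0, 0, 0, 0, 0, 0, 0], [0, 0, 0, 7, 0, 0, 0, 0, 0], [0, 0, 0, 0, 0, 0, 7, 0, 0]],
   [[0, 0, 9, 0, 0, 0, 0, 0, 0], [0, 0, 0, 7, 0, 0, 0, 0, 0], [0, 0, 0, 0, 0, 0, 0, 8, 0], [0, 0, 0, 0, 5, 0, 0, 0, 0], [0, 0, 0, 0, 0, 0, 0, 0, 6], [7, 0, 0, 0, 0, 0, 0, 0, 0], [0, 0, 0, 0, 0, 0, 6, 0, 0], [0, 7, 0, 0, 0, 0, 0, 0, 0], [0, 0, 0, 0, 0, 5, 0, 0, 0]],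
   [[0, 0, 9, 0, 0, 0, 0, 0, 0], [0, 0, 0, 0, 7, 0, 0, 0, 0], [0, 0, 0, 0, 0, 0, 8, 0, 0], [0, 0, 0, 0, 0, 0, 0, 6, 0], [7, 0, 0, 0, 0, 0, 0, 0, 0], [0, 0, 0, 0, 0, 8, 0, 0, 0], [0, 0, 0, 5, 0, 0, 0, 0, 0], [0, 0, 0, 0, 0, 0, 0, 0, 6], [0, 6, 0, 0, 0, 0, 0, 0, 0]],
   [[0, 0, 7, 0, 0, 0, 0, 0, 0], [0, 0, 0, 0, 0, 0, 0, 0, 7], [0, 0, 0, 0, 0, 6, 0, 0, 0], [5, 0, 0, 0, 0, 0, 0, 0, 0], [0, 0, 0, 0, 0, 0, 6, 0, 0], [0, 0, 0, 7, 0, 0, 0, 0, 0], [0, 8, 0, 0, 0, 0, 0, 0, 0], [0, 0, 0, 0, 0, 0, 0, 9, 0], [0, 0, 0, 0, 9, 0, 0, 0, 0]],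
   [[0, 0, 8, 0, 0, 0, 0, 0, 0], [0, 0, 0, 0, 0, 0, 8, 0, 0], [0, 0, 0, 0, 7, 0, 0, 0, 0], [0, 0, 0, 4, 0, 0, 0, 0, 0], [0, 5, 0, 0, 0, 0, 0, 0, 0], [0, 0, 0, 0, 0, 0, 0, 0, 6], [0, 0, 0, 0, 0, 0, 0, 8, 0], [0, 0, 0, 0, 0, 9, 0, 0, 0], [7, 0, 0, 0, 0, 0, 0, 0, 0]],
   [[0, 0, 8, 0, 0, 0, 0, 0, 0], [0, 0, 0, 0, 0, 0, 0, 6, 0], [0, 0, 0, 7, 0, 0, 0, 0, 0], [0, 0, 0, 0, 0, 0, 5, 0, 0], [0, 0, 0, 0, 0, 6, 0, 0, 0], [0, 7, 0, 0, 0, 0, 0, 0, 0], [0, 0, 0, 0, 7, 0, 0, 0, 0], [8, 0, 0, 0, 0, 0, 0, 0, 0], [0, 0, 0, 0, 0, 0, 0, 0, 8]]],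
  [[[0, 8, 0, 0, 0, 0, 0, 0, 0], [0, 7, 0, 0, 0, 0, 0, 0, 0], [0, 8, 0, 0, 0, 0, 0, 0, 0], [0, 7, 0, 0, 0, 0, 0, 0, 0], [0, 8, 0, 0, 0, 0, 0, 0, 0], [0, 8, 0, 0, 0, 0, 0, 0, 0], [0, 7, 0, 0, 0, 0, 0, 0, 0], [0, 8, 0, 0, 0, 0, 0, 0, 0], [0, 8, 0, 0, 0, 0, 0, 0, 0]],
   [[0, 9, 0, 0, 0, 0, 0, 0, 0], [8, 0, 0, 0, 0, 0, 0, 0, 0], [0, 0, 7, 0, 0, 0, 0, 0, 0], [0, 0, 0, 0, 0, 0, 0, 7, 0], [0, 0, 0, 0, 0, 0, 9, 0, 0], [0, 0, 0, 0, 0, 0, 0, 0, 8], [0, 0, 0, 0, 6, 0, 0, 0, 0], [0, 0, 0, 7, 0, 0, 0, 0, 0], [0, 0, 0, 0, 0, 7, 0, 0, 0]],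
   [[0, 9, 0, 0, 0, 0, 0, 0, 0], [0, 0, 8, 0, 0, 0, 0, 0, 0], [9, 0, 0, 0, 0, 0, 0, 0, 0], [0, 0, 0, 0, 6, 0, 0, 0, 0], [0, 0, 0, 0, 0, 8, 0, 0, 0], [0, 0, 0, 7, 0, 0, 0, 0, 0], [0, 0, 0, 0, 0, 0, 0, 7, 0], [0, 0, 0, 0, 0, 0, 0, 0, 6], [0, 0, 0, 0, 0, 0, 8, 0, 0]],
   [[0, 8, 0, 0, 0, 0, 0, 0, 0], [0, 0, 0, 0, 0, 0, 0, 7, 0], [0, 0, 0, 0, 6, 0, 0, 0, 0], [0, 0, 8, 0, 0, 0, 0, 0, 0], [0, 0, 0, 0, 0, 0, 0, 0, 9], [0, 0, 0, 0, 0, 9, 0, 0, 0], [5, 0, 0, 0, 0, 0, 0, 0, 0], [0, 0, 0, 0, 0, 0, 6, 0, 0], [0, 0, 0, 6, 0, 0, 0, 0, 0]],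
   [[0, 9, 0, 0, 0, 0, 0, 0, 0], [0, 0, 0, 0, 0, 0, 9, 0, 0], [0, 0, 0, 0, 0, 8, 0, 0, 0], [0, 0, 0, 0, 0, 0, 0, 0, 8], [0, 0, 0, 0, 9, 0, 0, 0, 0], [9, 0, 0, 0, 0, 0, 0, 0, 0], [0, 0, 0, 4, 0, 0, 0, 0, 0], [0, 0, 5, 0, 0, 0, 0, 0, 0], [0, 0, 0, 0, 0, 0, 0, 5, 0]],
   [[0, 9, 0, 0, 0, 0, 0, 0, 0], [0, 0, 0, 0, 0, 0, 0, 0, 8], [0, 0, 0, 7, 0, 0, 0, 0, 0], [0, 0, 0, 0, 0, 7, 0, 0, 0], [8, 0, 0, 0, 0, 0, 0, 0, 0], [0, 0, 0, 0, 0, 0, 0, 8, 0], [0, 0, 0, 0, 0, 0, 5, 0, 0], [0, 0, 0, 0, 4, 0, 0, 0, 0], [0, 0, 6, 0, 0, 0, 0, 0, 0]],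
   [[0, 7, 0, 0, 0, 0, 0, 0, 0], [0, 0, 0, 0, 6, 0, 0, 0, 0], [0, 0, 0, 0, 0, 0, 0, 7, 0], [6, 0, 0, 0, 0, 0, 0, 0, 0], [0, 0, 0, 8, 0, 0, 0, 0, 0], [0, 0, 0, 0, 0, 0, 7, 0, 0], [0, 0, 6, 0, 0, 0, 0, 0, 0], [0, 0, 0, 0, 0, 7, 0, 0, 0], [0, 0, 0, 0, 0, 0, 0, 0, 7]],
   [[0, 8, 0, 0, 0, 0, 0, 0, 0], [0, 0, 0, 7, 0, 0, 0, 0, 0], [0, 0, 0, 0, 0, 0, 0, 0, 6], [0, 0, 0, 0, 0, 0, 6, 0, 0], [0, 0, 8, 0, 0, 0, 0, 0, 0], [0, 0, 0, 0, 7, 0, 0, 0, 0], [0, 0, 0, 0, 0, 5, 0, 0, 0], [0, 0, 0, 0, 0, 0, 0, 6, 0], [6, 0, 0, 0, 0, 0, 0, 0, 0]],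
   [[0, 8, 0, 0, 0, 0, 0, 0, 0], [0, 0, 0, 0, 0, 7, 0, 0, 0], [0, 0, 0, 0, 0, 0, 8, 0, 0], [0, 0, 0, 5, 0, 0, 0, 0, 0], [0, 0, 0, 0, 0, 0, 0, 7, 0], [0, 0, 6, 0, 0, 0, 0, 0, 0], [0, 0, 0, 0, 0, 0, 0, 0, 6], [5, 0, 0, 0, 0, 0, 0, 0, 0], [0, 0, 0, 0, 7, 0, 0, 0, 0]]],
  [[[0, 0, 0, 0, 0, 0, 0, 0, 0], [0, 0, 0, 8, 0, 0, 0, 0, 0], [0, 0, 0, 7, 0, 0, 0, 0, 0], [0, 0, 0, 1, 0, 0, 0, 0, 0], [0, 0, 0, 9, 0, 0, 0, 0, 0], [0, 0, 0, 8, 0, 0, 0, 0, 0], [0, 0, 0, 2, 0, 0, 0, 0, 0], [0, 0, 0, 9, 0, 0, 0, 0, 0], [0, 0, 0, 8, 0, 0, 0, 0, 0]],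
   [[0, 0, 0, 1, 0, 0, 0, 0, 0], [8, 0, 0, 0, 0, 0, 0, 0, 0], [0, 0, 0, 0, 0, 0, 8, 0, 0], [0, 0, 0, 0, 2, 0, 0, 0, 0], [0, 7, 0, 0, 0, 0, 0, 0, 0], [0, 0, 0, 0, 0, 0, 0, 9, 0], [0, 0, 0, 0, 0, 3, 0, 0, 0], [0, 0, 7, 0, 0, 0, 0, 0, 0], [0, 0, 0, 0, 0, 0, 0, 0, 9]],
   [[0, 0, 0, 2, 0, 0, 0, 0, 0], [0, 0, 0, 0, 0, 0, 9, 0, 0], [8, 0, 0, 0, 0, 0, 0, 0, 0], [0, 0, 0, 0, 0, 3, 0, 0, 0], [0, 0, 0, 0, 0, 0, 0, 0, 8], [0, 0, 7, 0, 0, 0, 0, 0, 0], [0, 0, 0, 0, 4, 0, 0, 0, 0], [0, 0, 0, 0, 0, 0, 0, 8, 0], [0, 7, 0, 0, 0, 0, 0, 0, 0]],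
   [[0, 0, 0, 1, 0, 0, 0, 0, 0], [0, 0, 0, 0, 6, 0, 0, 0, 0], [0, 0, 0, 0, 0, 5, 0, 0, 0], [0, 0, 0, 0, 0, 0, 2, 0, 0], [0, 0, 0, 0, 0, 0, 0, 7, 0], [0, 0, 0, 0, 0, 0, 0, 0, 6], [3, 0, 0, 0, 0, 0, 0, 0, 0], [0, 7, 0, 0, 0, 0, 0, 0, 0], [0, 0, 6, 0, 0, 0, 0, 0, 0]],
   [[0, 0, 0, 2, 0, 0, 0, 0, 0], [0, 7, 0, 0, 0, 0, 0, 0, 0], [0, 0, 0, 0, 0, 0, 0, 0, 6], [0, 0, 0, 0, 0, 0, 0, 3, 0], [0, 0, 0, 0, 0, 8, 0, 0, 0], [7, 0, 0, 0, 0, 0, 0, 0, 0], [0, 0, 4, 0, 0, 0, 0, 0, 0], [0, 0, 0, 0, 0, 0, 8, 0, 0], [0, 0, 0, 0, 7, 0, 0, 0, 0]],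
   [[0, 0, 0, 3, 0, 0, 0, 0, 0], [0, 0, 0, 0, 0, 0, 0, 7, 0], [0, 0, 7, 0, 0, 0, 0, 0, 0], [0, 0, 0, 0, 0, 0, 0, 0, 4], [8, 0, 0, 0, 0, 0, 0, 0, 0], [0, 0, 0, 0, 8, 0, 0, 0, 0], [0, 5, 0, 0, 0, 0, 0, 0, 0], [0, 0, 0, 0, 0, 9, 0, 0, 0], [0, 0, 0, 0, 0, 0, 8, 0, 0]],
   [[0, 0, 0, 2, 0, 0, 0, 0, 0], [0, 0, 0, 0, 0, 7, 0, 0, 0], [0, 0, 0, 0, 6, 0, 0, 0, 0], [3, 0, 0, 0, 0, 0, 0, 0, 0], [0, 0, 8, 0, 0, 0, 0, 0, 0], [0, 7, 0, 0, 0, 0, 0, 0, 0], [0, 0, 0, 0, 0, 0, 4, 0, 0], [0, 0, 0, 0, 0, 0, 0, 0, 8], [0, 0, 0, 0, 0, 0, 0, 7, 0]],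
   [[0, 0, 0, 3, 0, 0, 0, 0, 0], [0, 0, 7, 0, 0, 0, 0, 0, 0], [0, 0, 0, 0, 0, 0, 0, 7, 0], [0, 4, 0, 0, 0, 0, 0, 0, 0], [0, 0, 0, 0, 0, 0, 8, 0, 0], [0, 0, 0, 0, 0, 8, 0, 0, 0], [0, 0, 0, 0, 0, 0, 0, 0, 5], [0, 0, 0, 0, 6, 0, 0, 0, 0], [8, 0, 0, 0, 0, 0, 0, 0, 0]],
   [[0, 0, 0, 4, 0, 0, 0, 0, 0], [0, 0, 0, 0, 0, 0, 0, 0, 8], [0, 7, 0, 0, 0, 0, 0, 0, 0], [0, 0, 5, 0, 0, 0, 0, 0, 0], [0, 0, 0, 0, 9, 0, 0, 0, 0], [0, 0, 0, 0, 0, 0, 8, 0, 0], [0, 0, 0, 0, 0, 0, 0, 6, 0], [7, 0, 0, 0, 0, 0, 0, 0, 0], [0, 0, 0, 0, 0, 6, 0, 0, 0]]],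
  [[[0, 0, 0, 0, 0, 0, 0, 7, 0], [0, 0, 0, 0, 0, 0, 0, 5, 0], [0, 0, 0, 0, 0, 0, 0, 6, 0], [0, 0, 0, 0, 0, 0, 0, 4, 0], [0, 0, 0, 0, 0, 0, 0, 8, 0], [0, 0, 0, 0, 0, 0, 0, 6, 0], [0, 0, 0, 0, 0, 0, 0, 7, 0], [0, 0, 0, 0, 0, 0, 0, 5, 0], [0, 0, 0, 0, 0, 0, 0, 6, 0]],
   [[0, 0, 0, 0, 0, 0, 0, 10, 0], [7, 0, 0, 0, 0, 0, 0, 0, 0], [0, 0, 0, 0, 0, 4, 0, 0, 0], [0, 0, 0, 2, 0, 0, 0, 0, 0], [0, 0, 0, 0, 0, 0, 0, 0, 8], [0, 8, 0, 0, 0, 0, 0, 0, 0], [0, 0, 6, 0, 0, 0, 0, 0, 0], [0, 0, 0, 0, 3, 0, 0, 0, 0], [0, 0, 0, 0, 0, 0, 9, 0, 0]],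
   [[0, 0, 0, 0, 0, 0, 0, 9, 0], [0, 0, 0, 0, 0, 5, 0, 0, 0], [8, 0, 0, 0, 0, 0, 0, 0, 0], [0, 0, 6, 0, 0, 0, 0, 0, 0], [0, 0, 0, 0, 0, 0, 8, 0, 0], [0, 0, 0, 0, 6, 0, 0, 0, 0], [0, 0, 0, 4, 0, 0, 0, 0, 0], [0, 7, 0, 0, 0, 0, 0, 0, 0], [0, 0, 0, 0, 0, 0, 0, 0, 8]],
   [[0, 0, 0, 0, 0, 0, 0, 9, 0], [0, 0, 0, 6, 0, 0, 0, 0, 0], [0, 0, 6, 0, 0, 0, 0, 0, 0], [0, 0, 0, 0, 0, 4, 0, 0, 0], [0, 7, 0, 0, 0, 0, 0, 0, 0], [0, 0, 0, 0, 0, 0, 7, 0, 0], [5, 0, 0, 0, 0, 0, 0, 0, 0], [0, 0, 0, 0, 0, 0, 0, 0, 5], [0, 0, 0, 0, 8, 0, 0, 0, 0]],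
   [[0, 0, 0, 0, 0, 0, 0, 8, 0], [0, 0, 0, 0, 0, 0, 0, 0, 6], [0, 0, 0, 0, 0, 0, 7, 0, 0], [0, 5, 0, 0, 0, 0, 0, 0, 0], [0, 0, 9, 0, 0, 0, 0, 0, 0], [7, 0, 0, 0, 0, 0, 0, 0, 0], [0, 0, 0, 0, 6, 0, 0, 0, 0], [0, 0, 0, 0, 0, 6, 0, 0, 0], [0, 0, 0, 7, 0, 0, 0, 0, 0]],
   [[0, 0, 0, 0, 0, 0, 0, 9, 0], [0, 7, 0, 0, 0, 0, 0, 0, 0], [0, 0, 0, 0, 5, 0, 0, 0, 0], [0, 0, 0, 0, 0, 0, 3, 0, 0], [8, 0, 0, 0, 0, 0, 0, 0, 0], [0, 0, 0, 8, 0, 0, 0, 0, 0], [0, 0, 0, 0, 0, 0, 0, 0, 7], [0, 0, 4, 0, 0, 0, 0, 0, 0], [0, 0, 0, 0, 0, 8, 0, 0, 0]],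
   [[0, 0, 0, 0, 0, 0, 0, 10, 0], [0, 0, 6, 0, 0, 0, 0, 0, 0], [0, 0, 0, 6, 0, 0, 0, 0, 0], [4, 0, 0, 0, 0, 0, 0, 0, 0], [0, 0, 0, 0, 9, 0, 0, 0, 0], [0, 0, 0, 0, 0, 0, 0, 0, 7], [0, 0, 0, 0, 0, 5, 0, 0, 0], [0, 0, 0, 0, 0, 0, 5, 0, 0], [0, 9, 0, 0, 0, 0, 0, 0, 0]],
   [[0, 0, 0, 0, 0, 0, 0, 8, 0], [0, 0, 0, 0, 6, 0, 0, 0, 0], [0, 7, 0, 0, 0, 0, 0, 0, 0], [0, 0, 0, 0, 0, 0, 0, 0, 5], [0, 0, 0, 0, 0, 7, 0, 0, 0], [0, 0, 7, 0, 0, 0, 0, 0, 0], [0, 0, 0, 0, 0, 0, 6, 0, 0], [0, 0, 0, 6, 0, 0, 0, 0, 0], [7, 0, 0, 0, 0, 0, 0, 0, 0]],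
   [[0, 0, 0, 0, 0, 0, 0, 8, 0], [0, 0, 0, 0, 0, 0, 7, 0, 0], [0, 0, 0, 0, 0, 0, 0, 0, 5], [0, 0, 0, 0, 3, 0, 0, 0, 0], [0, 0, 0, 9, 0, 0, 0, 0, 0], [0, 0, 0, 0, 0, 8, 0, 0, 0], [0, 7, 0, 0, 0, 0, 0, 0, 0], [4, 0, 0, 0, 0, 0, 0, 0, 0], [0, 0, 7, 0, 0, 0, 0, 0, 0]]],
  [[[0, 0, 0, 0, 0, 0, 0, 0, 8], [0, 0, 0, 0, 0, 0, 0, 0, 7], [0, 0, 0, 0, 0, 0, 0, 0, 7], [0, 0, 0, 0, 0, 0, 0, 0, 6], [0, 0, 0, 0, 0, 0, 0, 0, 7], [0, 0, 0, 0, 0, 0, 0, 0, 7], [0, 0, 0, 0, 0, 0, 0, 0, 6], [0, 0, 0, 0, 0, 0, 0, 0, 8], [0, 0, 0, 0, 0, 0, 0, 0, 7]],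
   [[0, 0, 0, 0, 0, 0, 0, 0, 9], [8, 0, 0, 0, 0, 0, 0, 0, 0], [0, 0, 0, 0, 4, 0, 0, 0, 0], [0, 6, 0, 0, 0, 0, 0, 0, 0], [0, 0, 0, 0, 0, 5, 0, 0, 0], [0, 0, 0, 0, 0, 0, 9, 0, 0], [0, 0, 0, 3, 0, 0, 0, 0, 0], [0, 0, 0, 0, 0, 0, 0, 8, 0], [0, 0, 7, 0, 0, 0, 0, 0, 0]],
   [[0, 0, 0, 0, 0, 0, 0, 0, 9], [0, 0, 0, 0, 5, 0, 0, 0, 0], [7, 0, 0, 0, 0, 0, 0, 0, 0], [0, 0, 0, 3, 0, 0, 0, 0, 0], [0, 0, 8, 0, 0, 0, 0, 0, 0], [0, 0, 0, 0, 0, 0, 0, 9, 0], [0, 6, 0, 0, 0, 0, 0, 0, 0], [0, 0, 0, 0, 0, 0, 8, 0, 0], [0, 0, 0, 0, 0, 4, 0, 0, 0]],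
   [[0, 0, 0, 0, 0, 0, 0, 0, 10], [0, 6, 0, 0, 0, 0, 0, 0, 0], [0, 0, 0, 5, 0, 0, 0, 0, 0], [0, 0, 0, 0, 4, 0, 0, 0, 0], [0, 0, 0, 0, 0, 0, 6, 0, 0], [0, 0, 9, 0, 0, 0, 0, 0, 0], [4, 0, 0, 0, 0, 0, 0, 0, 0], [0, 0, 0, 0, 0, 9, 0, 0, 0], [0, 0, 0, 0, 0, 0, 0, 5, 0]],
   [[0, 0, 0, 0, 0, 0, 0, 0, 7], [0, 0, 0, 0, 0, 6, 0, 0, 0], [0, 0, 8, 0, 0, 0, 0, 0, 0], [0, 0, 0, 0, 0, 0, 4, 0, 0], [0, 0, 0, 8, 0, 0, 0, 0, 0], [8, 0, 0, 0, 0, 0, 0, 0, 0], [0, 0, 0, 0, 0, 0, 0, 7, 0], [0, 0, 0, 0, 6, 0, 0, 0, 0], [0, 5, 0, 0, 0, 0, 0, 0, 0]],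
   [[0, 0, 0, 0, 0, 0, 0, 0, 9], [0, 0, 0, 0, 0, 0, 8, 0, 0], [0, 0, 0, 0, 0, 0, 0, 5, 0], [0, 0, 7, 0, 0, 0, 0, 0, 0], [6, 0, 0, 0, 0, 0, 0, 0, 0], [0, 8, 0, 0, 0, 0, 0, 0, 0], [0, 0, 0, 0, 0, 4, 0, 0, 0], [0, 0, 0, 9, 0, 0, 0, 0, 0], [0, 0, 0, 0, 8, 0, 0, 0, 0]],
   [[0, 0, 0, 0, 0, 0, 0, 0, 8], [0, 0, 0, 7, 0, 0, 0, 0, 0], [0, 6, 0, 0, 0, 0, 0, 0, 0], [5, 0, 0, 0, 0, 0, 0, 0, 0], [0, 0, 0, 0, 0, 0, 0, 7, 0], [0, 0, 0, 0, 0, 9, 0, 0, 0], [0, 0, 0, 0, 5, 0, 0, 0, 0], [0, 0, 7, 0, 0, 0, 0, 0, 0], [0, 0, 0, 0, 0, 0, 6, 0, 0]],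
   [[0, 0, 0, 0, 0, 0, 0, 0, 10], [0, 0, 0, 0, 0, 0, 0, 6, 0], [0, 0, 0, 0, 0, 0, 6, 0, 0], [0, 0, 0, 0, 0, 5, 0, 0, 0], [0, 0, 0, 0, 7, 0, 0, 0, 0], [0, 0, 0, 8, 0, 0, 0, 0, 0], [0, 0, 5, 0, 0, 0, 0, 0, 0], [0, 9, 0, 0, 0, 0, 0, 0, 0], [6, 0, 0, 0, 0, 0, 0, 0, 0]],
   [[0, 0, 0, 0, 0, 0, 0, 0, 8], [0, 0, 7, 0, 0, 0, 0, 0, 0], [0, 0, 0, 0, 0, 6, 0, 0, 0], [0, 0, 0, 0, 0, 0, 0, 5, 0], [0, 6, 0, 0, 0, 0, 0, 0, 0], [0, 0, 0, 0, 8, 0, 0, 0, 0], [0, 0, 0, 0, 0, 0, 5, 0, 0], [7, 0, 0, 0, 0, 0, 0, 0, 0], [0, 0, 0, 6, 0, 0, 0, 0, 0]]],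
  [[[0, 0, 0, 0, 0, 0, 4, 0, 0], [0, 0, 0, 0, 0, 0, 8, 0, 0], [0, 0, 0, 0, 0, 0, 9, 0, 0], [0, 0, 0, 0, 0, 0, 3, 0, 0], [0, 0, 0, 0, 0, 0, 7, 0, 0], [0, 0, 0, 0, 0, 0, 8, 0, 0], [0, 0, 0, 0, 0, 0, 5, 0, 0], [0, 0, 0, 0, 0, 0, 7, 0, 0], [0, 0, 0, 0, 0, 0, 8, 0, 0]],
   [[0, 0, 0, 0, 0, 0, 6, 0, 0], [10, 0, 0, 0, 0, 0, 0, 0, 0], [0, 0, 0, 8, 0, 0, 0, 0, 0], [0, 0, 0, 0, 0, 0, 0, 0, 5], [0, 0, 9, 0, 0, 0, 0, 0, 0], [0, 0, 0, 0, 0, 9, 0, 0, 0], [0, 0, 0, 0, 0, 0, 0, 7, 0], [0, 8, 0, 0, 0, 0, 0, 0, 0], [0, 0, 0, 0, 9, 0, 0, 0, 0]],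
   [[0, 0, 0, 0, 0, 0, 5, 0, 0], [0, 0, 0, 9, 0, 0, 0, 0, 0], [9, 0, 0, 0, 0, 0, 0, 0, 0], [0, 0, 0, 0, 0, 0, 0, 4, 0], [0, 0, 0, 0, 8, 0, 0, 0, 0], [0, 9, 0, 0, 0, 0, 0, 0, 0], [0, 0, 0, 0, 0, 0, 0, 0, 6], [0, 0, 0, 0, 0, 8, 0, 0, 0], [0, 0, 8, 0, 0, 0, 0, 0, 0]],
   [[0, 0, 0, 0, 0, 0, 3, 0, 0], [0, 0, 0, 0, 0, 0, 0, 0, 7], [0, 0, 0, 0, 0, 0, 0, 8, 0], [0, 0, 0, 2, 0, 0, 0, 0, 0], [0, 0, 0, 0, 0, 6, 0, 0, 0], [0, 0, 0, 0, 7, 0, 0, 0, 0], [4, 0, 0, 0, 0, 0, 0, 0, 0], [0, 0, 6, 0, 0, 0, 0, 0, 0], [0, 7, 0, 0, 0, 0, 0, 0, 0]],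
   [[0, 0, 0, 0, 0, 0, 5, 0, 0], [0, 0, 9, 0, 0, 0, 0, 0, 0], [0, 0, 0, 0, 7, 0, 0, 0, 0], [0, 0, 0, 0, 0, 4, 0, 0, 0], [0, 0, 0, 0, 0, 0, 0, 8, 0], [8, 0, 0, 0, 0, 0, 0, 0, 0], [0, 6, 0, 0, 0, 0, 0, 0, 0], [0, 0, 0, 8, 0, 0, 0, 0, 0], [0, 0, 0, 0, 0, 0, 0, 0, 8]],
   [[0, 0, 0, 0, 0, 0, 4, 0, 0], [0, 0, 0, 0, 0, 8, 0, 0, 0], [0, 8, 0, 0, 0, 0, 0, 0, 0], [0, 0, 0, 0, 3, 0, 0, 0, 0], [7, 0, 0, 0, 0, 0, 0, 0, 0], [0, 0, 0, 0, 0, 0, 0, 0, 8], [0, 0, 5, 0, 0, 0, 0, 0, 0], [0, 0, 0, 0, 0, 0, 0, 7, 0], [0, 0, 0, 8, 0, 0, 0, 0, 0]],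
   [[0, 0, 0, 0, 0, 0, 5, 0, 0], [0, 0, 0, 0, 0, 0, 0, 6, 0], [0, 0, 0, 0, 0, 0, 0, 0, 7], [4, 0, 0, 0, 0, 0, 0, 0, 0], [0, 6, 0, 0, 0, 0, 0, 0, 0], [0, 0, 7, 0, 0, 0, 0, 0, 0], [0, 0, 0, 4, 0, 0, 0, 0, 0], [0, 0, 0, 0, 5, 0, 0, 0, 0], [0, 0, 0, 0, 0, 6, 0, 0, 0]],
   [[0, 0, 0, 0, 0, 0, 7, 0, 0], [0, 8, 0, 0, 0, 0, 0, 0, 0], [0, 0, 0, 0, 0, 6, 0, 0, 0], [0, 0, 6, 0, 0, 0, 0, 0, 0], [0, 0, 0, 8, 0, 0, 0, 0, 0], [0, 0, 0, 0, 0, 0, 0, 7, 0], [0, 0, 0, 0, 6, 0, 0, 0, 0], [0, 0, 0, 0, 0, 0, 0, 0, 7], [7, 0, 0, 0, 0, 0, 0, 0, 0]],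
   [[0, 0, 0, 0, 0, 0, 6, 0, 0], [0, 0, 0, 0, 7, 0, 0, 0, 0], [0, 0, 8, 0, 0, 0, 0, 0, 0], [0, 5, 0, 0, 0, 0, 0, 0, 0], [0, 0, 0, 0, 0, 0, 0, 0, 7], [0, 0, 0, 8, 0, 0, 0, 0, 0], [0, 0, 0, 0, 0, 5, 0, 0, 0], [6, 0, 0, 0, 0, 0, 0, 0, 0], [0, 0, 0, 0, 0, 0, 0, 7, 0]]],
  [[[0, 0, 0, 0, 7, 0, 0, 0, 0], [0, 0, 0, 0, 5, 0, 0, 0, 0], [0, 0, 0, 0, 6, 0, 0, 0, 0], [0, 0, 0, 0, 4, 0, 0, 0, 0], [0, 0, 0, 0, 8, 0, 0, 0, 0], [0, 0, 0, 0, 6, 0, 0, 0, 0], [0, 0, 0, 0, 7, 0, 0, 0, 0], [0, 0, 0, 0, 5, 0, 0, 0, 0], [0, 0, 0, 0, 6, 0, 0, 0, 0]],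
   [[0, 0, 0, 0, 10, 0, 0, 0, 0], [8, 0, 0, 0, 0, 0, 0, 0, 0], [0, 0, 0, 0, 0, 0, 0, 0, 6], [0, 0, 7, 0, 0, 0, 0, 0, 0], [0, 0, 0, 0, 0, 0, 0, 8, 0], [0, 0, 0, 9, 0, 0, 0, 0, 0], [0, 0, 0, 0, 0, 0, 7, 0, 0], [0, 0, 0, 0, 0, 8, 0, 0, 0], [0, 6, 0, 0, 0, 0, 0, 0, 0]],
   [[0, 0, 0, 0, 9, 0, 0, 0, 0], [0, 0, 0, 0, 0, 0, 0, 0, 5], [9, 0, 0, 0, 0, 0, 0, 0, 0], [0, 0, 0, 0, 0, 0, 4, 0, 0], [0, 8, 0, 0, 0, 0, 0, 0, 0], [0, 0, 0, 0, 0, 9, 0, 0, 0], [0, 0, 7, 0, 0, 0, 0, 0, 0], [0, 0, 0, 8, 0, 0, 0, 0, 0], [0, 0, 0, 0, 0, 0, 0, 6, 0]],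
   [[0, 0, 0, 0, 9, 0, 0, 0, 0], [0, 0, 7, 0, 0, 0, 0, 0, 0], [0, 0, 0, 0, 0, 0, 8, 0, 0], [0, 0, 0, 0, 0, 0, 0, 0, 6], [0, 0, 0, 7, 0, 0, 0, 0, 0], [0, 8, 0, 0, 0, 0, 0, 0, 0], [6, 0, 0, 0, 0, 0, 0, 0, 0], [0, 0, 0, 0, 0, 0, 0, 7, 0], [0, 0, 0, 0, 0, 5, 0, 0, 0]],
   [[0, 0, 0, 0, 8, 0, 0, 0, 0], [0, 0, 0, 0, 0, 0, 0, 4, 0], [0, 8, 0, 0, 0, 0, 0, 0, 0], [0, 0, 0, 3, 0, 0, 0, 0, 0], [0, 0, 0, 0, 0, 0, 8, 0, 0], [8, 0, 0, 0, 0, 0, 0, 0, 0], [0, 0, 0, 0, 0, 7, 0, 0, 0], [0, 0, 0, 0, 0, 0, 0, 0, 7], [0, 0, 5, 0, 0, 0, 0, 0, 0]],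
   [[0, 0, 0, 0, 9, 0, 0, 0, 0], [0, 0, 0, 7, 0, 0, 0, 0, 0], [0, 0, 0, 0, 0, 5, 0, 0, 0], [0, 6, 0, 0, 0, 0, 0, 0, 0], [7, 0, 0, 0, 0, 0, 0, 0, 0], [0, 0, 8, 0, 0, 0, 0, 0, 0], [0, 0, 0, 0, 0, 0, 0, 6, 0], [0, 0, 0, 0, 0, 0, 7, 0, 0], [0, 0, 0, 0, 0, 0, 0, 0, 8]],
   [[0, 0, 0, 0, 10, 0, 0, 0, 0], [0, 0, 0, 0, 0, 0, 6, 0, 0], [0, 0, 7, 0, 0, 0, 0, 0, 0], [5, 0, 0, 0, 0, 0, 0, 0, 0], [0, 0, 0, 0, 0, 7, 0, 0, 0], [0, 0, 0, 0, 0, 0, 0, 10, 0], [0, 0, 0, 0, 0, 0, 0, 0, 8], [0, 9, 0, 0, 0, 0, 0, 0, 0], [0, 0, 0, 7, 0, 0, 0, 0, 0]],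
   [[0, 0, 0, 0, 8, 0, 0, 0, 0], [0, 0, 0, 0, 0, 6, 0, 0, 0], [0, 0, 0, 7, 0, 0, 0, 0, 0], [0, 0, 0, 0, 0, 0, 0, 5, 0], [0, 0, 0, 0, 0, 0, 0, 0, 9], [0, 0, 0, 0, 0, 0, 7, 0, 0], [0, 8, 0, 0, 0, 0, 0, 0, 0], [0, 0, 6, 0, 0, 0, 0, 0, 0], [7, 0, 0, 0, 0, 0, 0, 0, 0]],
   [[0, 0, 0, 0, 8, 0, 0, 0, 0], [0, 6, 0, 0, 0, 0, 0, 0, 0], [0, 0, 0, 0, 0, 0, 0, 7, 0], [0, 0, 0, 0, 0, 5, 0, 0, 0], [0, 0, 7, 0, 0, 0, 0, 0, 0], [0, 0, 0, 0, 0, 0, 0, 0, 7], [0, 0, 0, 6, 0, 0, 0, 0, 0], [6, 0, 0, 0, 0, 0, 0, 0, 0], [0, 0, 0, 0, 0, 0, 7, 0, 0]]],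
  [[[0, 0, 0, 0, 0, 8, 0, 0, 0], [0, 0, 0, 0, 0, 7, 0, 0, 0], [0, 0, 0, 0, 0, 7, 0, 0, 0], [0, 0, 0, 0, 0, 6, 0, 0, 0], [0, 0, 0, 0, 0, 7, 0, 0, 0], [0, 0, 0, 0, 0, 7, 0, 0, 0], [0, 0, 0, 0, 0, 6, 0, 0, 0], [0, 0, 0, 0, 0, 8, 0, 0, 0], [0, 0, 0, 0, 0, 7, 0, 0, 0]],
   [[0, 0, 0, 0, 0, 9, 0, 0, 0], [9, 0, 0, 0, 0, 0, 0, 0, 0], [0, 0, 0, 0, 0, 0, 0, 6, 0], [0, 0, 0, 0, 0, 0, 5, 0, 0], [0, 0, 0, 0, 8, 0, 0, 0, 0], [0, 0, 8, 0, 0, 0, 0, 0, 0], [0, 7, 0, 0, 0, 0, 0, 0, 0], [0, 0, 0, 0, 0, 0, 0, 0, 7], [0, 0, 0, 9, 0, 0, 0, 0, 0]],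
   [[0, 0, 0, 0, 0, 9, 0, 0, 0], [0, 0, 0, 0, 0, 0, 0, 5, 0], [8, 0, 0, 0, 0, 0, 0, 0, 0], [0, 7, 0, 0, 0, 0, 0, 0, 0], [0, 0, 0, 8, 0, 0, 0, 0, 0], [0, 0, 0, 0, 0, 0, 0, 0, 7], [0, 0, 0, 0, 0, 0, 6, 0, 0], [0, 0, 6, 0, 0, 0, 0, 0, 0], [0, 0, 0, 0, 8, 0, 0, 0, 0]],
   [[0, 0, 0, 0, 0, 10, 0, 0, 0], [0, 0, 0, 0, 0, 0, 7, 0, 0], [0, 7, 0, 0, 0, 0, 0, 0, 0], [0, 0, 0, 0, 0, 0, 0, 6, 0], [0, 0, 9, 0, 0, 0, 0, 0, 0], [0, 0, 0, 6, 0, 0, 0, 0, 0], [5, 0, 0, 0, 0, 0, 0, 0, 0], [0, 0, 0, 0, 5, 0, 0, 0, 0], [0, 0, 0, 0, 0, 0, 0, 0, 9]],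
   [[0, 0, 0, 0, 0, 7, 0, 0, 0], [0, 0, 0, 0, 6, 0, 0, 0, 0], [0, 0, 0, 6, 0, 0, 0, 0, 0], [0, 0, 8, 0, 0, 0, 0, 0, 0], [0, 6, 0, 0, 0, 0, 0, 0, 0], [8, 0, 0, 0, 0, 0, 0, 0, 0], [0, 0, 0, 0, 0, 0, 0, 0, 7], [0, 0, 0, 0, 0, 0, 0, 7, 0], [0, 0, 0, 0, 0, 0, 8, 0, 0]],
   [[0, 0, 0, 0, 0, 9, 0, 0, 0], [0, 0, 8, 0, 0, 0, 0, 0, 0], [0, 0, 0, 0, 0, 0, 0, 0, 5], [0, 0, 0, 4, 0, 0, 0, 0, 0], [8, 0, 0, 0, 0, 0, 0, 0, 0], [0, 0, 0, 0, 0, 0, 8, 0, 0], [0, 0, 0, 0, 7, 0, 0, 0, 0], [0, 6, 0, 0, 0, 0, 0, 0, 0], [0, 0, 0, 0, 0, 0, 0, 8, 0]],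
   [[0, 0, 0, 0, 0, 8, 0, 0, 0], [0, 7, 0, 0, 0, 0, 0, 0, 0], [0, 0, 0, 0, 0, 0, 7, 0, 0], [6, 0, 0, 0, 0, 0, 0, 0, 0], [0, 0, 0, 0, 0, 0, 0, 0, 7], [0, 0, 0, 0, 7, 0, 0, 0, 0], [0, 0, 0, 0, 0, 0, 0, 8, 0], [0, 0, 0, 8, 0, 0, 0, 0, 0], [0, 0, 7, 0, 0, 0, 0, 0, 0]],
   [[0, 0, 0, 0, 0, 10, 0, 0, 0], [0, 0, 0, 0, 0, 0, 0, 0, 6], [0, 0, 6, 0, 0, 0, 0, 0, 0], [0, 0, 0, 0, 5, 0, 0, 0, 0], [0, 0, 0, 0, 0, 0, 0, 9, 0], [0, 6, 0, 0, 0, 0, 0, 0, 0], [0, 0, 0, 5, 0, 0, 0, 0, 0], [0, 0, 0, 0, 0, 0, 7, 0, 0], [8, 0, 0, 0, 0, 0, 0, 0, 0]],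
   [[0, 0, 0, 0, 0, 8, 0, 0, 0], [0, 0, 0, 8, 0, 0, 0, 0, 0], [0, 0, 0, 0, 5, 0, 0, 0, 0], [0, 0, 0, 0, 0, 0, 0, 0, 7], [0, 0, 0, 0, 0, 0, 7, 0, 0], [0, 0, 0, 0, 0, 0, 0, 7, 0], [0, 0, 6, 0, 0, 0, 0, 0, 0], [6, 0, 0, 0, 0, 0, 0, 0, 0], [0, 8, 0, 0, 0, 0, 0, 0, 0]]]]

end Cfsg.Agent.H6.L29
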