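import Mathlib
import Cfsg.Agent.H6.L29Table

/-! Kernel-checked table facts for `SL₂(9) → S₆` (helper6). -/

set_option autoImplicit false

namespace Cfsg.Agent.H6.L29

instance gf9Fact : Fact (∀ r : ZMod 3, r ^ 2 ≠ 2 + 0 * r) := ⟨by decide⟩

/-- the field with 9 elements, `F₃[i]` -/
abbrev GF9 : Type := QuadraticAlgebra (ZMod 3) 2 0

instance gf9Fintype : Fintype GF9 :=
  Fintype.ofEquiv (ZMod 3 × ZMod 3) (QuadraticAlgebra.equivProd 2 0).symm

lemma card_gf9 : Fintype.card GF9 = 9 := by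
  rw [Fintype.card_congr (QuadraticAlgebra.equivProd 2 0)]
  simp [ZMod.card]

/-- the element `i` -/
def gI : GF9 := ⟨0, 1⟩

def encE (x : GF9) : ℕ := x.re.val * 3 + x.im.val

/-- table lookup by the four entries of a matrix -/
def look (T : List (List (List (List ℕ)))) (M : Matrix (Fin 2) (Fin 2) GF9) : ℕ :=
  (((T.getD (encE (M 0 0)) []).getD (encE (M 0 1)) []).getD (encE (M 1 0)) []).getD
    (encE (M 1 1)) 0

def dig (n k : ℕ) : Fin 6 := ⟨n / k % 6, Nat.mod_lt _ (by decide)⟩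

/-- decode a permutation of `Fin 6` -/
def decP (n : ℕ) : Equiv.Perm (Fin 6) :=
  Equiv.swap 0 (dig n 1) * Equiv.swap 1 (dig n 6) *
    Equiv.swap 2 (dig n 36) * Equiv.swap 3 (dig n 216) *
    Equiv.swap 4 (dig n 1296)

/-- word length of a matrix (from the table) -/
def idx (M : Matrix (Fin 2) (Fin 2) GF9) : ℕ := look tblD M

/-- the table-defined map -/
def f₀ (M : Matrix (Fin 2) (Fin 2) GF9) : Equiv.Perm (Fin 6) :=
  decP (look tblF M)

def Amat : Matrix (Fin 2) (Fin 2) GF9 := !![1, 1; 0, 1]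
def A2mat : Matrix (Fin 2) (Fin 2) GF9 := !![1, gI; 0, 1]
def Bmat : Matrix (Fin 2) (Fin 2) GF9 := !![1, 0; 1, 1]
def Ainv : Matrix (Fin 2) (Fin 2) GF9 := !![1, -1; 0, 1]
def A2inv : Matrix (Fin 2) (Fin 2) GF9 := !![1, -gI; 0, 1]
def Binv : Matrix (Fin 2) (Fin 2) GF9 := !![1, 0; -1, 1]

set_option maxRecDepth 100000 in
lemma hA : ∀ a b c d : GF9, a * d - b * c = 1 →
    f₀ (Amat * !![a, b; c, d]) = decP 5917 * f₀ !![a, b; c, d] := by
  decide +kernel

set_option maxRecDepth 100000 in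
lemma hA2 : ∀ a b c d : GF9, a * d - b * c = 1 →
    f₀ (A2mat * !![a, b; c, d]) = decP 7422 * f₀ !![a, b; c, d] := by
  decide +kernel

set_option maxRecDepth 100000 in
lemma hB : ∀ a b c d : GF9, a * d - b * c = 1 →
    f₀ (Bmat * !![a, b; c, d]) = decP 5923 * f₀ !![a, b; c, d] := by
  decide +kernel

set_option maxRecDepth 100000 in
lemma hdesc : ∀ a b c d : GF9, a * d - b * c = 1 →
    idx !![a, b; c, d] = 0 ∨ idx (Ainv * !![a, b; c, d]) < idx !![a, b; c, d] ∨
      idx (A2inv * !![a, b; c, d]) < idx !![a, b; c, d] ∨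
      idx (Binv * !![a, b; c, d]) < idx !![a, b; c, d] := by
  decide +kernel

set_option maxRecDepth 100000 in
lemma hzero : ∀ a b c d : GF9, a * d - b * c = 1 → idx !![a, b; c, d] = 0 →
    (a = 1 ∧ b = 0 ∧ c = 0 ∧ d = 1) := by
  decide +kernel

set_option maxRecDepth 100000 in
lemma hone : f₀ 1 = 1 := by decide +kernel

set_option maxRecDepth 100000 in
lemma hneg : f₀ !![-1, 0; 0, -1] = 1 := by decide +kernel

set_option maxRecDepth 100000 in
lemma hnt : f₀ Amat ≠ 1 := by decide +kernel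

lemma hAinv : Amat * Ainv = 1 := by decide +kernel
lemma hA2inv : A2mat * A2inv = 1 := by decide +kernel
lemma hBinv : Bmat * Binv = 1 := by decide +kernel
lemma detAinv : Ainv.det = 1 := by rw [Matrix.det_fin_two]; decide +kernel
lemma detA2inv : A2inv.det = 1 := by rw [Matrix.det_fin_two]; decide +kernel
lemma detBinv : Binv.det = 1 := by rw [Matrix.det_fin_two]; decide +kernel

end Cfsg.Agent.H6.L29
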