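import Mathlib
import Cfsg.Prelude.Def_Classical
import Cfsg.Prelude.Def_LieTwisted
import Cfsg.Agent.H6.Ree3Check
import Cfsg.Agent.H6.L29Check
import Cfsg.Agent.H6.G22Table

/-! Kernel-checked tables for the Chevalley group of type G2 over the field with two elements:
its root elements act on 63 vectors, matched with the 63 non-isotropic points of the unitary plane
over the field with nine elements (helper6). -/

set_option autoImplicit false

namespace Cfsg.Agent.H6.G22

open Cfsg Cfsg.Lie
open Cfsg.Agent.H6.Ree3 (ix forceN allN sumN)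
open Cfsg.Agent.H6.L29 (GF9 encE)

def lxN (m i j : ℕ) : ℕ := (lxTab >>> (2 * (196 * m + 14 * i + j))) &&& 3
def omN (i j : ℕ) : ℕ := (omTab >>> (2 * (14 * i + j))) &&& 3
def sgN (k i : ℕ) : ℕ := ((sgTab >>> (6 * (63 * k + i))) &&& 63) % 63
def selN (l : ℕ) : ℕ := ((selTab >>> (6 * l)) &&& 63) % 63
def binvN (l c : ℕ) : ℕ := (binvTab >>> (2 * (14 * l + c))) &&& 3

/-- Entry of a matrix (helps instance search). -/
def ent2 (M : Matrix (Fin 2 ⊕ Fin 12) (Fin 2 ⊕ Fin 12) (ZMod 2)) (i j : Fin 2 ⊕ Fin 12) : ZMod 2 :=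
  M i j

/-- The root elements over the field with two elements are the tabulated matrices. -/
theorem xlit : ∀ r : Fin 12, ∀ t : ZMod 2, ∀ i j : Fin 2 ⊕ Fin 12,
    ent2 (chevG2.x (ZMod 2) r.val t) i j = ((lxN (2 * r.val + t.val) (ix i) (ix j) : ℕ) : ZMod 2) := by
  decide +kernel

/-- The root elements permute the 63 vectors as tabulated. -/
def chkAct : Bool :=
  allN 24 fun k => allN 63 fun i => forceN (sgN k i) fun s => allN 14 fun j =>
    (sumN 14 fun l => lxN k j l * omN i l) % 2 == omN s j

set_option maxRecDepth 100000 in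
theorem chkAct_true : chkAct = true := by decide +kernel

/-- The 63 vectors are distinct. -/
def chkDistinct : Bool :=
  allN 63 fun i => allN 63 fun i' => (i == i') || !(allN 14 fun j => omN i j % 2 == omN i' j % 2)

set_option maxRecDepth 100000 in
theorem chkDistinct_true : chkDistinct = true := by decide +kernel

/-- Fourteen of the vectors form an invertible matrix. -/
def chkSpan : Bool :=
  allN 14 fun j => allN 14 fun c =>
    (sumN 14 fun l => omN (selN l) j * binvN l c) % 2 == if j = c then 1 else 0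

set_option maxRecDepth 100000 in
theorem chkSpan_true : chkSpan = true := by decide +kernel

/-- The tabulated maps on 63 points are injective. -/
def chkSgInj : Bool :=
  allN 24 fun k => allN 63 fun i => forceN (sgN k i) fun s => allN 63 fun i' =>
    (i == i') || (s != sgN k i')

set_option maxRecDepth 100000 in
theorem chkSgInj_true : chkSgInj = true := by decide +kernel

/-! ### The field with nine elements in codes, and the 63 non-isotropic points -/

def gadd (a b : ℕ) : ℕ := (addTab >>> (4 * (9 * a + b))) &&& 15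
def gmul (a b : ℕ) : ℕ := (mulTab >>> (4 * (9 * a + b))) &&& 15
def gcube (a : ℕ) : ℕ := (cubeTab >>> (4 * a)) &&& 15
def ptN (i j : ℕ) : ℕ := (ptTab >>> (4 * (3 * i + j))) &&& 15
def pidxN (c : ℕ) : ℕ := (pidxTab >>> (6 * c)) &&& 63

/-- Code of a row of the product matrix times point. -/
def rowN (m : ℕ → ℕ → ℕ) (x i : ℕ) : ℕ :=
  gadd (gadd (gmul (m x 0) (ptN i 0)) (gmul (m x 1) (ptN i 1))) (gmul (m x 2) (ptN i 2))

/-- Index of the image of point `i` under the matrix with entry codes `m`. -/
def actN (m : ℕ → ℕ → ℕ) (i : ℕ) : ℕ := pidxN (81 * rowN m 0 i + 9 * rowN m 1 i + rowN m 2 i)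

def vsel (a b c x : ℕ) : ℕ := if x = 0 then a else if x = 1 then b else c

/-- Entry codes of the matrix `1 + k v v̄ᵀ`. -/
def mT (a b c k x y : ℕ) : ℕ :=
  gadd (if x = y then 3 else 0) (gmul k (gmul (vsel a b c x) (gcube (vsel a b c y))))

def isoN (a b c : ℕ) : Bool :=
  gadd (gadd (gmul a (gcube a)) (gmul b (gcube b))) (gmul c (gcube c)) == 0

/-- The columns are orthonormal for the Hermitian form. -/
def uniN (m : ℕ → ℕ → ℕ) : Bool :=
  allN 3 fun x => allN 3 fun y =>
    gadd (gadd (gmul (m 0 x) (gcube (m 0 y))) (gmul (m 1 x) (gcube (m 1 y))))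
      (gmul (m 2 x) (gcube (m 2 y))) == (if x = y then 3 else 0)

/-- Letter of a word: a root element with parameter one, or the identity. -/
def sgW (l i : ℕ) : ℕ := if l < 12 then sgN (2 * l + 1) i else i

/-- Evaluate a word of root elements at a point. -/
def wev : ℕ → ℕ → ℕ → ℕ
  | 0, _, i => i
  | n + 1, w, i => sgW (w &&& 15) (wev n (w >>> 4) i)

def wordN (j : ℕ) : ℕ := (wordTab >>> (24 * j)) &&& 16777215

/-- Every unitary transvection acts on the 63 points as a word in the root elements. -/
def chkTv : Bool :=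
  allN 9 fun a => allN 9 fun b => allN 9 fun c => !isoN a b c || allN 9 fun k =>
    !uniN (mT a b c k) || forceN (wordN (9 * (81 * a + 9 * b + c) + k)) fun w =>
      allN 63 fun i => actN (mT a b c k) i == wev 6 w i

set_option maxRecDepth 100000 in
theorem chkTv_true : chkTv = true := by decide +kernel

/-- Decode an element from its code. -/
def dE (k : ℕ) : GF9 := ⟨((k / 3 : ℕ) : ZMod 3), ((k % 3 : ℕ) : ZMod 3)⟩

theorem enc_add : ∀ x y : GF9, encE (x + y) = gadd (encE x) (encE y) := by decide
theorem enc_mul : ∀ x y : GF9, encE (x * y) = gmul (encE x) (encE y) := by decide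
theorem enc_cube : ∀ x : GF9, encE (x ^ 3) = gcube (encE x) := by decide
theorem enc_zero : encE (0 : GF9) = 0 := by decide
theorem enc_one : encE (1 : GF9) = 3 := by decide
theorem enc_inj : ∀ x y : GF9, encE x = encE y → x = y := by decide
theorem enc_dE : ∀ k : Fin 9, encE (dE k.val) = k.val := by decide
theorem ptN_lt : ∀ i : Fin 63, ∀ j : Fin 3, ptN i.val j.val < 9 := by decide

/-- The 63 non-isotropic points, by normalized vectors. -/
def ptn (n : ℕ) : Fin 3 → GF9 := fun j => dE (ptN n j.val)

/-- Code of a vector. -/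
def vcode (w : Fin 3 → GF9) : ℕ := 81 * encE (w 0) + 9 * encE (w 1) + encE (w 2)

theorem T0 : ∀ i : Fin 63, Cfsg.hermForm 3 GF9 3 (ptn i.val) (ptn i.val) ≠ 0 := by decide +kernel

set_option maxRecDepth 100000 in
theorem T12 : ∀ a b c : GF9, Cfsg.hermForm 3 GF9 3 ![a, b, c] ![a, b, c] ≠ 0 →
    pidxN (vcode ![a, b, c]) < 63 ∧
    ∃ l : GF9, l ≠ 0 ∧ ∀ j : Fin 3, ![a, b, c] j = l * ptn (pidxN (vcode ![a, b, c])) j := by
  decide +kernel

set_option maxRecDepth 100000 in
theorem T3 : ∀ a b c l : GF9, l ≠ 0 →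
    pidxN (vcode ![l * a, l * b, l * c]) = pidxN (vcode ![a, b, c]) := by decide +kernel

theorem T6 : ∀ i : Fin 63, pidxN (vcode (ptn i.val)) = i.val := by decide +kernel

end Cfsg.Agent.H6.G22
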