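import Mathlib
import Cfsg.Agent.H6.U33Table
import Cfsg.Agent.H6.L29Check

/-! Kernel-checked table facts for an explicit homomorphism `SL₂(7) → SU₃(3)` (helper6). -/

set_option autoImplicit false

namespace Cfsg.Agent.H6.U33

open Cfsg.Agent.H6.L29 (GF9)

/-- 2×2 matrices over `ZMod 7` -/
abbrev M2 : Type := Matrix (Fin 2) (Fin 2) (ZMod 7)

/-- 3×3 matrices over `F₉` -/
abbrev M3 : Type := Matrix (Fin 3) (Fin 3) GF9

def zc (n : ℕ) : ZMod 3 := if n = 0 then 0 else if n = 1 then 1 else 2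

/-- decode an element of `F₉` -/
def decE (k : ℕ) : GF9 := ⟨zc (k / 3), zc (k % 3)⟩

/-- decode a 3×3 matrix over `F₉` -/
def decM (n : ℕ) : M3 := Matrix.of fun i j => decE (n / 9 ^ (3 * i.val + j.val) % 9)

/-- table lookup -/
def look (M : M2) : ℕ :=
  (((tblU.getD (M 0 0).val []).getD (M 0 1).val []).getD (M 1 0).val []).getD (M 1 1).val 0

/-- word length -/
def idx (M : M2) : ℕ := look M % 32

/-- the table-defined map -/
def f₀ (M : M2) : M3 := decM (look M / 32)

def Amat : M2 := !![1, 1; 0, 1]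
def Bmat : M2 := !![1, 0; 1, 1]
def Ainv : M2 := !![1, 6; 0, 1]
def Binv : M2 := !![1, 0; 6, 1]

def MA : M3 := decM 285459504
def MB : M3 := decM 293518459

def det3 (A : M3) : GF9 :=
  A 0 0 * A 1 1 * A 2 2 - A 0 0 * A 1 2 * A 2 1
      - A 0 1 * A 1 0 * A 2 2 + A 0 1 * A 1 2 * A 2 0
      + A 0 2 * A 1 0 * A 2 1 - A 0 2 * A 1 1 * A 2 0

set_option maxRecDepth 100000 in
lemma hA : ∀ a b c d : ZMod 7, a * d - b * c = 1 →
    f₀ (Amat * !![a, b; c, d]) = MA * f₀ !![a, b; c, d] := by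
  decide +kernel

set_option maxRecDepth 100000 in
lemma hB : ∀ a b c d : ZMod 7, a * d - b * c = 1 →
    f₀ (Bmat * !![a, b; c, d]) = MB * f₀ !![a, b; c, d] := by
  decide +kernel

set_option maxRecDepth 100000 in
lemma hdesc : ∀ a b c d : ZMod 7, a * d - b * c = 1 →
    idx !![a, b; c, d] = 0 ∨ idx (Ainv * !![a, b; c, d]) < idx !![a, b; c, d] ∨
      idx (Binv * !![a, b; c, d]) < idx !![a, b; c, d] := by
  decide +kernel

set_option maxRecDepth 100000 in
lemma hzero : ∀ a b c d : ZMod 7, a * d - b * c = 1 → idx !![a, b; c, d] = 0 →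
    (a = 1 ∧ b = 0 ∧ c = 0 ∧ d = 1) := by
  decide +kernel

set_option maxRecDepth 100000 in
lemma hdet : ∀ a b c d : ZMod 7, a * d - b * c = 1 → det3 (f₀ !![a, b; c, d]) = 1 := by
  decide +kernel

set_option maxRecDepth 100000 in
lemma hunit : ∀ a b c d : ZMod 7, a * d - b * c = 1 →
    (f₀ !![a, b; c, d]).transpose * (f₀ !![a, b; c, d]).map (· ^ 3) = 1 := by
  decide +kernel

set_option maxRecDepth 100000 in
lemma hone : f₀ 1 = 1 := by decide +kernel

set_option maxRecDepth 100000 in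
lemma hneg : f₀ !![-1, 0; 0, -1] = 1 := by decide +kernel

set_option maxRecDepth 100000 in
lemma hnc : MA * MB ≠ MB * MA := by decide +kernel

set_option maxRecDepth 100000 in
lemma hfA : f₀ Amat = MA := by decide +kernel

set_option maxRecDepth 100000 in
lemma hfB : f₀ Bmat = MB := by decide +kernel

end Cfsg.Agent.H6.U33
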