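import Mathlib
import Cfsg.Prelude.Def_Classical
import Cfsg.Agent.H6.U33Check
import Cfsg.Agent.H6.SLTransfer

/-! `PSL₂(7)` embeds in `PSU₃(3)`, via an explicit table-checked homomorphism
`SL₂(7) → SU₃(3)` (helper6). -/

set_option autoImplicit false

namespace Cfsg.Agent.H6.U33

open Cfsg.Agent.H6.L29 (GF9 card_gf9)

lemma det_entries (X : M2) (hX : X.det = 1) : X 0 0 * X 1 1 - X 0 1 * X 1 0 = 1 := by
  rw [← Matrix.det_fin_two]; exact hX

lemma hAinv : Amat * Ainv = 1 := by decide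
lemma hBinv : Bmat * Binv = 1 := by decide
lemma detAinv : Ainv.det = 1 := by rw [Matrix.det_fin_two]; decide
lemma detBinv : Binv.det = 1 := by rw [Matrix.det_fin_two]; decide
lemma detAmat : Amat.det = 1 := by rw [Matrix.det_fin_two]; decide
lemma detBmat : Bmat.det = 1 := by rw [Matrix.det_fin_two]; decide

lemma hA' (X : M2) (hX : X.det = 1) : f₀ (Amat * X) = MA * f₀ X := by
  have := hA _ _ _ _ (det_entries X hX)
  rwa [← Matrix.eta_fin_two X] at this

lemma hB' (X : M2) (hX : X.det = 1) : f₀ (Bmat * X) = MB * f₀ X := by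
  have := hB _ _ _ _ (det_entries X hX)
  rwa [← Matrix.eta_fin_two X] at this

lemma hdesc' (X : M2) (hX : X.det = 1) :
    idx X = 0 ∨ idx (Ainv * X) < idx X ∨ idx (Binv * X) < idx X := by
  have := hdesc _ _ _ _ (det_entries X hX)
  rwa [← Matrix.eta_fin_two X] at this

lemma hzero' (X : M2) (hX : X.det = 1) (h0 : idx X = 0) : X = 1 := by
  have h1 : idx !![X 0 0, X 0 1; X 1 0, X 1 1] = 0 := by
    rw [← Matrix.eta_fin_two X]; exact h0
  obtain ⟨h00, h01, h10, h11⟩ := hzero _ _ _ _ (det_entries X hX) h1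
  rw [Matrix.eta_fin_two X, h00, h01, h10, h11, Matrix.one_fin_two]

lemma hdet' (X : M2) (hX : X.det = 1) : (f₀ X).det = 1 := by
  have := hdet _ _ _ _ (det_entries X hX)
  rw [← Matrix.eta_fin_two X] at this
  rw [Matrix.det_fin_three]
  exact this

lemma hunit' (X : M2) (hX : X.det = 1) : (f₀ X).transpose * (f₀ X).map (· ^ 3) = 1 := by
  have := hunit _ _ _ _ (det_entries X hX)
  rwa [← Matrix.eta_fin_two X] at this

/-- one descent step of the induction -/
lemma step (S Sinv : M2) (c : M3) (hS : S * Sinv = 1) (hdetS : Sinv.det = 1)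
    (hc : ∀ X : M2, X.det = 1 → f₀ (S * X) = c * f₀ X)
    (X Y : M2) (hX : X.det = 1) (hY : Y.det = 1)
    (ih : f₀ (Sinv * X * Y) = f₀ (Sinv * X) * f₀ Y) :
    f₀ (X * Y) = f₀ X * f₀ Y := by
  have hdet1 : (Sinv * X).det = 1 := by rw [Matrix.det_mul, hdetS, hX, mul_one]
  have hX' : X = S * (Sinv * X) := by
    rw [← Matrix.mul_assoc, hS, Matrix.one_mul]
  have hdet2 : (Sinv * X * Y).det = 1 := by rw [Matrix.det_mul, hdet1, hY, mul_one]
  calc f₀ (X * Y) = f₀ (S * (Sinv * X * Y)) := by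
        rw [← Matrix.mul_assoc, ← hX']
    _ = c * f₀ (Sinv * X * Y) := hc _ hdet2
    _ = c * (f₀ (Sinv * X) * f₀ Y) := by rw [ih]
    _ = (c * f₀ (Sinv * X)) * f₀ Y := by rw [Matrix.mul_assoc]
    _ = f₀ (S * (Sinv * X)) * f₀ Y := by rw [hc _ hdet1]
    _ = f₀ X * f₀ Y := by rw [← hX']

/-- multiplicativity of the table map on `SL₂(7)` -/
theorem f₀_mul (X : M2) (hX : X.det = 1) (Y : M2) (hY : Y.det = 1) :
    f₀ (X * Y) = f₀ X * f₀ Y := by
  induction h : idx X using Nat.strong_induction_on generalizing X with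
  | _ n ih =>
    rcases hdesc' X hX with h0 | hlt | hlt
    · rw [hzero' X hX h0, Matrix.one_mul, hone, Matrix.one_mul]
    · exact step Amat Ainv MA hAinv detAinv hA' X Y hX hY
        (ih _ (h ▸ hlt) (Ainv * X) (by rw [Matrix.det_mul, detAinv, hX, mul_one]) rfl)
    · exact step Bmat Binv MB hBinv detBinv hB' X Y hX hY
        (ih _ (h ▸ hlt) (Binv * X) (by rw [Matrix.det_mul, detBinv, hX, mul_one]) rfl)

section generic

variable {F : Type*} [Field F]

/-- a matrix `M` with `Mᵀ * M^(3) = 1` preserves the Hermitian form, in characteristic 3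
(as in `Cfsg.Agent.H62.herm_of_unitary`, helper62) -/
theorem herm_of_unitary (h3 : (3 : F) = 0) (M : Matrix (Fin 3) (Fin 3) F)
    (hM : M.transpose * M.map (· ^ 3) = 1) (u v : Fin 3 → F) :
    Cfsg.hermForm 3 F 3 (M.mulVec u) (M.mulVec v) = Cfsg.hermForm 3 F 3 u v := by
  have hch : CharP F 3 := (CharP.charP_iff_prime_eq_zero Nat.prime_three).2 (by exact_mod_cast h3)
  have hfact : Fact (Nat.Prime 3) := ⟨Nat.prime_three⟩
  have e2 : (fun k => (M.mulVec v) k ^ 3) = (M.map (· ^ 3)).mulVec (fun k => v k ^ 3) := by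
    funext i
    simp only [Matrix.mulVec, dotProduct, Matrix.map_apply]
    rw [sum_pow_char]
    simp only [mul_pow]
  show dotProduct (M.mulVec u) (fun k => (M.mulVec v) k ^ 3) = dotProduct u (fun k => v k ^ 3)
  rw [e2, ← Matrix.vecMul_transpose, ← Matrix.dotProduct_mulVec, Matrix.mulVec_mulVec, hM,
    Matrix.one_mulVec]

lemma three_eq_zero (e : GF9 ≃+* F) : (3 : F) = 0 := by
  have h : (3 : GF9) = 0 := by decide
  have h2 : e (3 : GF9) = e 0 := congrArg e h
  rw [map_zero, map_ofNat] at h2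
  exact h2

lemma map_det_one (e : GF9 ≃+* F) (X : M2) (hX : X.det = 1) : ((f₀ X).map e).det = 1 := by
  have h := RingHom.map_det e.toRingHom (f₀ X)
  rw [hdet' X hX, map_one] at h
  exact h.symm

lemma map_unit (e : GF9 ≃+* F) (X : M2) (hX : X.det = 1) :
    ((f₀ X).map e).transpose * ((f₀ X).map e).map (· ^ 3) = 1 := by
  have h1 : ((f₀ X).map e).map (· ^ 3) = ((f₀ X).map (· ^ 3)).map e := by
    ext i j
    simp
  rw [h1, ← Matrix.transpose_map, ← Matrix.map_mul, hunit' X hX, Matrix.map_one _ (map_zero e)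
    (map_one e)]

/-- the homomorphism `SL₂(7) → SU₃(F)` for a field `F` with 9 elements -/
def homSU (e : GF9 ≃+* F) :
    Matrix.SpecialLinearGroup (Fin 2) (ZMod 7) →* Cfsg.SU 3 F 3 where
  toFun g := ⟨⟨(f₀ g.1).map e, map_det_one e g.1 g.2⟩,
    fun u v => herm_of_unitary (three_eq_zero e) _ (map_unit e g.1 g.2) u v⟩
  map_one' := by
    apply Subtype.ext
    apply Subtype.ext
    show (f₀ (1 : M2)).map e = 1
    rw [hone, Matrix.map_one _ (map_zero e) (map_one e)]
  map_mul' g h := by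
    apply Subtype.ext
    apply Subtype.ext
    show (f₀ (g.1 * h.1)).map e = (f₀ g.1).map e * (f₀ h.1).map e
    rw [f₀_mul g.1 g.2 h.1 h.2, Matrix.map_mul]

lemma homSU_val (e : GF9 ≃+* F) (g : Matrix.SpecialLinearGroup (Fin 2) (ZMod 7)) :
    ((homSU e g).1.1 : Matrix (Fin 3) (Fin 3) F) = (f₀ g.1).map e := rfl

lemma homSU_eq_one (e : GF9 ≃+* F) (g : Matrix.SpecialLinearGroup (Fin 2) (ZMod 7))
    (hg : f₀ g.1 = 1) : homSU e g = 1 := by
  apply Subtype.ext
  apply Subtype.ext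
  show (f₀ g.1).map e = 1
  rw [hg, Matrix.map_one _ (map_zero e) (map_one e)]

lemma sq_one_zmod7 : ∀ r : ZMod 7, r ^ 2 = 1 → r = 1 ∨ r = -1 := by decide

lemma homSU_center (e : GF9 ≃+* F) :
    Subgroup.center (Matrix.SpecialLinearGroup (Fin 2) (ZMod 7)) ≤ (homSU e).ker := by
  intro g hg
  rw [MonoidHom.mem_ker]
  obtain ⟨r, hr, hr'⟩ := Matrix.SpecialLinearGroup.mem_center_iff.mp hg
  have hr2 : r = 1 ∨ r = -1 := sq_one_zmod7 r (by simpa using hr)
  apply homSU_eq_one
  rcases hr2 with rfl | rfl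
  · have : g.1 = 1 := by
      rw [← hr']
      simp
    rw [this, hone]
  · have : g.1 = !![-1, 0; 0, -1] := by
      rw [← hr']
      ext i j
      fin_cases i <;> fin_cases j <;> simp
    rw [this, hneg]

def sA : Matrix.SpecialLinearGroup (Fin 2) (ZMod 7) := ⟨Amat, detAmat⟩
def sB : Matrix.SpecialLinearGroup (Fin 2) (ZMod 7) := ⟨Bmat, detBmat⟩

lemma homSU_not_comm (e : GF9 ≃+* F) : homSU e sA * homSU e sB ≠ homSU e sB * homSU e sA := by
  intro h
  have h1 : ((homSU e sA * homSU e sB).1.1 : Matrix (Fin 3) (Fin 3) F) =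
      (homSU e sB * homSU e sA).1.1 := by rw [h]
  have h2 : (MA * MB).map e = (MB * MA).map e := by
    rw [Matrix.map_mul, Matrix.map_mul, ← hfA, ← hfB]
    exact h1
  exact hnc (Matrix.map_injective e.injective h2)

end generic

open Matrix in
/-- `PSU₃(3)` has a subgroup isomorphic to `PSL₂(7)` -/
theorem psu33_has_psl27 {F : Type*} [Field F] [Fintype F] (hF : Fintype.card F = 9)
    {K : Type*} [Field K] [Fintype K] (hK : Fintype.card K = 7) :
    ∃ H : Subgroup (Cfsg.PSU 3 F 3),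
      Nonempty (H ≃* Matrix.ProjectiveSpecialLinearGroup (Fin 2) K) := by
  classical
  have : Fact (Nat.Prime 7) := ⟨by norm_num⟩
  let eF : GF9 ≃+* F := FiniteField.ringEquivOfCardEq (by rw [card_gf9, hF])
  let eK : ZMod 7 ≃+* K := ZMod.ringEquivOfPrime K (by norm_num) hK
  let ψ₀ : Matrix.SpecialLinearGroup (Fin 2) K →* Cfsg.SU 3 F 3 :=
    (homSU eF).comp (slMapEquiv eK).symm.toMonoidHom
  let ψ : Matrix.SpecialLinearGroup (Fin 2) K →* Cfsg.PSU 3 F 3 :=
    (QuotientGroup.mk' (Subgroup.center (Cfsg.SU 3 F 3))).comp ψ₀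
  have hs : IsSimpleGroup (Matrix.ProjectiveSpecialLinearGroup (Fin 2) K) := by
    apply Matrix.ProjectiveSpecialLinearGroup.rank_two_simple
    rw [Nat.card_eq_fintype_card, hK]
    norm_num
  have hc : Subgroup.center (Matrix.SpecialLinearGroup (Fin 2) K) ≤ ψ.ker := by
    intro g hg
    have h1 : (slMapEquiv eK).symm g ∈
        Subgroup.center (Matrix.SpecialLinearGroup (Fin 2) (ZMod 7)) := by
      rw [Subgroup.mem_center_iff] at hg ⊢
      intro h
      have h2 := hg (slMapEquiv eK h)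
      apply (slMapEquiv eK).injective
      simpa using h2
    have h3 := homSU_center eF h1
    rw [MonoidHom.mem_ker] at h3 ⊢
    change (QuotientGroup.mk' _) (homSU eF ((slMapEquiv eK).symm g)) = 1
    rw [h3, map_one]
  have hnt : ∃ g, ψ g ≠ 1 := by
    refine ⟨slMapEquiv eK sA, ?_⟩
    intro h
    change (QuotientGroup.mk' _) (homSU eF ((slMapEquiv eK).symm (slMapEquiv eK sA))) = 1 at h
    rw [MulEquiv.symm_apply_apply, QuotientGroup.mk'_apply, QuotientGroup.eq_one_iff,
      Subgroup.mem_center_iff] at h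
    exact homSU_not_comm eF (h (homSU eF sB)).symm
  have hinj := lift_center_injective ψ hc hnt
  exact ⟨(QuotientGroup.lift _ ψ hc).range, ⟨(MonoidHom.ofInjective hinj).symm⟩⟩

end Cfsg.Agent.H6.U33
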