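import Mathlib
import Cfsg.Prelude.Def_Classical
import Cfsg.Prelude.Def_ClassicalGeometry
import Cfsg.Prelude.Def_LieTwisted
import Cfsg.Agent.H6.G22Check
import Cfsg.Agent.H6.Ree3
import Cfsg.Agent.H6.VecPerm
import Cfsg.Agent.H6.GroupAux
import Cfsg.Agent.H6.U33
import Cfsg.Agent.S1059
import Cfsg.Agent.S0283
import Cfsg.Agent.S0279
import Cfsg.Agent.S0280
import Cfsg.Agent.S0780

/-! The derived group of the Chevalley group of type G2 over the field with two elements is
`PSU₃(3)` (helper6). -/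

set_option autoImplicit false

namespace Cfsg.Agent.H6.G22

open Cfsg Cfsg.Lie Matrix
open Cfsg.Agent.H6.Ree3 (ix forceN allN sumN allN_spec allN_intro sumN_eq forceN_eq ix_lt ix_inj
  ix_surj sum_ix)
open Cfsg.Agent.H6.L29 (GF9 encE card_gf9)
open scoped commutatorElement

/-! ### Tabulated matrices over a ring of characteristic `p` -/

section nmat

variable (R : Type*) [CommRing R]

/-- Matrix with tabulated entries. -/
def nmat (A : ℕ → ℕ → ℕ) : Matrix (Fin 2 ⊕ Fin 12) (Fin 2 ⊕ Fin 12) R :=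
  Matrix.of fun i j => ((A (ix i) (ix j) : ℕ) : R)

/-- Vector with tabulated entries. -/
def nvec (V : ℕ → ℕ) : Fin 2 ⊕ Fin 12 → R := fun j => ((V (ix j) : ℕ) : R)

variable {R} (p : ℕ) [CharP R p]

theorem cast_sumN (f : ℕ → ℕ) :
    ∑ l : Fin 2 ⊕ Fin 12, ((f (ix l) : ℕ) : R) = ((sumN 14 f % p : ℕ) : R) := by
  rw [← CharP.natCast_eq_natCast_mod R p, sumN_eq, Nat.cast_sum]
  exact sum_ix (fun l => ((f l : ℕ) : R))

theorem nmat_mul (A B C : ℕ → ℕ → ℕ)
    (h : ∀ i < 14, ∀ j < 14, (sumN 14 fun l => A i l * B l j) % p = C i j) :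
    nmat R A * nmat R B = nmat R C := by
  ext i j
  rw [Matrix.mul_apply]
  show ∑ l, ((A (ix i) (ix l) : ℕ) : R) * ((B (ix l) (ix j) : ℕ) : R) =
    ((C (ix i) (ix j) : ℕ) : R)
  rw [← h _ (ix_lt i) _ (ix_lt j), ← cast_sumN p]
  refine Finset.sum_congr rfl fun l _ => ?_
  rw [Nat.cast_mul]

theorem nmat_mulVec (A : ℕ → ℕ → ℕ) (V W : ℕ → ℕ)
    (h : ∀ j < 14, (sumN 14 fun l => A j l * V l) % p = W j) :
    nmat R A *ᵥ nvec R V = nvec R W := by
  funext j
  show ∑ l, ((A (ix j) (ix l) : ℕ) : R) * ((V (ix l) : ℕ) : R) =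
    ((W (ix j) : ℕ) : R)
  rw [← h _ (ix_lt j), ← cast_sumN p]
  refine Finset.sum_congr rfl fun l _ => ?_
  rw [Nat.cast_mul]

omit [CharP R p] in
theorem nmat_one (A : ℕ → ℕ → ℕ) (h : ∀ i < 14, ∀ j < 14, A i j = if i = j then 1 else 0) :
    nmat R A = 1 := by
  ext i j
  show ((A (ix i) (ix j) : ℕ) : R) = (1 : Matrix _ _ _) i j
  rw [h _ (ix_lt i) _ (ix_lt j), Matrix.one_apply]
  by_cases hij : i = j
  · simp [hij]
  · have : ix i ≠ ix j := fun h => hij (ix_inj h)
    simp [hij, this]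

end nmat

/-! ### Root elements under ring homomorphisms -/

theorem xMat_map {R S : Type*} [Field R] [Field S] (f : R →+* S) (D : ChevalleyDatum)
    (r : Fin D.nroots) (t : R) : (D.xMat R r t).map f = D.xMat S r (f t) := by
  refine Matrix.ext fun row col => ?_
  rw [Matrix.map_apply]
  unfold ChevalleyDatum.xMat
  simp only [Matrix.of_apply]
  rcases col with i | s
  · rcases row with i' | u
    · simp only [apply_ite f, map_one, map_zero]
    · simp only [apply_ite f, map_zero, map_mul, map_neg, map_intCast]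
  · by_cases h1 : s = r
    · simp only [h1, if_true]
      rcases row with i' | u
      · simp only [map_zero]
      · simp only [apply_ite f, map_one, map_zero]
    · simp only [h1, if_false]
      by_cases h2 : s.val = D.negIdx.getD r.val 0
      · simp only [h2, if_true]
        rcases row with i' | u
        · simp only [map_mul, map_intCast]
        · simp only [apply_ite f, map_one, map_zero, map_neg, map_pow]
      · simp only [h2, if_false]
        rcases row with i' | u
        · simp only [map_zero]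
        · simp only [map_add, apply_ite f, map_one, map_zero, map_list_sum, List.map_map]
          congr 3
          funext km
          simp only [Function.comp_apply, map_mul, map_intCast, map_pow]

/-! ### The action of the root elements on 63 vectors -/

section gside

variable {F : Type*} [Field F]

theorem x_eq2 (r : Fin 12) (t : ZMod 2) :
    chevG2.xMat (ZMod 2) r t = nmat (ZMod 2) (lxN (2 * r.val + t.val)) := by
  refine Matrix.ext fun i j => ?_
  have h := xlit r t i j
  have hx : chevG2.x (ZMod 2) r.val t = chevG2.xMat (ZMod 2) r t := by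
    unfold ChevalleyDatum.x
    exact dif_pos (show r.val < chevG2.nroots from r.isLt)
  rw [hx] at h
  exact h

theorem x_eqF (e : ZMod 2 ≃+* F) (r : Fin 12) (t : ZMod 2) :
    chevG2.xMat F r (e t) = nmat F (lxN (2 * r.val + t.val)) := by
  have h := xMat_map (e : ZMod 2 →+* F) chevG2 r t
  rw [x_eq2] at h
  have h2 : chevG2.xMat F r (e t) = (nmat (ZMod 2) (lxN (2 * r.val + t.val))).map
      (e : ZMod 2 →+* F) := h.symm
  rw [h2]
  refine Matrix.ext fun i j => ?_
  show (e : ZMod 2 →+* F) ((lxN (2 * r.val + t.val) (ix i) (ix j) : ℕ) : ZMod 2) = _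
  rw [map_natCast]
  rfl

/-- The 63 vectors. -/
def om (F : Type*) [Field F] (i : Fin 63) : Fin 2 ⊕ Fin 12 → F := nvec F (omN i.val)

theorem sgN_lt (k i : ℕ) : sgN k i < 63 := Nat.mod_lt _ (by norm_num)

/-- The tabulated maps on 63 points. -/
def sgF (k : Fin 24) (i : Fin 63) : Fin 63 := ⟨sgN k.val i.val, sgN_lt _ _⟩

theorem sgF_injective (k : Fin 24) : Function.Injective (sgF k) := by
  intro i i' h
  have h0 := allN_spec (allN_spec chkSgInj_true k.val k.isLt) i.val i.isLt
  rw [forceN_eq] at h0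
  have h1 := allN_spec h0 i'.val i'.isLt
  rw [Bool.or_eq_true] at h1
  rcases h1 with h1 | h1
  · exact Fin.ext (eq_of_beq h1)
  · exfalso
    have h2 : sgN k.val i.val = sgN k.val i'.val := congrArg Fin.val h
    rw [h2] at h1
    simp at h1

/-- The 24 permutations of the 63 points (root elements with parameters 0 and 1). -/
noncomputable def sg (k : Fin 24) : Equiv.Perm (Fin 63) :=
  Equiv.ofBijective (sgF k) (Finite.injective_iff_bijective.mp (sgF_injective k))

theorem sg_val (k : Fin 24) (i : Fin 63) : (sg k i).val = sgN k.val i.val := rfl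

theorem act [CharP F 2] (k : Fin 24) (i : Fin 63) :
    nmat F (lxN k.val) *ᵥ om F i = om F (sg k i) := by
  have h0 := allN_spec (allN_spec chkAct_true k.val k.isLt) i.val i.isLt
  rw [forceN_eq] at h0
  exact nmat_mulVec 2 _ _ _ (fun j hj => eq_of_beq (allN_spec h0 j hj))

theorem om_injective [CharP F 2] : Function.Injective (om F) := by
  intro i i' h
  have h0 := allN_spec (allN_spec chkDistinct_true i.val i.isLt) i'.val i'.isLt
  rw [Bool.or_eq_true] at h0
  rcases h0 with h0 | h0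
  · exact Fin.ext (eq_of_beq h0)
  · exfalso
    have h1 : allN 14 (fun j => omN i.val j % 2 == omN i'.val j % 2) = true := by
      apply allN_intro
      intro j hj
      obtain ⟨l, rfl⟩ := ix_surj j hj
      have h2 : ((omN i.val (ix l) : ℕ) : F) = ((omN i'.val (ix l) : ℕ) : F) :=
        congrFun h l
      rw [CharP.natCast_eq_natCast F 2] at h2
      rw [beq_iff_eq]
      exact h2
    rw [h1] at h0
    simp at h0

theorem selN_lt (l : ℕ) : selN l < 63 := Nat.mod_lt _ (by norm_num)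

theorem om_span [CharP F 2] (M : Matrix (Fin 2 ⊕ Fin 12) (Fin 2 ⊕ Fin 12) F)
    (h : ∀ i, M *ᵥ om F i = om F i) : M = 1 := by
  have hBB : nmat F (fun j l => omN (selN l) j) * nmat F binvN = 1 := by
    rw [nmat_mul 2 (fun j l => omN (selN l) j) binvN (fun j c => if j = c then 1 else 0)
      (fun j hj c hc => eq_of_beq (allN_spec (allN_spec chkSpan_true j hj) c hc))]
    exact nmat_one _ fun i _ j _ => rfl
  have hMB : M * nmat F (fun j l => omN (selN l) j) = nmat F (fun j l => omN (selN l) j) := by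
    refine Matrix.ext fun j c => ?_
    exact congrFun (h ⟨selN (ix c), selN_lt _⟩) j
  calc M = M * (nmat F (fun j l => omN (selN l) j) * nmat F binvN) := by rw [hBB, mul_one]
    _ = nmat F (fun j l => omN (selN l) j) * nmat F binvN := by rw [← mul_assoc, hMB]
    _ = 1 := hBB

theorem exists_rt : ∀ k : Fin 24, ∃ (r : Fin 12) (t : ZMod 2), k.val = 2 * r.val + t.val := by
  decide

/-- The Chevalley group of type G2 over a field with two elements embeds into the symmetric
group on the 63 vectors, with image generated by the tabulated permutations. -/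
theorem main_hom [Fintype F] (hF : Fintype.card F = 2) :
    ∃ φ : ↥(chevG2.group F) →* Equiv.Perm (Fin 63),
      Function.Injective φ ∧ φ.range = Subgroup.closure (Set.range sg) := by
  have hp : Fact (Nat.Prime 2) := ⟨Nat.prime_two⟩
  have hch : CharP F 2 := charP_of_card_eq_prime hF
  let e : ZMod 2 ≃+* F := ZMod.ringEquivOfPrime F Nat.prime_two hF
  refine VecPerm.exists_hom (om := om F) om_injective om_span
    {M | ∃ (r : Fin 12) (t : F), M = chevG2.xMat F r t} sg ?_ ?_
  · rintro M ⟨r, t, rfl⟩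
    have ht := ZMod.val_lt (e.symm t)
    refine ⟨⟨2 * r.val + (e.symm t).val, by have := r.isLt; omega⟩, fun i => ?_⟩
    have h1 := x_eqF e r (e.symm t)
    rw [RingEquiv.apply_symm_apply] at h1
    rw [h1]
    exact act ⟨2 * r.val + (e.symm t).val, by have := r.isLt; omega⟩ i
  · intro k
    obtain ⟨r, t, hk⟩ := exists_rt k
    refine ⟨_, ⟨r, e t, rfl⟩, fun i => ?_⟩
    rw [x_eqF e r t, ← hk]
    exact act k i

end gside

/-! ### The action of `SU₃(9)` on the 63 non-isotropic points -/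

/-- `3 × 3` matrices over the field with nine elements. -/
abbrev M3 : Type := Matrix (Fin 3) (Fin 3) GF9

/-- Index of the image of a point under a matrix. -/
def act9 (M : M3) (i : Fin 63) : Fin 63 :=
  ⟨pidxN (vcode (M *ᵥ ptn i.val)) % 63, Nat.mod_lt _ (by norm_num)⟩

/-- Preservation of the Hermitian form. -/
def IsU (M : M3) : Prop :=
  ∀ u v : Fin 3 → GF9, Cfsg.hermForm 3 GF9 3 (M *ᵥ u) (M *ᵥ v) = Cfsg.hermForm 3 GF9 3 u v

theorem vec3 (w : Fin 3 → GF9) : w = ![w 0, w 1, w 2] := by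
  funext j
  fin_cases j <;> rfl

theorem act9_spec (N : M3) (hN : IsU N) (i : Fin 63) :
    ∃ l : GF9, l ≠ 0 ∧ N *ᵥ ptn i.val = l • ptn (act9 N i).val := by
  have hw : Cfsg.hermForm 3 GF9 3 (N *ᵥ ptn i.val) (N *ᵥ ptn i.val) ≠ 0 := by
    rw [hN]; exact T0 i
  have h := T12 ((N *ᵥ ptn i.val) 0) ((N *ᵥ ptn i.val) 1) ((N *ᵥ ptn i.val) 2)
    (by rw [← vec3]; exact hw)
  rw [← vec3] at h
  obtain ⟨hlt, l, hl, hj⟩ := h
  refine ⟨l, hl, ?_⟩
  funext j
  rw [hj j]
  show _ = l * ptn (pidxN (vcode (N *ᵥ ptn i.val)) % 63) j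
  rw [Nat.mod_eq_of_lt hlt]

theorem act9_mul (M N : M3) (hN : IsU N) (i : Fin 63) :
    act9 (M * N) i = act9 M (act9 N i) := by
  obtain ⟨l, hl, hw⟩ := act9_spec N hN i
  apply Fin.ext
  show pidxN (vcode ((M * N) *ᵥ ptn i.val)) % 63 =
    pidxN (vcode (M *ᵥ ptn (act9 N i).val)) % 63
  rw [← Matrix.mulVec_mulVec, hw, Matrix.mulVec_smul]
  have h3 := T3 ((M *ᵥ ptn (act9 N i).val) 0) ((M *ᵥ ptn (act9 N i).val) 1)
    ((M *ᵥ ptn (act9 N i).val) 2) l hl
  have e1 : vcode (l • (M *ᵥ ptn (act9 N i).val)) =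
      vcode ![l * (M *ᵥ ptn (act9 N i).val) 0, l * (M *ᵥ ptn (act9 N i).val) 1,
        l * (M *ᵥ ptn (act9 N i).val) 2] := rfl
  rw [e1, h3, ← vec3]

theorem act9_one (i : Fin 63) : act9 1 i = i := by
  apply Fin.ext
  show pidxN (vcode ((1 : M3) *ᵥ ptn i.val)) % 63 = i.val
  rw [Matrix.one_mulVec, T6 i, Nat.mod_eq_of_lt i.isLt]

/-- `SU₃` over the field with nine elements. -/
abbrev SU9 : Type := ↥(Cfsg.SU 3 GF9 3)

theorem su_isU (X : SU9) : IsU X.1.1 := X.2

/-- The action of an element of `SU₃(9)` on the 63 points. -/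
def tfun (X : SU9) : Function.End (Fin 63) := act9 X.1.1

theorem tfun_one : tfun 1 = 1 := by
  funext i
  exact act9_one i

theorem tfun_mul (X Y : SU9) : tfun (X * Y) = tfun X * tfun Y := by
  funext i
  exact act9_mul X.1.1 Y.1.1 (su_isU Y) i

/-- The permutation representation on the 63 points. -/
noncomputable def rho : SU9 →* Equiv.Perm (Fin 63) :=
  MonoidHom.toHomPerm { toFun := tfun, map_one' := tfun_one, map_mul' := tfun_mul }

theorem rho_apply (X : SU9) (i : Fin 63) : rho X i = act9 X.1.1 i := rfl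

/-! ### Simplicity and order of `SU₃(3)` -/

section su

variable {K : Type*} [Field K] [Fintype K]

theorem su_center_bot (hK : Fintype.card K = 9) : Subgroup.center (Cfsg.SU 3 K 3) = ⊥ := by
  apply Subgroup.eq_bot_of_card_eq
  rw [Cfsg.Agent.S0279.result (q := 3) (by rw [hK]; norm_num) 3 le_rfl]
  rfl

/-- `SU₃(3) ≅ PSU₃(3)`. -/
noncomputable def suEquivPSU (hK : Fintype.card K = 9) : ↥(Cfsg.SU 3 K 3) ≃* Cfsg.PSU 3 K 3 :=
  (QuotientGroup.quotientBot (G := ↥(Cfsg.SU 3 K 3))).symm.trans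
    (QuotientGroup.quotientMulEquivOfEq (su_center_bot hK).symm)

theorem su_simple (hK : Fintype.card K = 9) : IsSimpleGroup ↥(Cfsg.SU 3 K 3) := by
  have h := Cfsg.Agent.S0283.result (F := K) (q := 3) (by rw [hK]; norm_num) 3 le_rfl (by omega)
  exact (suEquivPSU hK).isSimpleGroup

theorem su_card (hK : Fintype.card K = 9) : Nat.card ↥(Cfsg.SU 3 K 3) = 6048 := by
  rw [Nat.card_congr (suEquivPSU hK).toEquiv]
  have h := Cfsg.Agent.S0280.result (F := K) (q := 3) (by rw [hK]; norm_num) 3 (by norm_num)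
  simp only [Finset.prod_range_succ, Finset.prod_range_zero] at h
  norm_num at h
  omega

end su

/-- Two explicit elements. -/
def Amat : M3 := !![1, 0, 0; 0, -1, 0; 0, 0, -1]
def Bmat : M3 := !![0, 1, 0; 0, 0, 1; 1, 0, 0]

theorem three_zero : (3 : GF9) = 0 := by decide

theorem Amat_u : Amat.transpose * Amat.map (· ^ 3) = 1 := by decide
theorem Bmat_u : Bmat.transpose * Bmat.map (· ^ 3) = 1 := by decide
theorem Amat_det : Amat.det = 1 := by rw [Matrix.det_fin_three]; decide
theorem Bmat_det : Bmat.det = 1 := by rw [Matrix.det_fin_three]; decide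

/-- The two elements in `SU₃(9)`. -/
def sA : SU9 := ⟨⟨Amat, Amat_det⟩, fun u v => U33.herm_of_unitary three_zero Amat Amat_u u v⟩
def sB : SU9 := ⟨⟨Bmat, Bmat_det⟩, fun u v => U33.herm_of_unitary three_zero Bmat Bmat_u u v⟩

theorem AB_ne : Amat * Bmat ≠ Bmat * Amat := by decide

theorem sA_sB : sA * sB ≠ sB * sA := by
  intro h
  apply AB_ne
  have h1 : (sA * sB).1.1 = (sB * sA).1.1 := by rw [h]
  exact h1

theorem act_A : act9 Amat ⟨21, by norm_num⟩ ≠ ⟨21, by norm_num⟩ := by decide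

theorem su9_simple : IsSimpleGroup SU9 := su_simple card_gf9

theorem rho_injective : Function.Injective rho := by
  have hs := su9_simple
  rw [← MonoidHom.ker_eq_bot_iff]
  rcases (MonoidHom.normal_ker rho).eq_bot_or_eq_top with h | h
  · exact h
  · exfalso
    have h1 : sA ∈ rho.ker := by rw [h]; exact Subgroup.mem_top _
    rw [MonoidHom.mem_ker] at h1
    apply act_A
    have h2 : rho sA ⟨21, by norm_num⟩ = ⟨21, by norm_num⟩ := by rw [h1]; rfl
    exact h2

theorem su9_perfect : commutator SU9 = ⊤ := by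
  have hs := su9_simple
  exact GroupAux.commutator_eq_top_of_simple ⟨sA, sB, sA_sB⟩

/-! ### Unitary transvections are words in the root elements -/

theorem encE_lt : ∀ x : GF9, encE x < 9 := by decide

theorem rowN_eq (M : M3) (m : ℕ → ℕ → ℕ) (hm : ∀ x y : Fin 3, m x.val y.val = encE (M x y))
    (x : Fin 3) (i : Fin 63) : rowN m x.val i.val = encE ((M *ᵥ ptn i.val) x) := by
  have hp : ∀ y : Fin 3, encE (ptn i.val y) = ptN i.val y.val :=
    fun y => enc_dE ⟨ptN i.val y.val, ptN_lt i y⟩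
  have e : (M *ᵥ ptn i.val) x =
      M x 0 * ptn i.val 0 + M x 1 * ptn i.val 1 + M x 2 * ptn i.val 2 := by
    simp [Matrix.mulVec, dotProduct, Fin.sum_univ_three]
  rw [e, enc_add, enc_add, enc_mul, enc_mul, enc_mul, hp, hp, hp, ← hm x 0, ← hm x 1, ← hm x 2]
  rfl

theorem actN_eq (M : M3) (m : ℕ → ℕ → ℕ) (hm : ∀ x y : Fin 3, m x.val y.val = encE (M x y))
    (i : Fin 63) : actN m i.val = pidxN (vcode (M *ᵥ ptn i.val)) := by
  unfold actN vcode
  rw [← rowN_eq M m hm 0 i, ← rowN_eq M m hm 1 i, ← rowN_eq M m hm 2 i]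
  rfl

theorem uni_of_isU (M : M3) (h : IsU M) (x y : Fin 3) :
    M 0 x * M 0 y ^ 3 + M 1 x * M 1 y ^ 3 + M 2 x * M 2 y ^ 3 = if x = y then 1 else 0 := by
  have h1 := h (Pi.single x 1) (Pi.single y 1)
  have hcol : ∀ (z r : Fin 3), (M *ᵥ Pi.single z 1) r = M r z := by
    intro z r
    simp [Matrix.mulVec, dotProduct, Pi.single_apply]
  simp only [Cfsg.hermForm, Fin.sum_univ_three, hcol] at h1
  rw [h1]
  fin_cases x <;> fin_cases y <;> simp

theorem tv_entry (v : Fin 3 → GF9) (c : GF9) (x y : Fin 3) :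
    encE (Cfsg.unitaryTransvection 3 3 v c x y) =
      mT (encE (v 0)) (encE (v 1)) (encE (v 2)) (encE c) x.val y.val := by
  have hv : ∀ z : Fin 3, vsel (encE (v 0)) (encE (v 1)) (encE (v 2)) z.val = encE (v z) := by
    intro z
    fin_cases z <;> rfl
  have h1 : Cfsg.unitaryTransvection 3 3 v c x y =
      (if x = y then 1 else 0) + c * (v x * v y ^ 3) := by
    simp [Cfsg.unitaryTransvection, Matrix.add_apply, Matrix.one_apply, Matrix.smul_apply,
      Matrix.vecMulVec_apply]
  rw [h1, enc_add, enc_mul, enc_mul, enc_cube]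
  unfold mT
  rw [hv, hv]
  congr 1
  by_cases hxy : x = y
  · rw [if_pos hxy, if_pos (congrArg Fin.val hxy), enc_one]
  · rw [if_neg hxy, if_neg (fun h => hxy (Fin.ext h)), enc_zero]

theorem sg_mem (k : Fin 24) : sg k ∈ Subgroup.closure (Set.range sg) :=
  Subgroup.subset_closure ⟨k, rfl⟩

theorem wev_mem : ∀ (n w : ℕ), ∃ g ∈ Subgroup.closure (Set.range sg),
    ∀ i : Fin 63, (g i).val = wev n w i.val
  | 0, _ => ⟨1, Subgroup.one_mem _, fun _ => rfl⟩
  | n + 1, w => by
    obtain ⟨g', hg', h'⟩ := wev_mem n (w >>> 4)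
    by_cases hl : (w &&& 15) < 12
    · refine ⟨sg ⟨2 * (w &&& 15) + 1, by omega⟩ * g', Subgroup.mul_mem _ (sg_mem _) hg',
        fun i => ?_⟩
      show sgN (2 * (w &&& 15) + 1) (g' i).val = sgW (w &&& 15) (wev n (w >>> 4) i.val)
      rw [h' i]
      unfold sgW
      rw [if_pos hl]
    · refine ⟨g', hg', fun i => ?_⟩
      show _ = sgW (w &&& 15) (wev n (w >>> 4) i.val)
      rw [h' i]
      unfold sgW
      rw [if_neg hl]

theorem rho_mem_P (A : SU9) (v : Fin 3 → GF9) (c : GF9)
    (hv : Cfsg.hermForm 3 GF9 3 v v = 0)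
    (hA : (A.1.1 : M3) = Cfsg.unitaryTransvection 3 3 v c) :
    rho A ∈ Subgroup.closure (Set.range sg) := by
  have hent : ∀ x y : Fin 3,
      mT (encE (v 0)) (encE (v 1)) (encE (v 2)) (encE c) x.val y.val = encE (A.1.1 x y) := by
    intro x y
    rw [hA]
    exact (tv_entry v c x y).symm
  have hiso : isoN (encE (v 0)) (encE (v 1)) (encE (v 2)) = true := by
    unfold isoN
    rw [beq_iff_eq]
    have h1 : v 0 * v 0 ^ 3 + v 1 * v 1 ^ 3 + v 2 * v 2 ^ 3 = 0 := by
      have h0 := hv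
      simp only [Cfsg.hermForm, Fin.sum_univ_three] at h0
      exact h0
    have h2 := congrArg encE h1
    rw [enc_add, enc_add, enc_mul, enc_mul, enc_mul, enc_cube, enc_cube, enc_cube, enc_zero] at h2
    exact h2
  have huni : uniN (mT (encE (v 0)) (encE (v 1)) (encE (v 2)) (encE c)) = true := by
    unfold uniN
    apply allN_intro
    intro x hx
    apply allN_intro
    intro y hy
    rw [beq_iff_eq]
    have h1 := uni_of_isU A.1.1 (su_isU A) ⟨x, hx⟩ ⟨y, hy⟩
    have h2 := congrArg encE h1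
    rw [enc_add, enc_add, enc_mul, enc_mul, enc_mul, enc_cube, enc_cube, enc_cube,
      ← hent 0 ⟨x, hx⟩, ← hent 0 ⟨y, hy⟩, ← hent 1 ⟨x, hx⟩, ← hent 1 ⟨y, hy⟩,
      ← hent 2 ⟨x, hx⟩, ← hent 2 ⟨y, hy⟩] at h2
    rw [show (if x = y then 3 else 0) = encE (if (⟨x, hx⟩ : Fin 3) = ⟨y, hy⟩ then (1 : GF9) else 0)
      from ?_]
    · exact h2
    · by_cases hxy : x = y
      · subst hxy
        rw [if_pos rfl, if_pos rfl, enc_one]
      · rw [if_neg hxy, if_neg (fun h => hxy (congrArg Fin.val h)), enc_zero]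
  have hchk := allN_spec (allN_spec (allN_spec chkTv_true _ (encE_lt (v 0))) _ (encE_lt (v 1))) _
    (encE_lt (v 2))
  rw [hiso] at hchk
  simp only [Bool.not_true, Bool.false_or] at hchk
  have hchk2 := allN_spec hchk _ (encE_lt c)
  rw [huni] at hchk2
  simp only [Bool.not_true, Bool.false_or] at hchk2
  rw [forceN_eq] at hchk2
  obtain ⟨g, hg, hgi⟩ := wev_mem 6
    (wordN (9 * (81 * encE (v 0) + 9 * encE (v 1) + encE (v 2)) + encE c))
  have hrg : rho A = g := by
    refine Equiv.ext fun i => Fin.ext ?_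
    rw [rho_apply]
    show pidxN (vcode (A.1.1 *ᵥ ptn i.val)) % 63 = (g i).val
    rw [← actN_eq A.1.1 _ hent i, eq_of_beq (allN_spec hchk2 i.val i.isLt), ← hgi i,
      Nat.mod_eq_of_lt (g i).isLt]
  rw [hrg]
  exact hg

theorem range_le : rho.range ≤ Subgroup.closure (Set.range sg) := by
  have hgen := Cfsg.Agent.S0780.result (F := GF9) (q := 3) (by rw [card_gf9]; norm_num) 3 le_rfl
    (by omega)
  rw [MonoidHom.range_eq_map, ← hgen, MonoidHom.map_closure, Subgroup.closure_le]
  rintro _ ⟨A, ⟨v, c, hv, hA⟩, rfl⟩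
  exact rho_mem_P A v c hv hA

/-- The derived group of `G₂(2)` is isomorphic to `PSU₃(3)`. -/
theorem g22_main {F K : Type*} [Field F] [Fintype F] [Field K] [Fintype K]
    (hF : Fintype.card F = 2) (hK : Fintype.card K = 9) :
    Nonempty (↥(commutator ↥(chevG2.group F)) ≃* Cfsg.PSU 3 K 3) := by
  classical
  obtain ⟨φ, hφ, hrange⟩ := main_hom hF
  obtain ⟨e1⟩ := VecPerm.nonempty_commutator_equiv φ hφ
  have hcardP : Nat.card ↥(Subgroup.closure (Set.range sg)) = 12096 := by
    rw [← hrange, ← Nat.card_congr (MonoidHom.ofInjective hφ).toEquiv,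
      Cfsg.Agent.S1059.result hF]
    norm_num
  have hcardR : Nat.card ↥rho.range = 6048 := by
    rw [← Nat.card_congr (MonoidHom.ofInjective rho_injective).toEquiv]
    exact su_card card_gf9
  have hD : (⁅φ.range, φ.range⁆ : Subgroup (Equiv.Perm (Fin 63))) = rho.range := by
    rw [hrange]
    apply le_antisymm
    · exact GroupAux.commutator_le_of_card_eq_two_mul _ _ range_le (by rw [hcardP, hcardR])
    · exact GroupAux.range_le_commutator rho su9_perfect _ range_le
  let e2 : ↥(⁅φ.range, φ.range⁆ : Subgroup (Equiv.Perm (Fin 63))) ≃* ↥rho.range :=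
    MulEquiv.subgroupCongr hD
  let e3 : SU9 ≃* ↥rho.range := MonoidHom.ofInjective rho_injective
  let eK : GF9 ≃+* K := FiniteField.ringEquivOfCardEq (card_gf9.trans hK.symm)
  let e4 : SU9 ≃* ↥(Cfsg.SU 3 K 3) := GroupAux.suMapEquiv eK 3 3
  exact ⟨e1.trans (e2.trans (e3.symm.trans (e4.trans (suEquivPSU hK))))⟩

end Cfsg.Agent.H6.G22
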