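import Cfsg.Agent.H33.LHSSimple

/-!
# The Higman–Sims group on the table of 100 vectors: definitions for S2072 (helper6)

Permutations of the 100 table vectors `vec (fldW 192 L100E j)` are packed one byte per point
(`f8 c j` is the image of `j`). `px` (order 11) and `py` (an involution) are the permutations
induced by the lattice words `WX`, `WY`; `K` is the group they generate. The `St*` propositions are
the pieces of the team project.
-/

set_option autoImplicit false

namespace Cfsg.Agent.H6.HS

open Cfsg Cfsg.Agent.H9 Cfsg.Agent.H93 Cfsg.Agent.H33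

/-- product of packed permutations: `(a * b) j = a (b j)` -/
def mulQ (a b : ℕ) : ℕ := pack8 ((List.range 100).map (fun j => f8 a (f8 b j)))

/-- equality of the first 100 bytes -/
def eqQ (a b : ℕ) : Bool := allB (fun j => Nat.beq (f8 a j) (f8 b j)) 100

/-- the identity permutation -/
def oneQ : ℕ := pack8 (List.range 100)

/-- powers -/
def powQ (a : ℕ) : ℕ → ℕ
  | 0 => oneQ
  | n + 1 => mulQ a (powQ a n)

/-- `c` and `ci` are mutually inverse permutations of `0, …, 99` -/
def invOK (c ci : ℕ) : Bool :=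
  allB (fun j => Nat.blt (f8 c j) 100 && (Nat.blt (f8 ci j) 100 &&
    (Nat.beq (f8 c (f8 ci j)) j && Nat.beq (f8 ci (f8 c j)) j))) 100

theorem invOK_spec {c ci : ℕ} (h : invOK c ci = true) {j : ℕ} (hj : j < 100) :
    f8 c j < 100 ∧ f8 ci j < 100 ∧ f8 c (f8 ci j) = j ∧ f8 ci (f8 c j) = j := by
  have := (allB_iff _ _).mp h j hj
  simp only [Bool.and_eq_true, Nat.blt_eq, Nat.beq_eq] at this
  exact ⟨this.1, this.2.1, this.2.2.1, this.2.2.2⟩

/-- the permutation with code `c` and inverse code `ci` -/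
def permOf (c ci : ℕ) (h : invOK c ci = true) : Equiv.Perm (Fin 100) where
  toFun j := ⟨f8 c j.val, (invOK_spec h j.isLt).1⟩
  invFun j := ⟨f8 ci j.val, (invOK_spec h j.isLt).2.1⟩
  left_inv j := Fin.ext (invOK_spec h j.isLt).2.2.2
  right_inv j := Fin.ext (invOK_spec h j.isLt).2.2.1

/-- the permutation `g` has the code `c` -/
def PRep (g : Equiv.Perm (Fin 100)) (c : ℕ) : Prop := ∀ j : Fin 100, (g j).val = f8 c j.val

theorem prep_permOf (c ci : ℕ) (h : invOK c ci = true) : PRep (permOf c ci h) c := fun _ => rfl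

/-- the code of `x` -/
def cX : ℕ := 0x702172f5d10163654282a5359350e0d042213205f4a433b444c4240453a3e3f004b473d41463c4d48491e1d502c19315539582103600f12240a154f30335e0806236111250c345a0b260563141f091827291a1c1b6232562e5c572d51385b522b37014e
/-- the code of the inverse of `x` -/
def cXi : ℕ := 0x180e212e4f255f0a051c5731090c335b5804073728003c4a424e3a3b413e474b4d493f484445403d4c463206025c561d260d3427600b08360359125a131a1f2b22523050163938100f113514615d2917512c205e2d55541e1b2a1524632319532f620143
/-- the code of `y` -/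
def cY : ℕ := 0x4d435152082c4e320f032b3e3c50112d3b606156125d634637042f40454c47146224194829583557533127234b1a3d16205c3a0d4922545e591b3f00390a2142382e25331d1c1f1e2a364102153417440b4f550c5b0530101326075f09010e4a5a180628

theorem cX_ok : invOK cX cXi = true := by decide +kernel
theorem cY_ok : invOK cY cY = true := by decide +kernel

/-- an element of order 11 -/
def px : Equiv.Perm (Fin 100) := permOf cX cXi cX_ok
/-- an involution -/
def py : Equiv.Perm (Fin 100) := permOf cY cY cY_ok

/-- the Higman–Sims group as a permutation group on the 100 table vectors -/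
def K : Subgroup (Equiv.Perm (Fin 100)) := Subgroup.closure {px, py}

/-- the lattice word inducing `px` -/
def WX : List (ℕ × ℕ) := [(0x3aae5939e4b504bab668824cc88c20, 0x0), (0x3aae5939e4b504bab668824cc88c20, 0x0), (0xb3ce6b9208155ae2a46c8aa7492c20, 0x0)]
/-- the lattice word inducing `py` -/
def WY : List (ℕ × ℕ) := [(0x70d145348183d89b9ea2b2cb38c8c0, 0x0), (0x5102d30cf28ad287d405b3a909b057, 0xf336ed), (0, 0), (0xbc9382a3670ae3a564b6150601d2d, 0x8c277c), (0, 0), (0xb826e3d18a858a40aead13c7132648, 0x5431b7), (0x3220f392cd716e9a54529ad818a860, 0x0), (0x5102d30cf28ad287d405b3a909b057, 0xf336ed), (0, 0), (0xbc9382a3670ae3a564b6150601d2d, 0x8c277c), (0, 0), (0xb826e3d18a858a40aead13c7132648, 0x5431b7), (0xbdab49ca307b9ac5a928398a418820, 0x0), (0xb3ce6b9208155ae2a46c8aa7492c20, 0x0), (0x70d145348183d89b9ea2b2cb38c8c0, 0x0), (0x5102d30cf28ad287d405b3a909b057, 0xf336ed), (0, 0), (0xbc9382a3670ae3a564b6150601d2d, 0x8c277c), (0, 0), (0xb826e3d18a858a40aead13c7132648, 0x5431b7), (0x3220f392cd716e9a54529ad818a860,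 0x0), (0x5102d30cf28ad287d405b3a909b057, 0xf336ed), (0, 0), (0xbc9382a3670ae3a564b6150601d2d, 0x8c277c), (0, 0), (0xb826e3d18a858a40aead13c7132648, 0x5431b7), (0xbdab49ca307b9ac5a928398a418820, 0x0), (0xb3ce6b9208155ae2a46c8aa7492c20, 0x0), (0x70d145348183d89b9ea2b2cb38c8c0, 0x0), (0x5102d30cf28ad287d405b3a909b057, 0xf336ed), (0, 0), (0xbc9382a3670ae3a564b6150601d2d, 0x8c277c), (0, 0), (0xb826e3d18a858a40aead13c7132648, 0x5431b7), (0x3220f392cd716e9a54529ad818a860, 0x0), (0x5102d30cf28ad287d405b3a909b057, 0xf336ed), (0, 0), (0xbc9382a3670ae3a564b6150601d2d, 0x8c277c), (0, 0), (0xb826e3d18a858a40aead13c7132648, 0x5431b7), (0xbdab49ca307b9ac5a928398a418820, 0x0), (0xb3ce6b9208155ae2a46c8aa7492c20, 0x0)]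

/-- the standard copy of the Higman–Sims group: the stabiliser of `a48` and `w48` -/
abbrev HSstd : Subgroup ↥Co0 := MulAction.stabilizer ↥Co0 a48 ⊓ MulAction.stabilizer ↥Co0 w48

/-- the lattice automorphism `g` acts on the table of 100 vectors as the permutation `p` -/
def ActsAs (g : ↥Co0) (p : Equiv.Perm (Fin 100)) : Prop :=
  ∀ (j : Fin 100) (v : leechLattice), (v : GolayPt → ℤ) = vec (fldW 192 L100E j.val) →
    ((g • v : leechLattice) : GolayPt → ℤ) = vec (fldW 192 L100E (p j).val)

/-- piece HS-ISO: the group of the definitions is isomorphic to the standard copy -/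
def StIso : Prop := Nonempty (↥Cfsg.Spor.HS ≃* ↥HSstd)

/-- piece HS-RHO: the action of the standard copy on the table, as a homomorphism -/
def StRho : Prop := ∃ ρ : ↥HSstd →* Equiv.Perm (Fin 100),
  (∀ g : ↥HSstd, ActsAs g.1 (ρ g)) ∧ ∀ (g : ↥HSstd) (p : Equiv.Perm (Fin 100)), ActsAs g.1 p → ρ g = p

/-- piece HS-WORD: the two words give elements of the standard copy acting as `px` and `py` -/
def StWord : Prop := (∃ g ∈ HSstd, ActsAs g px) ∧ (∃ g ∈ HSstd, ActsAs g py)

end Cfsg.Agent.H6.HS
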