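import Cfsg.Agent.H6.J3OData
import Cfsg.Agent.H10.J3.Small

/-!
Kernel-evaluated certificate checks for the outer automorphism group of `J₃`.
-/

set_option autoImplicit false

namespace Cfsg.Agent.H6.J3O

open Cfsg.Agent.H10.F4 Cfsg.Agent.H10.J3

/-- all 480 bits -/
def M480 : Nat := 2 ^ 480 - 1
/-- all 256 bits -/
def M256 : Nat := 2 ^ 256 - 1

/-- the code of `x ^ i` -/
def XP (i : Nat) : Nat := XPl.getD i ONE
/-- the code of the inverse of `x ^ i` -/
def XPi (i : Nat) : Nat := XPil.getD i ONE

/-- entrywise Frobenius map on codes -/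
def frobP (P : Nat) : Nat := Nat.xor P (Nat.land (Nat.shiftRight P (nat_lit 9)) lo9)

/-- the twisted automorphism on codes -/
def tauP (P : Nat) : Nat := mulP (mulP cPhi (frobP P)) cPhi

/-- the code of a scalar of the second kind -/
def W1c : Nat := codeOf (wAll ONE)
/-- the code of a scalar of the third kind -/
def W2c : Nat := codeOf (wAll (wAll ONE))

/-- is the code a scalar matrix of the group -/
def isScal (c : Nat) : Bool :=
  Nat.beq (codeOf c) ONE || Nat.beq (codeOf c) W1c || Nat.beq (codeOf c) W2c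

/-- the words used in the refutations -/
def WL (k : Nat) : List Nat :=
  ([[1], [2], [3], [4], [5], [6], [7], [8], [9], [1, 2, 5]] : List (List Nat)).getD k []

/-- the code of the word `x ^ a₁ t x ^ a₂ t …` -/
def wordC (t : Nat) (l : List Nat) : Nat :=
  l.foldr (fun a acc => mulP (mulP (XP (a % 19)) t) acc) ONE

noncomputable section

/-- entry `j` of the table of representatives -/
def Rent (j : Nat) : Nat :=
  Nat.land (Nat.shiftRight (tR.get (Nat.shiftRight j (nat_lit 7)))
    (Nat.mul (nat_lit 480) (Nat.land j (nat_lit 127)))) M480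

/-- the code of representative `j` -/
def cR (j : Nat) : Nat := codeOf (Rent j)
/-- the word of its refutation -/
def Rk (j : Nat) : Nat := fld (Rent j) (nat_lit 162) (nat_lit 15)
/-- the exponent of its refutation -/
def Rm (j : Nat) : Nat := fld (Rent j) (nat_lit 166) (nat_lit 31)
/-- the shift of the conjugate by `x'` of the `i`-th shift of representative `j` -/
def Rci (i j : Nat) : Nat := fld (Rent j) (Nat.add (nat_lit 176) (Nat.mul (nat_lit 16) i)) (nat_lit 31)
/-- the representative of the conjugate by `x'` of the `i`-th shift of representative `j` -/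
def Rcj (i j : Nat) : Nat :=
  fld (Rent j) (Nat.add (nat_lit 181) (Nat.mul (nat_lit 16) i)) (nat_lit 2047)

/-- the `i`-th shift of representative `j` -/
def conjC (i j : Nat) : Nat := mulP (mulP (XP i) (cR j)) (XPi i)

/-- closure of the set of shifts under conjugation by `x'` -/
def chkS1 (j i : Nat) : Bool :=
  Nat.blt (Rci i j) (nat_lit 19) && Nat.blt (Rcj i j) (nat_lit 1377) &&
    Nat.beq (mulP (mulP cX' (conjC i j)) cXpi) (conjC (Rci i j) (Rcj i j))

/-- closure under conjugation by `x'`, for all shifts of representative `j` -/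
def chkS (j : Nat) : Bool := allFrom (chkS1 j) 0 19

/-- the refutation of representative `j` -/
def chkRef (j : Nat) : Bool :=
  Nat.beq j (nat_lit 276) ||
    Bool.xor (isScal (powP (wordC cY (WL (Rk j))) (Rm j)))
      (isScal (powP (wordC (cR j) (WL (Rk j))) (Rm j)))

end

/-- entry `m` of the Sylow table -/
def Pent (m : Nat) : Nat := Nat.land (Nat.shiftRight nP (Nat.mul (nat_lit 256) m)) M256
/-- the code of element `m` of the Sylow subgroup -/
def cP (m : Nat) : Nat := codeOf (Pent m)
/-- the index of its inverse -/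
def Piv (m : Nat) : Nat := fld (Pent m) (nat_lit 162) (nat_lit 127)
/-- where it sifts to -/
def Psi (m : Nat) : Nat := fld (Pent m) (nat_lit 169) (nat_lit 32767)
/-- where it sifts to -/
def Pse (m : Nat) : Nat := fld (Pent m) (nat_lit 184) (nat_lit 8191)
/-- the shift, if it is an involution -/
def Pci (m : Nat) : Nat := fld (Pent m) (nat_lit 197) (nat_lit 31)
/-- the representative, if it is an involution -/
def Pcj (m : Nat) : Nat := fld (Pent m) (nat_lit 202) (nat_lit 2047)
/-- the index of a product -/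
def Pm (m m' : Nat) : Nat :=
  fld nPM (Nat.mul (nat_lit 7) (Nat.add (Nat.mul (nat_lit 128) m) m')) (nat_lit 127)

noncomputable section

/-- the check for element `m` of the Sylow table -/
def chkP (m : Nat) : Bool :=
  allFrom (fun m' => Nat.beq (mulP (cP m) (cP m')) (cP (Pm m m'))) 0 128 &&
  Nat.beq (mulP (cP m) (cP (Piv m))) ONE && Nat.beq (mulP (cP (Piv m)) (cP m)) ONE &&
  (Nat.beq (m + 1) (nat_lit 128) || Nat.blt (cP m) (cP (m + 1))) &&
  Nat.blt (Psi m) (nat_lit 23256) && Nat.blt (Pse m) (nat_lit 6480) &&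
  Nat.beq (mulP (Tc tT (Psi m)) (Ec tE (Pse m))) (cP m) &&
  (!(Nat.beq (codeOf (mulP (cP m) (cP m))) ONE) || Nat.beq (cP m) ONE ||
    (Nat.blt (Pci m) (nat_lit 19) && Nat.blt (Pcj m) (nat_lit 1377) &&
      Nat.beq (cP m) (conjC (Pci m) (Pcj m))))

end

theorem chkS_0 : allFrom chkS 0 350 = true := by decide +kernel
theorem chkS_1 : allFrom chkS 350 350 = true := by decide +kernel
theorem chkS_2 : allFrom chkS 700 350 = true := by decide +kernel
theorem chkS_3 : allFrom chkS 1050 327 = true := by decide +kernel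

theorem chkS_all : ∀ j, j < 1377 → chkS j = true := by
  intro j hj
  by_cases h0 : j < 350
  · exact allFrom_sound _ _ _ chkS_0 j (by omega) (by omega)
  by_cases h1 : j < 700
  · exact allFrom_sound _ _ _ chkS_1 j (by omega) (by omega)
  by_cases h2 : j < 1050
  · exact allFrom_sound _ _ _ chkS_2 j (by omega) (by omega)
  exact allFrom_sound _ _ _ chkS_3 j (by omega) (by omega)

theorem chkRef_0 : allFrom chkRef 0 1377 = true := by decide +kernel

theorem chkRef_all : ∀ j, j < 1377 → chkRef j = true := fun j hj =>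
  allFrom_sound _ _ _ chkRef_0 j (by omega) (by omega)

theorem chkP_0 : allFrom chkP 0 128 = true := by decide +kernel

theorem chkP_all : ∀ m, m < 128 → chkP m = true := fun m hm =>
  allFrom_sound _ _ _ chkP_0 m (by omega) (by omega)

theorem cP_one : cP p1 = ONE := by decide +kernel
theorem cR_y : cR 276 = cY := by decide +kernel
theorem XP_pow : ∀ i : Fin 19, powP cX i.val = XP i.val := by decide +kernel
theorem XPi_inv : ∀ i : Fin 19, mulP (XP i.val) (XPi i.val) = ONE := by decide +kernel
theorem cXpi_inv : mulP cX' cXpi = ONE := by decide +kernel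
theorem cY_sq : mulP cY cY = ONE := by decide +kernel
theorem cY_sift : sY.1 < 23256 ∧ sY.2 < 6480 ∧ mulP (Tc tT sY.1) (Ec tE sY.2) = cY := by
  decide +kernel
theorem cY_ne : isScal cY = false := by decide +kernel
theorem cX_ne : isScal cX = false := by decide +kernel
theorem gen_word : mulP (wordC cY [3, 8, 17]) (XP 18) = cX' := by decide +kernel
theorem cN_inv : mulP cN cNi = ONE ∧ mulP cNi cN = ONE := by decide +kernel
theorem cN_sift : sN.1 < 23256 ∧ sN.2 < 6480 ∧ mulP (Tc tT sN.1) (Ec tE sN.2) = cN := by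
  decide +kernel
theorem cN_rel : mulP (mulP cN cX) cNi = XP 4 := by decide +kernel
theorem cPhi_sq : mulP cPhi cPhi = ONE := by decide +kernel
theorem cC0_inv : mulP cC0 cC0i = ONE ∧ mulP cC0i cC0 = ONE := by decide +kernel
theorem cC0_sift : sC0.1 < 23256 ∧ sC0.2 < 6480 ∧ mulP (Tc tT sC0.1) (Ec tE sC0.2) = cC0 := by
  decide +kernel
theorem tau_rel : tauP cX = mulP (mulP cC0 (XPi 1)) cC0i := by decide +kernel
theorem tau_sift : sTX.1 < 23256 ∧ sTX.2 < 6480 ∧ mulP (Tc tT sTX.1) (Ec tE sTX.2) = tauP cX ∧
    sTX'.1 < 23256 ∧ sTX'.2 < 6480 ∧ mulP (Tc tT sTX'.1) (Ec tE sTX'.2) = tauP cX' := by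
  decide +kernel
theorem tau_scal : codeOf (tauP (Ec tE 4981)) ≠ codeOf (Ec tE 4981) := by decide +kernel
theorem codeOf_ONE : codeOf ONE = ONE := by decide +kernel
theorem scalW : Ec tE 4981 = W1c ∧ Ec tE 5102 = W2c := by decide +kernel

end Cfsg.Agent.H6.J3O
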