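import Cfsg.Agent.H6.McLDefs

/-!
# The permutation group on the 275 table vectors is the McLaughlin group (helper6)

Given the lattice pieces (isomorphism with the standard copy, simplicity and order of the standard
copy, its action on the table, the two words) and the lower bound for the order of `K`.
-/

set_option autoImplicit false

namespace Cfsg.Agent.H6.McL

open Cfsg Cfsg.Agent.H9 Cfsg.Agent.H93 Cfsg.Agent.H33

theorem cX_zero : f16 cX 0 ≠ 0 := by decide +kernel

theorem px_ne_one : px ≠ 1 := by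
  intro e
  have h : (px ⟨0, by norm_num⟩).val = f16 cX 0 := rfl
  rw [e] at h
  exact cX_zero h.symm

theorem mcl_perm_iso (hI : StIso) (hS : StSimple) (hR : StRho) (hW : StWord)
    (hLB : 898128000 ≤ Nat.card ↥K) :
    Nonempty (↥Cfsg.Spor.McL ≃* ↥K) ∧ Nat.card ↥K = 898128000 := by
  obtain ⟨e0⟩ := hI
  obtain ⟨hsimp, hcard⟩ := hS
  obtain ⟨ρ, hρ, huniq⟩ := hR
  obtain ⟨⟨gx, hgx, ax⟩, ⟨gy, hgy, ay⟩⟩ := hW
  have ex : ρ ⟨gx, hgx⟩ = px := huniq ⟨gx, hgx⟩ px ax
  have ey : ρ ⟨gy, hgy⟩ = py := huniq ⟨gy, hgy⟩ py ay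
  have hker : ρ.ker = ⊥ := by
    rcases hsimp.eq_bot_or_eq_top_of_normal ρ.ker (MonoidHom.normal_ker ρ) with h | h
    · exact h
    · exfalso
      have hm : (⟨gx, hgx⟩ : ↥McLstd) ∈ ρ.ker := by rw [h]; trivial
      rw [MonoidHom.mem_ker, ex] at hm
      exact px_ne_one hm
  have hinj : Function.Injective ρ := (MonoidHom.ker_eq_bot_iff ρ).mp hker
  have hrange : Nat.card ↥ρ.range = 898128000 := by
    rw [← hcard]
    exact (Nat.card_congr (MonoidHom.ofInjective hinj).toEquiv).symm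
  have hle : K ≤ ρ.range := by
    show Subgroup.closure {px, py} ≤ ρ.range
    rw [Subgroup.closure_le]
    rintro g (rfl | rfl)
    · exact ⟨_, ex⟩
    · exact ⟨_, ey⟩
  have hKeq : K = ρ.range := by
    apply Subgroup.eq_of_le_of_card_ge hle
    rw [hrange]
    exact hLB
  refine ⟨⟨?_⟩, by rw [hKeq]; exact hrange⟩
  exact e0.trans ((MonoidHom.ofInjective hinj).trans (MulEquiv.subgroupCongr hKeq.symm))

end Cfsg.Agent.H6.McL
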