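import Cfsg.Agent.H6.McLData

/-!
# Kernel-evaluated certificate checks for the outer automorphism group of the McLaughlin group
(helper6)
-/

set_option autoImplicit false

namespace Cfsg.Agent.H6.McL

open Cfsg Cfsg.Agent.H9 Cfsg.Agent.H93 Cfsg.Agent.H33

/-! ### The straight-line program -/

/-- the code of node `k` -/
def nC (k : ℕ) : ℕ := ent tN 4432 k
/-- its left factor -/
def nA (k : ℕ) : ℕ := fq (ent tN 4432 k) 4400 65535
/-- its right factor -/
def nB (k : ℕ) : ℕ := fq (ent tN 4432 k) 4416 65535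

/-- node `k` is the product of two earlier nodes -/
def chkN (k : ℕ) : Bool :=
  Nat.blt k 2 || (Nat.blt (nA k) k && (Nat.blt (nB k) k &&
    allB (fun p => Nat.beq (f16 (nC k) p) (f16 (nC (nA k)) (f16 (nC (nB k)) p))) 275))

/-! ### Transversals -/

/-- entry `t` of a transversal -/
def trE (l : List (ℕ × ℕ)) (t : ℕ) : ℕ × ℕ := l.getD t (0, 0)

/-- entry `t` of the transversal of level `lv` with `n` entries is valid -/
def chkT (l : List (ℕ × ℕ)) (n lv : ℕ) (t : ℕ) : Bool :=
  Nat.blt (trE l t).2 671 && (Nat.blt (trE l t).1 275 &&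
  (allB (fun p => Nat.beq (f16 (nC (trE l t).2) p) p) lv &&
  (Nat.beq (f16 (nC (trE l t).2) lv) (trE l t).1 &&
  (Nat.beq (t + 1) n || Nat.blt (trE l t).1 (trE l (t + 1)).1))))

/-! ### The refutations -/

/-- the image of `p` under the word `x ^ a₁ t x ^ a₂ t …` (`X` gives the codes of the powers) -/
def wordP (X : ℕ → ℕ) (t : ℕ) (l : List ℕ) (p : ℕ) : ℕ :=
  l.foldr (fun a q => f16 (X a) (f16 t q)) p

/-- the image of `p` under the `n`-th power of the word -/
def iterP (X : ℕ → ℕ) (t : ℕ) (l : List ℕ) : ℕ → ℕ → ℕ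
  | 0, p => p
  | n + 1, p => iterP X t l n (wordP X t l p)

/-- the words of the refutations -/
def WL (k : ℕ) : List ℕ := WLl.getD k []

/-- the order of the word `k` in `x`, `y` -/
def wOrd (k : ℕ) : ℕ := wOl.getD k 0

/-- the first refutation of representative `j`: no automorphism fixes `x` and sends `y` to it -/
def chkRef (j : ℕ) : Bool :=
  Nat.beq j jY || (Nat.beq j jY' || (Nat.blt (rK j) 11 && (Nat.blt (rP j) 275 &&
    !(Nat.beq (iterP XP (rE j) (WL (rK j)) (wOrd (rK j)) (rP j)) (rP j)))))

/-- the second refutation of representative `j`: no automorphism inverts `x` and sends `y` to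
it -/
def chkRef' (j : ℕ) : Bool :=
  Nat.blt (rK' j) 11 && (Nat.blt (rP' j) 275 &&
    !(Nat.beq (iterP XPi (rE j) (WL (rK' j)) (wOrd (rK' j)) (rP' j)) (rP' j)))

/-! ### The Sylow 2-subgroup -/

/-- entry `m` of the Sylow table -/
def pE (m : ℕ) : ℕ := ent tP 4520 m
/-- its depth -/
def pDep (m : ℕ) : ℕ := fq (pE m) 4400 255
/-- its parent -/
def pPar (m : ℕ) : ℕ := fq (pE m) 4408 65535
/-- the generator leading to it from its parent -/
def pGen (m : ℕ) : ℕ := fq (pE m) 4424 255
/-- the index of its product with generator `s` on the left -/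
def pNx (s m : ℕ) : ℕ := fq (pE m) (Nat.add 4432 (Nat.mul 16 s)) 65535
/-- the shift, if it is an involution -/
def pCi (m : ℕ) : ℕ := fq (pE m) 4496 255
/-- the representative, if it is an involution -/
def pCj (m : ℕ) : ℕ := fq (pE m) 4504 65535
/-- the code of generator `s` of the Sylow subgroup -/
def cS (s : ℕ) : ℕ := nC (sNl.getD s 0)
/-- the low 4400 bits -/
def normQ (c : ℕ) : ℕ := Nat.mod c (Nat.pow 2 4400)

/-- the check for element `m` of the Sylow table -/
def chkP (m : ℕ) : Bool :=
  allB (fun s => Nat.blt (pNx s m) 128 &&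
    allB (fun p => Nat.beq (f16 (cS s) (f16 (pE m) p)) (f16 (pE (pNx s m)) p)) 275) 4 &&
  ((Nat.beq (m + 1) 128 || Nat.blt (normQ (pE m)) (normQ (pE (m + 1)))) &&
  ((Nat.beq m pOne || (Nat.blt (pPar m) 128 && (Nat.blt (pDep (pPar m)) (pDep m) &&
    (Nat.blt (pGen m) 4 && Nat.beq (pNx (pGen m) (pPar m)) m)))) &&
  (!(allB (fun p => Nat.beq (f16 (pE m) (f16 (pE m) p)) p) 275) || (Nat.beq m pOne ||
    (Nat.blt (pCi m) 11 && (Nat.blt (pCj m) 2025 &&
      allB (fun p => Nat.beq (f16 (pE m) p) (conjF (pCi m) (pCj m) p)) 275))))))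

/-! ### The centraliser and the outer automorphism -/

/-- the node fixing 0 and moving `q` -/
def cN (q : ℕ) : ℕ := cNl.getD q 0

/-- the certificate for the point `q` -/
def chkC (q : ℕ) : Bool :=
  Nat.beq q 0 || (Nat.blt (cN q) 671 && (Nat.beq (f16 (nC (cN q)) 0) 0 &&
    !(Nat.beq (f16 (nC (cN q)) q) q)))

/-! ### The checks -/

theorem chkN_all : allB chkN 671 = true := by decide +kernel
theorem nC_0 : allB (fun p => Nat.beq (f16 (nC 0) p) (f16 cX p)) 275 = true := by decide +kernel
theorem nC_1 : allB (fun p => Nat.beq (f16 (nC 1) p) (f16 cY p)) 275 = true := by decide +kernel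

theorem chkT_0 : allB (chkT tr0 275 0) 275 = true := by decide +kernel
theorem chkT_1 : allB (chkT tr1 162 1) 162 = true := by decide +kernel
theorem chkT_2 : allB (chkT tr2 105 2) 105 = true := by decide +kernel
theorem chkT_3 : allB (chkT tr3 4 3) 4 = true := by decide +kernel
theorem chkT_4 : allB (chkT tr4 48 4) 48 = true := by decide +kernel

theorem XP_zero : allB (fun p => Nat.beq (f16 (XP 0) p) p) 275 = true := by decide +kernel
theorem XP_succ : allB (fun i => allB (fun p =>
    Nat.beq (f16 (XP (i + 1)) p) (f16 cX (f16 (XP i) p))) 275) 10 = true := by decide +kernel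
theorem XP_last : allB (fun p => Nat.beq (f16 cX (f16 (XP 10) p)) p) 275 = true := by decide +kernel
theorem XP_inv : allB (fun i => invOK (XP i) (XPi i)) 11 = true := by decide +kernel
theorem cX_ne : Nat.beq (f16 cX 0) 0 = false := by decide +kernel
theorem cY_ne : allB (fun p => Nat.beq (f16 cY p) p) 275 = false := by decide +kernel
theorem cR_y : allB (fun p => Nat.beq (f16 (rE jY) p) (f16 cY p)) 275 = true := by decide +kernel
theorem pE_one : allB (fun p => Nat.beq (f16 (pE pOne) p) p) 275 = true := by decide +kernel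
theorem sNl_lt : allB (fun s => Nat.blt (sNl.getD s 0) 671) 4 = true := by decide +kernel
theorem nN_rel : allB (fun p => Nat.beq (f16 (nC nN) (f16 cX p)) (f16 (XP 3) (f16 (nC nN) p))) 275 =
    true := by decide +kernel
theorem cG0_ok : invOK cG0 cG0i = true := by decide +kernel
theorem cG0_x : allB (fun p => Nat.beq (f16 cG0 (f16 cX p)) (f16 cX (f16 cG0 p))) 275 = true := by
  decide +kernel
theorem cG0_y : allB (fun p => Nat.beq (f16 cG0 (f16 cY p)) (f16 (rE jY') (f16 cG0 p))) 275 =
    true := by decide +kernel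
theorem nU_ok : (Nat.blt nU 671 && (allB (fun b => Nat.beq (f16 (nC nU) b) (f16 cG0 b)) 3 &&
    (Nat.beq (f16 (nC nU) q3) (f16 cG0 3) && (Nat.blt q3 275 &&
      allB (fun t => !(Nat.beq (trE tr3 t).1 q3)) 4)))) = true := by decide +kernel
theorem nY'_ok : (Nat.blt nY' 671 &&
    allB (fun p => Nat.beq (f16 (nC nY') p) (f16 (rE jY') p)) 275) = true := by decide +kernel
theorem chkC_all : allB chkC 275 = true := by decide +kernel
theorem wOrd_ok : allB (fun k => allB (fun p => Nat.beq (iterP XP cY (WL k) (wOrd k) p) p) 275) 11 =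
    true := by decide +kernel
theorem WL_ok : allB (fun k => (WL k).all (fun a => Nat.blt a 11)) 11 = true := by decide +kernel
theorem jY_lt : (Nat.blt jY 2025 && Nat.blt jY' 2025 && !(Nat.beq jY jY')) = true := by
  decide +kernel

theorem chkP_all : allB chkP 128 = true := by decide +kernel

theorem chkRef_all : allB chkRef 2025 = true := by decide +kernel

theorem chkRef'_all : allB chkRef' 2025 = true := by decide +kernel

end Cfsg.Agent.H6.McL
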