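import Cfsg.Agent.H6.McLDataR

/-!
# Definitions for the certificate checks of the McLaughlin group: the closure of the set of
involutions under conjugation (helper6)
-/

set_option autoImplicit false

namespace Cfsg.Agent.H6.McL

open Cfsg Cfsg.Agent.H9 Cfsg.Agent.H93 Cfsg.Agent.H33

/-- a bit field -/
def fq (x off mask : ℕ) : ℕ := Nat.land (Nat.shiftRight x off) mask

/-- entry `j` of a table with `W`-bit entries, 16 to a leaf -/
def ent (t : List ℕ) (W j : ℕ) : ℕ :=
  Nat.land (Nat.shiftRight (t.getD (Nat.shiftRight j 4) 0) (Nat.mul W (Nat.land j 15)))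
    (Nat.sub (Nat.pow 2 W) 1)

/-- the code of `x ^ i` -/
def XP (i : ℕ) : ℕ := XPl.getD i 0
/-- the code of the inverse of `x ^ i` -/
def XPi (i : ℕ) : ℕ := XPil.getD i 0

/-! ### The involutions -/

/-- entry `j` of the table of representatives -/
def rE (j : ℕ) : ℕ := ent tR 4624 j
/-- the word of its first refutation -/
def rK (j : ℕ) : ℕ := fq (rE j) 4400 255
/-- the point of its first refutation -/
def rP (j : ℕ) : ℕ := fq (rE j) 4408 65535
/-- the word of its second refutation -/
def rK' (j : ℕ) : ℕ := fq (rE j) 4424 255
/-- the point of its second refutation -/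
def rP' (j : ℕ) : ℕ := fq (rE j) 4432 65535
/-- the shift of the conjugate by `y` of the `i`-th shift of representative `j` -/
def rCi (i j : ℕ) : ℕ := fq (rE j) (Nat.add 4448 (Nat.mul 16 i)) 15
/-- the representative of the conjugate by `y` of the `i`-th shift of representative `j` -/
def rCj (i j : ℕ) : ℕ := fq (rE j) (Nat.add 4452 (Nat.mul 16 i)) 4095

/-- the `i`-th shift of representative `j`, at the point `p` -/
def conjF (i j p : ℕ) : ℕ := f16 (XP i) (f16 (rE j) (f16 (XPi i) p))

/-- closure of the set of shifts under conjugation by `y` -/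
def chkS1 (j i : ℕ) : Bool :=
  Nat.blt (rCi i j) 11 && (Nat.blt (rCj i j) 2025 &&
    allB (fun p => Nat.beq (f16 cY (conjF i j (f16 cY p))) (conjF (rCi i j) (rCj i j) p)) 275)

/-- closure under conjugation by `y`, for all shifts of representative `j`; the representative is
an involution -/
def chkS (j : ℕ) : Bool := allB (chkS1 j) 11 && invOK (rE j) (rE j)

end Cfsg.Agent.H6.McL
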