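import Cfsg.Agent.H6.McLChkS1
import Cfsg.Agent.H6.McLChkS2
import Cfsg.Agent.H6.McLChkS3
import Cfsg.Agent.H6.McLChkS4

/-!
Kernel-evaluated checks for the McLaughlin group: closure of the set of involutions under
conjugation (helper6).
-/

set_option autoImplicit false

namespace Cfsg.Agent.H6.McL

open Cfsg Cfsg.Agent.H9 Cfsg.Agent.H93 Cfsg.Agent.H33

theorem chkS_of (lo n : ℕ) (h : allB (fun j => chkS (Nat.add lo j)) n = true) (j : ℕ)
    (h1 : lo ≤ j) (h2 : j < lo + n) : chkS j = true := by
  have h3 := (allB_iff _ _).mp h (j - lo) (by omega)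
  have e : Nat.add lo (j - lo) = j := by
    show lo + (j - lo) = j
    omega
  rw [e] at h3
  exact h3

theorem chkS_all : ∀ j, j < 2025 → chkS j = true := by
  intro j hj
  by_cases h0 : j < 100
  · exact chkS_of 0 100 chkS_0 j (by omega) (by omega)
  by_cases h1 : j < 200
  · exact chkS_of 100 100 chkS_1 j (by omega) (by omega)
  by_cases h2 : j < 300
  · exact chkS_of 200 100 chkS_2 j (by omega) (by omega)
  by_cases h3 : j < 400
  · exact chkS_of 300 100 chkS_3 j (by omega) (by omega)
  by_cases h4 : j < 500
  · exact chkS_of 400 100 chkS_4 j (by omega) (by omega)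
  by_cases h5 : j < 600
  · exact chkS_of 500 100 chkS_5 j (by omega) (by omega)
  by_cases h6 : j < 700
  · exact chkS_of 600 100 chkS_6 j (by omega) (by omega)
  by_cases h7 : j < 800
  · exact chkS_of 700 100 chkS_7 j (by omega) (by omega)
  by_cases h8 : j < 900
  · exact chkS_of 800 100 chkS_8 j (by omega) (by omega)
  by_cases h9 : j < 1000
  · exact chkS_of 900 100 chkS_9 j (by omega) (by omega)
  by_cases h10 : j < 1100
  · exact chkS_of 1000 100 chkS_10 j (by omega) (by omega)
  by_cases h11 : j < 1200
  · exact chkS_of 1100 100 chkS_11 j (by omega) (by omega)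
  by_cases h12 : j < 1300
  · exact chkS_of 1200 100 chkS_12 j (by omega) (by omega)
  by_cases h13 : j < 1400
  · exact chkS_of 1300 100 chkS_13 j (by omega) (by omega)
  by_cases h14 : j < 1500
  · exact chkS_of 1400 100 chkS_14 j (by omega) (by omega)
  by_cases h15 : j < 1600
  · exact chkS_of 1500 100 chkS_15 j (by omega) (by omega)
  by_cases h16 : j < 1700
  · exact chkS_of 1600 100 chkS_16 j (by omega) (by omega)
  by_cases h17 : j < 1800
  · exact chkS_of 1700 100 chkS_17 j (by omega) (by omega)
  by_cases h18 : j < 1900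
  · exact chkS_of 1800 100 chkS_18 j (by omega) (by omega)
  by_cases h19 : j < 2000
  · exact chkS_of 1900 100 chkS_19 j (by omega) (by omega)
  exact chkS_of 2000 25 chkS_20 j (by omega) (by omega)

end Cfsg.Agent.H6.McL
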