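import Cfsg.Agent.H6.McLChkR

/-!
Kernel-evaluated checks for the McLaughlin group: closure of the set of involutions under
conjugation, part 1 (helper6).
-/

set_option autoImplicit false

namespace Cfsg.Agent.H6.McL

open Cfsg Cfsg.Agent.H9 Cfsg.Agent.H93 Cfsg.Agent.H33

theorem chkS_0 : allB (fun j => chkS (Nat.add 0 j)) 100 = true := by decide +kernel
theorem chkS_1 : allB (fun j => chkS (Nat.add 100 j)) 100 = true := by decide +kernel
theorem chkS_2 : allB (fun j => chkS (Nat.add 200 j)) 100 = true := by decide +kernel
theorem chkS_3 : allB (fun j => chkS (Nat.add 300 j)) 100 = true := by decide +kernel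
theorem chkS_4 : allB (fun j => chkS (Nat.add 400 j)) 100 = true := by decide +kernel
theorem chkS_5 : allB (fun j => chkS (Nat.add 500 j)) 100 = true := by decide +kernel

end Cfsg.Agent.H6.McL
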