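import Cfsg.Agent.H6.McLOut2
import Cfsg.Agent.H6.McLAsm
import Cfsg.Agent.H33.MclIso
import Cfsg.Agent.H33.MclRho
import Cfsg.Agent.H33.MclWord
import Cfsg.Agent.H69.MclCent
import Cfsg.Agent.H69.MclOrbStab
import Cfsg.Agent.H69.MclOutCong
import Cfsg.Agent.H69.MclOut2

/-!
# The outer automorphism group of the McLaughlin group has order 2 (helper6)

Assembly: the lattice pieces of helper33 (`H33.MclP`), the generic pieces of helper69 (`H69.Mcl`)
and the permutation group computation on the 275 table vectors.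
-/

set_option autoImplicit false

namespace Cfsg.Agent.H6.McL

open Cfsg Cfsg.Agent.H9 Cfsg.Agent.H93 Cfsg.Agent.H33

theorem orbStab : OrbStab := fun H b O h => Cfsg.Agent.H69.Mcl.orbit_stab_le H b O h

theorem K_iso : Nonempty (↥Cfsg.Spor.McL ≃* ↥K) ∧ Nat.card ↥K = 898128000 :=
  mcl_perm_iso Cfsg.Agent.H33.MclP.iso Cfsg.Agent.H33.MclP.simple Cfsg.Agent.H33.MclP.rho
    Cfsg.Agent.H33.MclP.word (card_lb orbStab)

theorem centTriv : CentTriv := fun c hc =>
  Cfsg.Agent.H69.Mcl.cent_trivial K ⟨0, by norm_num⟩ cent_hyp.1 cent_hyp.2 c hc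

theorem out_K : Nat.card (MulAut ↥K ⧸ (MulAut.conj : ↥K →* MulAut ↥K).range) = 2 := by
  have hcard := K_iso.2
  have : Fact (Nat.Prime 11) := ⟨by norm_num⟩
  refine Cfsg.Agent.H69.Mcl.card_out_eq_two' xh yh nh tauE 11 3 gen_J xh_order
    (by rw [hcard]; norm_num) n_rel hk11 tau_x (tau_outer orbStab centTriv hcard)
    (fun α hα => ?_) (no_inv hcard)
  rcases fix_x hcard α hα with ⟨i, e⟩ | ⟨i, e⟩
  · left
    exact ⟨i, Subtype.ext e⟩
  · right
    refine ⟨i, Subtype.ext ?_⟩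
    rw [e]
    show _ = px ^ i * (tauE yh : ↥K).1 * (px ^ i)⁻¹
    rw [tau_y]

theorem out_mcl : Nat.card (Cfsg.Out ↥Cfsg.Spor.McL) = 2 := by
  obtain ⟨e⟩ := K_iso.1
  exact (Cfsg.Agent.H69.Mcl.card_out_congr e).trans out_K

end Cfsg.Agent.H6.McL
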