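import Cfsg.Agent.H6.McLChk
import Cfsg.Agent.H6.McLChkS
import Cfsg.Agent.H10.Level
import Cfsg.Agent.H27.J3Invol
import Cfsg.Prelude.Def_KGroupFacts

/-!
# The outer automorphism group of the McLaughlin group, in the permutation group on 275 points
(helper6)

`K = ⟨px, py⟩`. An automorphism fixing `px` (order 11) sends the involution `py` to an involution;
all involutions of `K` are the shifts by powers of `px` of 2025 representatives (Sylow plus a
closure certificate), and all representatives but `py` and one other are refuted by the orders of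
words; no automorphism inverts `px`. The outer automorphism is conjugation by a permutation of the
275 points which does not lie in `K`.
-/

set_option autoImplicit false

namespace Cfsg.Agent.H6.McL

open Cfsg Cfsg.Agent.H9 Cfsg.Agent.H93 Cfsg.Agent.H33

/-! ### Codes -/

theorem lt_of_succ_lt' (f : ℕ → ℕ) (n : ℕ) (hs : ∀ e, e + 1 < n → f e < f (e + 1)) :
    ∀ i j, i < j → j < n → f i < f j := by
  intro i j hij
  induction j with
  | zero => omega
  | succ j ih =>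
    intro hj
    rcases Nat.lt_succ_iff_lt_or_eq.mp hij with h1 | h1
    · exact (ih h1 (by omega)).trans (hs j hj)
    · subst h1; exact hs i hj

theorem inj_succ (f : ℕ → ℕ) (n : ℕ) (hs : ∀ e, e + 1 < n → f e < f (e + 1)) :
    ∀ i j, i < n → j < n → f i = f j → i = j := by
  intro i j hi hj e
  rcases Nat.lt_trichotomy i j with h | h | h
  · exact absurd e (lt_of_succ_lt' f n hs i j h hj).ne
  · exact h
  · exact absurd e.symm (lt_of_succ_lt' f n hs j i h hi).ne

theorem allB_beq (f g : ℕ → ℕ) (n : ℕ) :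
    allB (fun p => Nat.beq (f p) (g p)) n = true ↔ ∀ p < n, f p = g p := by
  rw [allB_iff]
  constructor
  · intro h j hj
    exact Nat.eq_of_beq_eq_true (h j hj)
  · intro h j hj
    rw [h j hj]
    exact Nat.beq_refl _

theorem PRep.unique {g h : Equiv.Perm (Fin 275)} {a : ℕ} (hg : PRep g a) (hh : PRep h a) :
    g = h :=
  Equiv.ext fun j => Fin.ext (by rw [hg j, hh j])

theorem PRep.congr {g : Equiv.Perm (Fin 275)} {a b : ℕ} (hg : PRep g a)
    (e : ∀ p < 275, f16 b p = f16 a p) : PRep g b := fun j => by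
  rw [hg j]
  exact (e j.val j.isLt).symm

theorem PRep.eq_one {g : Equiv.Perm (Fin 275)} {a : ℕ} (hg : PRep g a)
    (e : ∀ p < 275, f16 a p = p) : g = 1 :=
  Equiv.ext fun j => Fin.ext (by rw [hg j, e j.val j.isLt]; rfl)

theorem PRep.inv {g : Equiv.Perm (Fin 275)} {a b : ℕ} (hg : PRep g a) (h : invOK a b = true) :
    PRep g⁻¹ b := by
  have e : g = permOf a b h := hg.unique (prep_permOf a b h)
  rw [e]
  intro j
  rfl

theorem f16_testBit (P i b : ℕ) (hb : b < 16) : (f16 P i).testBit b = P.testBit (16 * i + b) := by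
  show ((P >>> (16 * i)) &&& 65535).testBit b = _
  rw [Nat.testBit_and, Nat.testBit_shiftRight, show (65535 : ℕ) = 2 ^ 16 - 1 by norm_num,
    Nat.testBit_two_pow_sub_one]
  simp [hb]

theorem normQ_eq {a b : ℕ} (h : ∀ j < 275, f16 a j = f16 b j) : normQ a = normQ b := by
  show a % 2 ^ 4400 = b % 2 ^ 4400
  apply Nat.eq_of_testBit_eq
  intro i
  rw [Nat.testBit_mod_two_pow, Nat.testBit_mod_two_pow]
  by_cases hi : i < 4400
  · have ha := f16_testBit a (i / 16) (i % 16) (Nat.mod_lt _ (by norm_num))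
    have hb := f16_testBit b (i / 16) (i % 16) (Nat.mod_lt _ (by norm_num))
    have e : 16 * (i / 16) + i % 16 = i := by omega
    rw [e] at ha hb
    rw [← ha, ← hb, h (i / 16) (by omega)]
  · simp [hi]

/-! ### The generators -/

theorem prep_px : PRep px cX := prep_permOf _ _ _
theorem prep_py : PRep py cY := prep_permOf _ _ _
theorem px_mem : px ∈ K := Subgroup.subset_closure (Set.mem_insert _ _)
theorem py_mem : py ∈ K :=
  Subgroup.subset_closure (Set.mem_insert_of_mem _ (Set.mem_singleton _))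

theorem prep_XP_le : ∀ i, i ≤ 10 → PRep (px ^ i) (XP i) := by
  intro i
  induction i with
  | zero =>
    intro _ p
    rw [pow_zero, (allB_beq _ _ _).mp XP_zero p.val p.isLt]
    rfl
  | succ i ih =>
    intro hi p
    rw [pow_succ', Equiv.Perm.mul_apply, prep_px, ih (by omega)]
    exact ((allB_beq _ _ _).mp ((allB_iff _ _).mp XP_succ i (by omega)) p.val p.isLt).symm

theorem px_pow : px ^ 11 = 1 := by
  apply Equiv.ext
  intro p
  apply Fin.ext
  rw [pow_succ', Equiv.Perm.mul_apply, prep_px, prep_XP_le 10 (le_refl _)]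
  exact (allB_beq _ _ _).mp XP_last p.val p.isLt

theorem px_ne : px ≠ 1 := fun e => by
  have h := prep_px ⟨0, by norm_num⟩
  rw [e] at h
  have h2 : Nat.beq (f16 cX 0) 0 = true := by
    rw [Nat.beq_eq]
    exact h.symm
  rw [cX_ne] at h2
  exact Bool.false_ne_true h2

theorem py_ne : py ≠ 1 := fun e => by
  have h2 : allB (fun p => Nat.beq (f16 cY p) p) 275 = true := by
    rw [allB_beq]
    intro p hp
    have h := prep_py ⟨p, hp⟩
    rw [e] at h
    exact h.symm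
  rw [cY_ne] at h2
  exact Bool.false_ne_true h2

theorem py_inv : py⁻¹ = py := (prep_py.inv cY_ok).unique prep_py

theorem prep_pxi : PRep px⁻¹ cXi := prep_px.inv cX_ok

theorem prep_XP (a : ℕ) : PRep (px ^ a) (XP (a % 11)) := by
  have h1 : px ^ a = px ^ (a % 11) := pow_eq_pow_mod a px_pow
  rw [h1]
  exact prep_XP_le _ (by have := Nat.mod_lt a (show 0 < 11 by norm_num); omega)

theorem prep_XPi (a : ℕ) : PRep (px ^ a)⁻¹ (XPi (a % 11)) :=
  (prep_XP a).inv ((allB_iff _ _).mp XP_inv _ (Nat.mod_lt _ (by norm_num)))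

/-! ### The straight-line program and the transversals -/

theorem node_sound : ∀ k, k < 671 → ∃ g ∈ K, PRep g (nC k) := by
  intro k
  induction k using Nat.strong_induction_on with
  | _ k ih =>
    intro hk
    have hc := (allB_iff _ _).mp chkN_all k hk
    simp only [chkN, Bool.or_eq_true, Bool.and_eq_true, Nat.blt_eq] at hc
    rcases hc with hc | ⟨ha, hb, he⟩
    · interval_cases k
      · exact ⟨px, px_mem, prep_px.congr ((allB_beq _ _ _).mp nC_0)⟩
      · exact ⟨py, py_mem, prep_py.congr ((allB_beq _ _ _).mp nC_1)⟩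
    · obtain ⟨ga, hga, ra⟩ := ih _ ha (by omega)
      obtain ⟨gb, hgb, rb⟩ := ih _ hb (by omega)
      refine ⟨ga * gb, K.mul_mem hga hgb, fun p => ?_⟩
      rw [Equiv.Perm.mul_apply, ra, rb]
      exact ((allB_beq _ _ _).mp he p.val p.isLt).symm

theorem tr_sound (l : List (ℕ × ℕ)) (n lv : ℕ) (hlv : lv < 275)
    (h : allB (chkT l n lv) n = true) :
    ∃ O : Finset (Fin 275), O.card = n ∧ ∀ q ∈ O, (∃ t < n, q.val = (trE l t).1) ∧ ∃ g ∈ K,
      (∀ p : Fin 275, p.val < lv → g p = p) ∧ g ⟨lv, hlv⟩ = q := by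
  classical
  have hc : ∀ t < n, (trE l t).2 < 671 ∧ (trE l t).1 < 275 ∧
      (∀ p < lv, f16 (nC (trE l t).2) p = p) ∧ f16 (nC (trE l t).2) lv = (trE l t).1 ∧
      (t + 1 < n → (trE l t).1 < (trE l (t + 1)).1) := by
    intro t ht
    have h0 := (allB_iff _ _).mp h t ht
    simp only [chkT, Bool.and_eq_true, Bool.or_eq_true, Nat.blt_eq, Nat.beq_eq] at h0
    obtain ⟨h1, h2, h3, h4, h5⟩ := h0
    refine ⟨h1, h2, (allB_beq _ _ _).mp h3, h4, fun hlt => ?_⟩
    rcases h5 with h5 | h5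
    · omega
    · exact h5
  let f : Fin n → Fin 275 := fun t => ⟨(trE l t).1 % 275, Nat.mod_lt _ (by norm_num)⟩
  have hf : Function.Injective f := by
    intro t t' e
    have e1 : (trE l t).1 % 275 = (trE l t').1 % 275 := congrArg Fin.val e
    rw [Nat.mod_eq_of_lt (hc t t.2).2.1, Nat.mod_eq_of_lt (hc t' t'.2).2.1] at e1
    exact Fin.ext (inj_succ (fun t => (trE l t).1) n
      (fun e he => (hc e (by omega)).2.2.2.2 he) t t' t.2 t'.2 e1)
  refine ⟨Finset.univ.image f, ?_, ?_⟩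
  · rw [Finset.card_image_of_injective _ hf, Finset.card_univ, Fintype.card_fin]
  · intro q hq
    rw [Finset.mem_image] at hq
    obtain ⟨t, -, rfl⟩ := hq
    obtain ⟨h1, h2, h3, h4, -⟩ := hc t t.2
    obtain ⟨g, hg, rg⟩ := node_sound _ h1
    refine ⟨⟨t.val, t.2, Nat.mod_eq_of_lt h2⟩, g, hg, fun p hp => ?_, ?_⟩
    · exact Fin.ext ((rg p).trans (h3 p.val hp))
    · apply Fin.ext
      show (g ⟨lv, hlv⟩).val = (trE l t).1 % 275
      rw [Nat.mod_eq_of_lt h2, ← h4]
      exact rg ⟨lv, hlv⟩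

/-! ### The stabiliser chain -/

/-- the point `l` -/
def bpt (l : ℕ) : Fin 275 := ⟨l % 275, Nat.mod_lt _ (by norm_num)⟩

/-- the stabiliser in `K` of the points below `l` -/
def Hs : ℕ → Subgroup (Equiv.Perm (Fin 275))
  | 0 => K
  | l + 1 => Hs l ⊓ MulAction.stabilizer (Equiv.Perm (Fin 275)) (bpt l)

theorem mem_Hs : ∀ l, l ≤ 275 → ∀ g : Equiv.Perm (Fin 275),
    g ∈ Hs l ↔ g ∈ K ∧ ∀ p : Fin 275, p.val < l → g p = p := by
  intro l
  induction l with
  | zero =>
    intro _ g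
    show g ∈ K ↔ _
    constructor
    · intro h
      exact ⟨h, fun p hp => absurd hp (Nat.not_lt_zero _)⟩
    · exact fun h => h.1
  | succ l ih =>
    intro hl g
    show g ∈ Hs l ⊓ MulAction.stabilizer (Equiv.Perm (Fin 275)) (bpt l) ↔ _
    rw [Subgroup.mem_inf, ih (by omega), MulAction.mem_stabilizer_iff, Equiv.Perm.smul_def]
    constructor
    · rintro ⟨⟨h1, h2⟩, h3⟩
      refine ⟨h1, fun p hp => ?_⟩
      rcases Nat.lt_succ_iff_lt_or_eq.mp hp with h | h
      · exact h2 p h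
      · have : p = bpt l := Fin.ext (by rw [h]; exact (Nat.mod_eq_of_lt (by omega)).symm)
        rw [this]
        exact h3
    · rintro ⟨h1, h2⟩
      refine ⟨⟨h1, fun p hp => h2 p (by omega)⟩, ?_⟩
      exact h2 (bpt l) (by show l % 275 < l + 1; rw [Nat.mod_eq_of_lt (by omega)]; omega)

/-- the orbit–stabiliser inequality, as a hypothesis -/
def OrbStab : Prop := ∀ (H : Subgroup (Equiv.Perm (Fin 275))) (b : Fin 275) (O : Finset (Fin 275)),
  (∀ q ∈ O, ∃ g ∈ H, g b = q) →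
    O.card * Nat.card ↥(H ⊓ MulAction.stabilizer (Equiv.Perm (Fin 275)) b) ≤ Nat.card ↥H

theorem bpt_eq (l : ℕ) (hl : l < 275) : bpt l = ⟨l, hl⟩ := Fin.ext (Nat.mod_eq_of_lt hl)

theorem level_le (hOS : OrbStab) (l : List (ℕ × ℕ)) (n lv : ℕ) (hlv : lv < 275)
    (h : allB (chkT l n lv) n = true) : n * Nat.card ↥(Hs (lv + 1)) ≤ Nat.card ↥(Hs lv) := by
  obtain ⟨O, hO, hq⟩ := tr_sound l n lv hlv h
  have := hOS (Hs lv) (bpt lv) O (fun q hq' => by
    obtain ⟨-, g, hg, h1, h2⟩ := hq q hq'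
    refine ⟨g, (mem_Hs lv (by omega) g).mpr ⟨hg, h1⟩, ?_⟩
    rw [bpt_eq lv hlv]
    exact h2)
  rw [hO] at this
  exact this

theorem card_lb (hOS : OrbStab) : 898128000 ≤ Nat.card ↥K := by
  have h0 : 275 * Nat.card ↥(Hs 1) ≤ Nat.card ↥(Hs 0) :=
    level_le hOS tr0 275 0 (by norm_num) chkT_0
  have h1 : 162 * Nat.card ↥(Hs 2) ≤ Nat.card ↥(Hs 1) :=
    level_le hOS tr1 162 1 (by norm_num) chkT_1
  have h2 : 105 * Nat.card ↥(Hs 3) ≤ Nat.card ↥(Hs 2) :=
    level_le hOS tr2 105 2 (by norm_num) chkT_2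
  have h3 : 4 * Nat.card ↥(Hs 4) ≤ Nat.card ↥(Hs 3) :=
    level_le hOS tr3 4 3 (by norm_num) chkT_3
  have h4 : 48 * Nat.card ↥(Hs 5) ≤ Nat.card ↥(Hs 4) :=
    level_le hOS tr4 48 4 (by norm_num) chkT_4
  have h5 : 0 < Nat.card ↥(Hs 5) := Nat.card_pos
  have e : Nat.card ↥(Hs 0) = Nat.card ↥K := rfl
  omega

/-- no element of `K` fixes 0, 1, 2 and sends 3 to `q3` -/
theorem no_q3 (hOS : OrbStab) (hcard : Nat.card ↥K = 898128000) (g : Equiv.Perm (Fin 275))
    (hg : g ∈ K) (h0 : ∀ p : Fin 275, p.val < 3 → g p = p)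
    (h3 : (g ⟨3, by norm_num⟩).val = q3) : False := by
  classical
  have l0 : 275 * Nat.card ↥(Hs 1) ≤ Nat.card ↥(Hs 0) :=
    level_le hOS tr0 275 0 (by norm_num) chkT_0
  have l1 : 162 * Nat.card ↥(Hs 2) ≤ Nat.card ↥(Hs 1) :=
    level_le hOS tr1 162 1 (by norm_num) chkT_1
  have l2 : 105 * Nat.card ↥(Hs 3) ≤ Nat.card ↥(Hs 2) :=
    level_le hOS tr2 105 2 (by norm_num) chkT_2
  have l4 : 48 * Nat.card ↥(Hs 5) ≤ Nat.card ↥(Hs 4) :=
    level_le hOS tr4 48 4 (by norm_num) chkT_4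
  have l5 : 0 < Nat.card ↥(Hs 5) := Nat.card_pos
  have e : Nat.card ↥(Hs 0) = Nat.card ↥K := rfl
  obtain ⟨O, hO, hq⟩ := tr_sound tr3 4 3 (by norm_num) chkT_3
  have hn := nU_ok
  simp only [Bool.and_eq_true, Nat.blt_eq, Nat.beq_eq] at hn
  obtain ⟨-, -, -, hq3, hne⟩ := hn
  have hnot : (⟨q3, hq3⟩ : Fin 275) ∉ O := by
    intro hmem
    obtain ⟨⟨t, ht, e1⟩, -⟩ := hq _ hmem
    have := (allB_iff _ _).mp hne t ht
    rw [Bool.not_eq_true', ← e1] at this
    have h2 : Nat.beq q3 q3 = true := Nat.beq_refl _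
    rw [this] at h2
    exact Bool.false_ne_true h2
  have := hOS (Hs 3) (bpt 3) (insert ⟨q3, hq3⟩ O) (fun q hq' => by
    rw [Finset.mem_insert] at hq'
    rcases hq' with rfl | hq'
    · refine ⟨g, (mem_Hs 3 (by norm_num) g).mpr ⟨hg, h0⟩, ?_⟩
      rw [bpt_eq 3 (by norm_num)]
      exact Fin.ext h3
    · obtain ⟨-, g', hg', h1, h2⟩ := hq q hq'
      refine ⟨g', (mem_Hs 3 (by norm_num) g').mpr ⟨hg', h1⟩, ?_⟩
      rw [bpt_eq 3 (by norm_num)]
      exact h2)
  rw [Finset.card_insert_of_notMem hnot, hO] at this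
  have this' : 5 * Nat.card ↥(Hs 4) ≤ Nat.card ↥(Hs 3) := this
  omega

/-! ### The Sylow 2-subgroup -/

theorem chkP_sound (m : ℕ) (hm : m < 128) :
    (∀ s < 4, pNx s m < 128 ∧ ∀ p < 275, f16 (cS s) (f16 (pE m) p) = f16 (pE (pNx s m)) p) ∧
    (m + 1 ≠ 128 → normQ (pE m) < normQ (pE (m + 1))) ∧
    (m ≠ pOne → pPar m < 128 ∧ pDep (pPar m) < pDep m ∧ pGen m < 4 ∧
      pNx (pGen m) (pPar m) = m) ∧
    ((∀ p < 275, f16 (pE m) (f16 (pE m) p) = p) → m ≠ pOne →
      pCi m < 11 ∧ pCj m < 2025 ∧ ∀ p < 275, f16 (pE m) p = conjF (pCi m) (pCj m) p) := by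
  have hc := (allB_iff _ _).mp chkP_all m hm
  simp only [chkP, Bool.and_eq_true, Bool.or_eq_true, Nat.blt_eq, Nat.beq_eq,
    Bool.not_eq_true'] at hc
  obtain ⟨h1, h2, h3, h4⟩ := hc
  refine ⟨fun s hs => ?_, fun hne => ?_, fun hne => ?_, fun e1 e2 => ?_⟩
  · have := (allB_iff _ _).mp h1 s hs
    simp only [Bool.and_eq_true, Nat.blt_eq] at this
    exact ⟨this.1, (allB_beq _ _ _).mp this.2⟩
  · rcases h2 with h2 | h2
    · exact absurd h2 hne
    · exact h2
  · rcases h3 with h3 | h3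
    · exact absurd h3 hne
    · exact h3
  · rcases h4 with h4 | h4 | h4
    · rw [(allB_beq _ _ _).mpr e1] at h4
      exact absurd h4 (by decide)
    · exact absurd h4 e2
    · exact ⟨h4.1, h4.2.1, (allB_beq _ _ _).mp h4.2.2⟩

/-- the generators of the Sylow subgroup -/
def SG : Set (Equiv.Perm (Fin 275)) := {g | ∃ s, s < 4 ∧ PRep g (cS s)}

/-- a Sylow 2-subgroup -/
def P2 : Subgroup (Equiv.Perm (Fin 275)) := Subgroup.closure SG

theorem cS_sound (s : ℕ) (hs : s < 4) : ∃ g ∈ K, PRep g (cS s) := by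
  have := (allB_iff _ _).mp sNl_lt s hs
  rw [Nat.blt_eq] at this
  exact node_sound _ this

theorem P2_le : P2 ≤ K := by
  unfold P2
  rw [Subgroup.closure_le]
  rintro g ⟨s, hs, hg⟩
  obtain ⟨g', hg', r'⟩ := cS_sound s hs
  rw [hg.unique r']
  exact hg'

theorem prep_pOne : PRep 1 (pE pOne) := fun p => by
  rw [(allB_beq _ _ _).mp pE_one p.val p.isLt]
  rfl

theorem P2_rep : ∀ g ∈ P2, ∃ m, m < 128 ∧ PRep g (pE m) := by
  apply Cfsg.Agent.H10.closure_subset_of_mul_closed SG {g | ∃ m, m < 128 ∧ PRep g (pE m)}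
  · exact ⟨pOne, by decide, prep_pOne⟩
  · rintro g ⟨s, hs, hg⟩ x ⟨m, hm, hx⟩
    obtain ⟨h1, h2⟩ := (chkP_sound m hm).1 s hs
    refine ⟨pNx s m, h1, fun p => ?_⟩
    rw [Equiv.Perm.mul_apply, hg, hx]
    exact h2 p.val p.isLt

theorem pE_mem : ∀ d m, m < 128 → pDep m = d → ∃ g ∈ P2, PRep g (pE m) := by
  intro d
  induction d using Nat.strong_induction_on with
  | _ d ih =>
    intro m hm hd
    by_cases h1 : m = pOne
    · exact ⟨1, P2.one_mem, by rw [h1]; exact prep_pOne⟩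
    · obtain ⟨a, b, c, e⟩ := (chkP_sound m hm).2.2.1 h1
      obtain ⟨g, hg, rg⟩ := ih (pDep (pPar m)) (by omega) (pPar m) a rfl
      obtain ⟨s0, -, rs⟩ := cS_sound (pGen m) c
      have hs0 : s0 ∈ P2 := Subgroup.subset_closure ⟨pGen m, c, rs⟩
      obtain ⟨-, h2⟩ := (chkP_sound (pPar m) a).1 (pGen m) c
      rw [e] at h2
      refine ⟨s0 * g, P2.mul_mem hs0 hg, fun p => ?_⟩
      rw [Equiv.Perm.mul_apply, rs, rg]
      exact h2 p.val p.isLt

theorem P2_card : Nat.card P2 = 2 ^ 7 := by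
  have key : ∀ m : Fin 128, ∃ g ∈ P2, PRep g (pE m) := fun m => pE_mem _ m m.2 rfl
  let f : Fin 128 → P2 := fun m =>
    ⟨Classical.choose (key m), (Classical.choose_spec (key m)).1⟩
  have hf : Function.Bijective f := by
    constructor
    · intro m m' e
      have e1 : Classical.choose (key m) = Classical.choose (key m') := congrArg Subtype.val e
      have h1 := (Classical.choose_spec (key m)).2
      rw [e1] at h1
      have h2 := (Classical.choose_spec (key m')).2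
      have h3 : normQ (pE m) = normQ (pE m') :=
        normQ_eq (fun j hj => (h1 ⟨j, hj⟩).symm.trans (h2 ⟨j, hj⟩))
      exact Fin.ext (inj_succ (fun m => normQ (pE m)) 128
        (fun e he => (chkP_sound e (by omega)).2.1 (by omega)) m m' m.2 m'.2 h3)
    · rintro ⟨g, hg⟩
      obtain ⟨m, hm, r⟩ := P2_rep g hg
      exact ⟨⟨m, hm⟩, Subtype.ext ((Classical.choose_spec (key ⟨m, hm⟩)).2.unique r)⟩
  rw [← Nat.card_congr (Equiv.ofBijective f hf), Nat.card_fin]
  norm_num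

/-! ### The set of involutions -/

theorem chkS_sound (j : ℕ) (hj : j < 2025) :
    (∀ i < 11, rCi i j < 11 ∧ rCj i j < 2025 ∧
      ∀ p < 275, f16 cY (conjF i j (f16 cY p)) = conjF (rCi i j) (rCj i j) p) ∧
    invOK (rE j) (rE j) = true := by
  have hc := chkS_all j hj
  simp only [chkS, Bool.and_eq_true] at hc
  obtain ⟨h1, h2⟩ := hc
  refine ⟨fun i hi => ?_, h2⟩
  have := (allB_iff _ _).mp h1 i hi
  simp only [chkS1, Bool.and_eq_true, Nat.blt_eq] at this
  exact ⟨this.1, this.2.1, (allB_beq _ _ _).mp this.2.2⟩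

/-- representative `j` as a permutation -/
def Rj (j : ℕ) (hj : j < 2025) : Equiv.Perm (Fin 275) :=
  permOf (rE j) (rE j) (chkS_sound j hj).2

theorem prep_Rj (j : ℕ) (hj : j < 2025) : PRep (Rj j hj) (rE j) := prep_permOf _ _ _

theorem Rj_inv (j : ℕ) (hj : j < 2025) : (Rj j hj)⁻¹ = Rj j hj :=
  ((prep_Rj j hj).inv (chkS_sound j hj).2).unique (prep_Rj j hj)

theorem prep_conj {i : ℕ} (hi : i < 11) (j : ℕ) (hj : j < 2025) (p : Fin 275) :
    ((px ^ i * Rj j hj * (px ^ i)⁻¹) p).val = conjF i j p.val := by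
  have h1 := prep_XP i
  have h2 := prep_XPi i
  rw [Nat.mod_eq_of_lt hi] at h1 h2
  show ((px ^ i) (Rj j hj ((px ^ i)⁻¹ p))).val = _
  rw [h1, prep_Rj, h2]
  rfl

/-- the shifts of the representatives -/
def SS : Set (Equiv.Perm (Fin 275)) :=
  {g | ∃ i j : ℕ, ∃ hj : j < 2025, g = px ^ i * Rj j hj * (px ^ i)⁻¹}

theorem mem_SS_of {g : Equiv.Perm (Fin 275)} {i j : ℕ} (hi : i < 11) (hj : j < 2025)
    (h : ∀ p : Fin 275, (g p).val = conjF i j p.val) : g ∈ SS :=
  ⟨i, j, hj, Equiv.ext fun p => Fin.ext ((h p).trans (prep_conj hi j hj p).symm)⟩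

theorem SS_conj : ∀ s ∈ SS, ∀ g ∈ ({px, py} : Set (Equiv.Perm (Fin 275))), g * s * g⁻¹ ∈ SS := by
  rintro s ⟨i, j, hj, rfl⟩ g (rfl | rfl)
  · refine ⟨i + 1, j, hj, ?_⟩
    rw [pow_succ']
    group
  · have hi : i % 11 < 11 := Nat.mod_lt _ (by norm_num)
    obtain ⟨a, b, c⟩ := (chkS_sound j hj).1 (i % 11) hi
    refine mem_SS_of a b (fun p => ?_)
    rw [← c p.val p.isLt, py_inv, pow_eq_pow_mod i px_pow]
    show (py ((px ^ (i % 11) * Rj j hj * (px ^ (i % 11))⁻¹) (py p))).val = _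
    rw [prep_py, prep_conj hi j hj, prep_py]

theorem P2_invol : ∀ t ∈ P2, t ^ 2 = 1 → t ≠ 1 → t ∈ SS := by
  intro t ht h2 h1
  obtain ⟨m, hm, r⟩ := P2_rep t ht
  have e1 : ∀ p < 275, f16 (pE m) (f16 (pE m) p) = p := by
    intro p hp
    have h3 : (t (t ⟨p, hp⟩)).val = p := by
      have : t (t ⟨p, hp⟩) = (t ^ 2) ⟨p, hp⟩ := by rw [sq]; rfl
      rw [this, h2]
      rfl
    rw [r, r] at h3
    exact h3
  have e2 : m ≠ pOne := by
    intro e
    rw [e] at r
    exact h1 (r.unique prep_pOne)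
  obtain ⟨a, b, c⟩ := (chkP_sound m hm).2.2.2 e1 e2
  exact mem_SS_of a b (fun p => (r p).trans (c p.val p.isLt))

theorem invol_K (hcard : Nat.card ↥K = 898128000) :
    ∀ t ∈ K, t ^ 2 = 1 → t ≠ 1 → t ∈ SS :=
  Cfsg.Agent.H27.J3Out.invol_mem_of_sylow K P2 SS {px, py} 7 P2_le P2_card
    (by rw [hcard]; norm_num) rfl SS_conj P2_invol

end Cfsg.Agent.H6.McL
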