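import Cfsg.Agent.H6.McLOut

/-!
# The outer automorphism group of the McLaughlin group on 275 points: automorphisms (helper6)
-/

set_option autoImplicit false

namespace Cfsg.Agent.H6.McL

open Cfsg Cfsg.Agent.H9 Cfsg.Agent.H93 Cfsg.Agent.H33

/-! ### Elements of the group -/

/-- the element `x` of order 11 -/
def xh : ↥K := ⟨px, px_mem⟩

/-- the involution `y` -/
def yh : ↥K := ⟨py, py_mem⟩

theorem nN_sound : ∃ g ∈ K, PRep g (nC nN) := node_sound nN (by decide)

/-- an element normalising the group generated by `x` -/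
noncomputable def nG : Equiv.Perm (Fin 275) := Classical.choose nN_sound

theorem nG_mem : nG ∈ K := (Classical.choose_spec nN_sound).1

theorem prep_nG : PRep nG (nC nN) := (Classical.choose_spec nN_sound).2

/-- the normalising element in the group -/
noncomputable def nh : ↥K := ⟨nG, nG_mem⟩

theorem xh_pow : xh ^ 11 = 1 := Subtype.ext px_pow

theorem xh_order : orderOf xh = 11 := by
  have : Fact (Nat.Prime 11) := ⟨by norm_num⟩
  refine orderOf_eq_prime xh_pow ?_
  intro e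
  exact px_ne (congrArg Subtype.val e)

theorem gen_J : Subgroup.closure ({xh, yh} : Set ↥K) = ⊤ := by
  have h : ((↑) : ↥K → Equiv.Perm (Fin 275)) ⁻¹' {px, py} = {xh, yh} := by
    ext g
    simp only [Set.mem_preimage, Set.mem_insert_iff, Set.mem_singleton_iff]
    constructor
    · rintro (e | e)
      · left; exact Subtype.ext e
      · right; exact Subtype.ext e
    · rintro (e | e)
      · left; rw [e]; rfl
      · right; rw [e]; rfl
  rw [← h]
  exact Subgroup.closure_closure_coe_preimage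

theorem n_rel : nh * xh * nh⁻¹ = xh ^ 3 := by
  rw [mul_inv_eq_iff_eq_mul]
  apply Subtype.ext
  show nG * px = px ^ 3 * nG
  apply Equiv.ext
  intro p
  apply Fin.ext
  have h3 : PRep (px ^ 3) (XP 3) := prep_XP 3
  rw [Equiv.Perm.mul_apply, Equiv.Perm.mul_apply, prep_nG, prep_px, h3, prep_nG]
  exact (allB_beq _ _ _).mp nN_rel p.val p.isLt

theorem yh_sq : yh ^ 2 = 1 := by
  apply Subtype.ext
  show py ^ 2 = 1
  rw [sq]
  nth_rewrite 1 [← py_inv]
  exact inv_mul_cancel py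

theorem yh_ne : yh ≠ 1 := fun e => py_ne (congrArg Subtype.val e)

theorem jY_lt' : jY < 2025 ∧ jY' < 2025 ∧ jY ≠ jY' := by
  have h := jY_lt
  simp only [Bool.and_eq_true, Nat.blt_eq, Bool.not_eq_true'] at h
  exact ⟨h.1.1, h.1.2, Nat.ne_of_beq_eq_false h.2⟩

theorem Rj_y : Rj jY jY_lt'.1 = py :=
  ((prep_Rj jY _).congr (fun p hp => ((allB_beq _ _ _).mp cR_y p hp).symm)).unique prep_py

/-! ### Words -/

/-- the word `x ^ a₁ t x ^ a₂ t …` -/
def wordG {M : Type*} [Monoid M] (x t : M) (l : List ℕ) : M :=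
  l.foldr (fun a acc => x ^ a * t * acc) 1

theorem wordG_cons {M : Type*} [Monoid M] (x t : M) (a : ℕ) (l : List ℕ) :
    wordG x t (a :: l) = x ^ a * t * wordG x t l := rfl

theorem map_wordG {M N Fn : Type*} [Monoid M] [Monoid N] [FunLike Fn M N] [MonoidHomClass Fn M N]
    (f : Fn) (x t : M) (l : List ℕ) : f (wordG x t l) = wordG (f x) (f t) l := by
  induction l with
  | nil => exact map_one f
  | cons a l ih => rw [wordG_cons, wordG_cons, map_mul, map_mul, map_pow, ih]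

theorem coe_wordG {M : Type*} [Group M] (H : Subgroup M) (x t : H) (l : List ℕ) :
    ((wordG x t l : H) : M) = wordG (x : M) (t : M) l := map_wordG H.subtype x t l

theorem wordP_sound {x t : Equiv.Perm (Fin 275)} {X : ℕ → ℕ} {T : ℕ}
    (hX : ∀ a < 11, PRep (x ^ a) (X a)) (ht : PRep t T) (l : List ℕ) (hl : ∀ a ∈ l, a < 11)
    (p : Fin 275) : ((wordG x t l) p).val = wordP X T l p.val := by
  induction l with
  | nil => rfl
  | cons a l ih =>
    rw [wordG_cons]
    show ((x ^ a) (t (wordG x t l p))).val = f16 (X a) (f16 T (wordP X T l p.val))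
    rw [hX a (hl a (List.mem_cons_self ..)), ht, ih (fun b hb => hl b (List.mem_cons_of_mem _ hb))]

theorem iterP_sound {w : Equiv.Perm (Fin 275)} {X : ℕ → ℕ} {T : ℕ} {l : List ℕ}
    (hw : ∀ p : Fin 275, (w p).val = wordP X T l p.val) :
    ∀ (n : ℕ) (p : Fin 275), ((w ^ n) p).val = iterP X T l n p.val := by
  intro n
  induction n with
  | zero => intro p; rfl
  | succ n ih =>
    intro p
    rw [pow_succ, Equiv.Perm.mul_apply, ih]
    show iterP X T l n (w p).val = iterP X T l n (wordP X T l p.val)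
    rw [hw]

theorem WL_lt (k : ℕ) (hk : k < 11) : ∀ a ∈ WL k, a < 11 := by
  have h := (allB_iff _ _).mp WL_ok k hk
  rw [List.all_eq_true] at h
  intro a ha
  have := h a ha
  rw [Nat.blt_eq] at this
  exact this

theorem hXP : ∀ a < 11, PRep (px ^ a) (XP a) := fun a ha => prep_XP_le a (by omega)

theorem hXPi : ∀ a < 11, PRep (px⁻¹ ^ a) (XPi a) := by
  intro a ha
  have h := prep_XPi a
  rw [Nat.mod_eq_of_lt ha] at h
  rw [inv_pow]
  exact h

theorem y_word (k : ℕ) (hk : k < 11) : wordG px py (WL k) ^ wOrd k = 1 := by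
  apply Equiv.ext
  intro p
  apply Fin.ext
  rw [iterP_sound (wordP_sound hXP prep_py (WL k) (WL_lt k hk))]
  exact (allB_beq _ _ _).mp ((allB_iff _ _).mp wOrd_ok k hk) p.val p.isLt

/-! ### Automorphisms and involutions -/

/-- the image of `y` under an automorphism sending `x` to `z = x` or `x⁻¹` is a shift of a
representative satisfying the word relations of `y` with `z` in place of `x` -/
theorem ref_core (hcard : Nat.card ↥K = 898128000) (α : MulAut ↥K) (z : ↥K)
    (hz : xh * z = z * xh) (hα : α xh = z) :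
    ∃ i j : ℕ, ∃ hj : j < 2025, ((α yh : ↥K) : Equiv.Perm (Fin 275)) =
      px ^ i * Rj j hj * (px ^ i)⁻¹ ∧
      ∀ k < 11, wordG (z : Equiv.Perm (Fin 275)) (Rj j hj) (WL k) ^ wOrd k = 1 := by
  have hq2 : (α yh) ^ 2 = 1 := by rw [← map_pow, yh_sq, map_one]
  have hq1 : α yh ≠ 1 := fun e => yh_ne ((MulEquiv.map_eq_one_iff α).mp e)
  have hS := invol_K hcard (α yh : ↥K).1 (α yh).2
    (by rw [← Subgroup.coe_pow, hq2]; rfl) (fun e => hq1 (Subtype.ext e))
  obtain ⟨i, j, hj, e⟩ := hS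
  refine ⟨i, j, hj, e, fun k hk => ?_⟩
  let r : ↥K := (xh ^ i)⁻¹ * α yh * xh ^ i
  have hr : (r : Equiv.Perm (Fin 275)) = Rj j hj := by
    show (px ^ i)⁻¹ * (α yh : ↥K).1 * px ^ i = _
    rw [e]
    group
  let γ : MulAut ↥K := (MulAut.conj (xh ^ i))⁻¹ * α
  have hzi : xh ^ i * z = z * xh ^ i := ((Commute.pow_left hz i) : Commute (xh ^ i) z).eq
  have hγx : γ xh = z := by
    show (MulAut.conj (xh ^ i))⁻¹ (α xh) = _
    rw [hα, MulAut.conj_inv_apply, mul_assoc, ← hzi, inv_mul_cancel_left]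
  have hγy : γ yh = r := by
    show (MulAut.conj (xh ^ i))⁻¹ (α yh) = _
    rw [MulAut.conj_inv_apply]
  have hu : wordG xh yh (WL k) ^ wOrd k = 1 := by
    apply Subtype.ext
    rw [Subgroup.coe_pow, coe_wordG]
    exact y_word k hk
  have hγ : wordG z r (WL k) ^ wOrd k = 1 := by
    have h1 : γ (wordG xh yh (WL k) ^ wOrd k) = wordG z r (WL k) ^ wOrd k := by
      rw [map_pow, map_wordG, hγx, hγy]
    rw [← h1, hu, map_one]
  have h2 := congrArg Subtype.val hγ
  rw [Subgroup.coe_pow, coe_wordG, hr] at h2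
  exact h2

theorem fix_x (hcard : Nat.card ↥K = 898128000) (α : MulAut ↥K) (hα : α xh = xh) :
    (∃ i : ℕ, ((α yh : ↥K) : Equiv.Perm (Fin 275)) = px ^ i * py * (px ^ i)⁻¹) ∨
    (∃ i : ℕ, ((α yh : ↥K) : Equiv.Perm (Fin 275)) =
      px ^ i * Rj jY' jY_lt'.2.1 * (px ^ i)⁻¹) := by
  obtain ⟨i, j, hj, e, hw⟩ := ref_core hcard α xh rfl hα
  by_cases hj0 : j = jY
  · left
    subst hj0
    refine ⟨i, ?_⟩
    rw [e, Rj_y]
  by_cases hj1 : j = jY'
  · right
    subst hj1
    exact ⟨i, e⟩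
  exfalso
  have hc := (allB_iff _ _).mp chkRef_all j hj
  simp only [chkRef, Bool.or_eq_true, Bool.and_eq_true, Nat.beq_eq, Nat.blt_eq,
    Bool.not_eq_true'] at hc
  rcases hc with hc | hc | ⟨hk, hp, hc⟩
  · exact hj0 hc
  · exact hj1 hc
  · have h2 := iterP_sound (wordP_sound hXP (prep_Rj j hj) (WL (rK j)) (WL_lt _ hk))
      (wOrd (rK j)) ⟨rP j, hp⟩
    have h1 : wordG px (Rj j hj) (WL (rK j)) ^ wOrd (rK j) = 1 := hw (rK j) hk
    rw [h1] at h2
    have h3 : Nat.beq (iterP XP (rE j) (WL (rK j)) (wOrd (rK j)) (rP j)) (rP j) = true := by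
      rw [Nat.beq_eq]
      exact h2.symm
    rw [hc] at h3
    exact Bool.false_ne_true h3

theorem no_inv (hcard : Nat.card ↥K = 898128000) (α : MulAut ↥K) : α xh ≠ xh⁻¹ := by
  intro hα
  obtain ⟨i, j, hj, e, hw⟩ := ref_core hcard α xh⁻¹ (by rw [mul_inv_cancel, inv_mul_cancel]) hα
  have hc := (allB_iff _ _).mp chkRef'_all j hj
  simp only [chkRef', Bool.and_eq_true, Nat.blt_eq, Bool.not_eq_true'] at hc
  obtain ⟨hk, hp, hc⟩ := hc
  have h2 := iterP_sound (wordP_sound hXPi (prep_Rj j hj) (WL (rK' j)) (WL_lt _ hk))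
    (wOrd (rK' j)) ⟨rP' j, hp⟩
  have h1 : wordG px⁻¹ (Rj j hj) (WL (rK' j)) ^ wOrd (rK' j) = 1 := hw (rK' j) hk
  rw [h1] at h2
  have h3 : Nat.beq (iterP XPi (rE j) (WL (rK' j)) (wOrd (rK' j)) (rP' j)) (rP' j) = true := by
    rw [Nat.beq_eq]
    exact h2.symm
  rw [hc] at h3
  exact Bool.false_ne_true h3

/-! ### The outer automorphism -/

/-- the permutation of the 275 points inducing the outer automorphism -/
def g0 : Equiv.Perm (Fin 275) := permOf cG0 cG0i cG0_ok

theorem prep_g0 : PRep g0 cG0 := prep_permOf _ _ _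

theorem g0_x : g0 * px * g0⁻¹ = px := by
  rw [mul_inv_eq_iff_eq_mul]
  apply Equiv.ext
  intro p
  apply Fin.ext
  rw [Equiv.Perm.mul_apply, Equiv.Perm.mul_apply, prep_g0, prep_px, prep_px, prep_g0]
  exact (allB_beq _ _ _).mp cG0_x p.val p.isLt

theorem g0_y : g0 * py * g0⁻¹ = Rj jY' jY_lt'.2.1 := by
  rw [mul_inv_eq_iff_eq_mul]
  apply Equiv.ext
  intro p
  apply Fin.ext
  rw [Equiv.Perm.mul_apply, Equiv.Perm.mul_apply, prep_g0, prep_py, prep_Rj, prep_g0]
  exact (allB_beq _ _ _).mp cG0_y p.val p.isLt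

theorem Rj'_mem : Rj jY' jY_lt'.2.1 ∈ K := by
  have h := nY'_ok
  simp only [Bool.and_eq_true, Nat.blt_eq] at h
  obtain ⟨g, hg, rg⟩ := node_sound nY' h.1
  have : g = Rj jY' jY_lt'.2.1 :=
    (rg.congr (fun p hp => ((allB_beq _ _ _).mp h.2 p hp).symm)).unique (prep_Rj _ _)
  rw [← this]
  exact hg

theorem tau_mem : ∀ g ∈ K, g0 * g * g0⁻¹ ∈ K := by
  have : Subgroup.closure {px, py} ≤ K.comap (MulAut.conj g0).toMonoidHom := by
    rw [Subgroup.closure_le]
    rintro g (rfl | rfl)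
    · show g0 * px * g0⁻¹ ∈ K
      rw [g0_x]
      exact px_mem
    · show g0 * py * g0⁻¹ ∈ K
      rw [g0_y]
      exact Rj'_mem
  exact fun g hg => this hg

/-- conjugation by `g0` on the group, as a homomorphism -/
def tauG : ↥K →* ↥K :=
  ((MulAut.conj g0).toMonoidHom.comp K.subtype).codRestrict K (fun g => tau_mem g.1 g.2)

theorem tauG_bij : Function.Bijective tauG := by
  apply Finite.injective_iff_bijective.mp
  intro a b e
  have e1 : g0 * a.1 * g0⁻¹ = g0 * b.1 * g0⁻¹ := congrArg Subtype.val e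
  exact Subtype.ext (mul_left_cancel (mul_right_cancel e1))

/-- conjugation by `g0` on the group -/
noncomputable def tauE : MulAut ↥K := MulEquiv.ofBijective tauG tauG_bij

theorem tauE_coe (g : ↥K) : ((tauE g : ↥K) : Equiv.Perm (Fin 275)) = g0 * g.1 * g0⁻¹ := rfl

theorem tau_x : tauE xh = xh := Subtype.ext ((tauE_coe xh).trans g0_x)

theorem tau_y : ((tauE yh : ↥K) : Equiv.Perm (Fin 275)) = Rj jY' jY_lt'.2.1 :=
  (tauE_coe yh).trans g0_y

/-- the centraliser of `K` in the symmetric group is trivial, as a hypothesis -/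
def CentTriv : Prop := ∀ c : Equiv.Perm (Fin 275), (∀ g ∈ K, c * g = g * c) → c = 1

theorem g0_not_mem (hOS : OrbStab) (hcard : Nat.card ↥K = 898128000) : g0 ∉ K := by
  intro hg0
  have hn := nU_ok
  simp only [Bool.and_eq_true, Nat.blt_eq, Nat.beq_eq] at hn
  obtain ⟨hU, hb, h3, hq3, -⟩ := hn
  obtain ⟨u, hu, ru⟩ := node_sound nU hU
  have hb' := (allB_beq _ _ _).mp hb
  refine no_q3 hOS hcard (u⁻¹ * g0) (K.mul_mem (K.inv_mem hu) hg0) (fun p hp => ?_) ?_
  · rw [Equiv.Perm.mul_apply, Equiv.Perm.inv_eq_iff_eq]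
    apply Fin.ext
    rw [prep_g0, ru]
    exact (hb' p.val hp).symm
  · have e : (u⁻¹ * g0) ⟨3, by norm_num⟩ = ⟨q3, hq3⟩ := by
      rw [Equiv.Perm.mul_apply, Equiv.Perm.inv_eq_iff_eq]
      apply Fin.ext
      rw [prep_g0, ru]
      exact h3.symm
    rw [e]

theorem tau_outer (hOS : OrbStab) (hC : CentTriv) (hcard : Nat.card ↥K = 898128000) :
    ∀ g : ↥K, tauE ≠ MulAut.conj g := by
  intro g e
  apply g0_not_mem hOS hcard
  have hc : g.1⁻¹ * g0 = 1 := by
    apply hC
    intro k hk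
    have h1 : tauE ⟨k, hk⟩ = MulAut.conj g ⟨k, hk⟩ := by rw [e]
    have h2 : g0 * k * g0⁻¹ = g.1 * k * g.1⁻¹ := congrArg Subtype.val h1
    have h3 : g0 * k = g.1 * k * g.1⁻¹ * g0 := by rw [← h2, inv_mul_cancel_right]
    rw [mul_assoc, h3]
    group
  have : g0 = g.1 := by
    have := congrArg (fun t => g.1 * t) hc
    simp only [mul_inv_cancel_left, mul_one] at this
    exact this
  rw [this]
  exact g.2

theorem hk11 : ∀ m : ℕ, 0 < m → m < 11 → ∃ i : ℕ, 3 ^ i % 11 = m ∨ (3 ^ i + m) % 11 = 0 := by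
  intro m h0 h1
  have key : ∀ m : Fin 11, 0 < m.val → ∃ i : Fin 5, 3 ^ i.val % 11 = m.val ∨
      (3 ^ i.val + m.val) % 11 = 0 := by decide
  obtain ⟨i, hi⟩ := key ⟨m, h1⟩ h0
  exact ⟨i.val, hi⟩

/-- the transitivity and fixed point hypotheses for the centraliser -/
theorem cent_hyp : (∀ q : Fin 275, ∃ g ∈ K, g ⟨0, by norm_num⟩ = q) ∧
    ∀ q : Fin 275, q ≠ ⟨0, by norm_num⟩ → ∃ g ∈ K, g ⟨0, by norm_num⟩ = ⟨0, by norm_num⟩ ∧
      g q ≠ q := by
  constructor
  · obtain ⟨O, hO, hq⟩ := tr_sound tr0 275 0 (by norm_num) chkT_0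
    have hu : O = Finset.univ := by
      apply Finset.eq_univ_of_card
      rw [hO, Fintype.card_fin]
    intro q
    obtain ⟨-, g, hg, -, e⟩ := hq q (by rw [hu]; exact Finset.mem_univ _)
    exact ⟨g, hg, e⟩
  · intro q hq
    have hc := (allB_iff _ _).mp chkC_all q.val q.isLt
    simp only [chkC, Bool.or_eq_true, Bool.and_eq_true, Nat.beq_eq, Nat.blt_eq,
      Bool.not_eq_true'] at hc
    rcases hc with hc | ⟨h1, h2, h3⟩
    · exact absurd (Fin.ext hc) hq
    · obtain ⟨g, hg, rg⟩ := node_sound _ h1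
      refine ⟨g, hg, Fin.ext ((rg _).trans h2), fun e => ?_⟩
      have h4 : Nat.beq (f16 (nC (cN q.val)) q.val) q.val = true := by
        rw [Nat.beq_eq, ← rg q, e]
      rw [h3] at h4
      exact Bool.false_ne_true h4

end Cfsg.Agent.H6.McL
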