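import Cfsg.Agent.H9.Golay

/-!
Gluing lemmas for kernel-evaluated checks: a check over a range is stated in short segments so
that each kernel evaluation stays small (helper6).
-/

set_option autoImplicit false

namespace Cfsg.Agent.H6

open Cfsg Cfsg.Agent.H9

/-- gluing two consecutive segments of a check -/
theorem seg_glue (f : ℕ → Bool) (lo a b : ℕ)
    (h1 : allB (fun j => f (Nat.add lo j)) a = true)
    (h2 : allB (fun j => f (Nat.add (lo + a) j)) b = true) :
    allB (fun j => f (Nat.add lo j)) (a + b) = true := by
  rw [allB_iff]
  intro j hj
  by_cases h : j < a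
  · exact (allB_iff _ _).mp h1 j h
  · have h3 := (allB_iff _ _).mp h2 (j - a) (by omega)
    have e : Nat.add (lo + a) (j - a) = Nat.add lo j := by
      show lo + a + (j - a) = lo + j
      omega
    rw [e] at h3
    exact h3

/-- a check stated from `0` -/
theorem seg_all (f : ℕ → Bool) (n : ℕ) (h : allB (fun j => f (Nat.add 0 j)) n = true) :
    allB f n = true := by
  rw [allB_iff]
  intro j hj
  have h3 := (allB_iff _ _).mp h j hj
  have e : Nat.add 0 j = j := by
    show 0 + j = j
    omega
  rw [e] at h3
  exact h3

end Cfsg.Agent.H6
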