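import Mathlib

/-! Tables for the isomorphism `Sp₄(2) ≅ S₆` (helper6).  A 4×4 matrix over `ZMod 2` (rows/columns
ordered `inl 0, inl 1, inr 0, inr 1`) is looked up by its four row codes `8a+4b+2c+d`.
`tblF` gives the corresponding permutation, coded by base-6 digits `d₀..d₄` with
`σ = swap 0 d₀ * ... * swap 4 d₄`; `tblD` gives its word length in the adjacent transpositions. -/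

set_option autoImplicit false

namespace Cfsg.Agent.H6.Sp42

def tblF : List (List (List (List ℕ))) :=
  [[], [[], [], [[], [], [], [], [0, 0, 0, 0, 0, 0, 0, 0, 5969, 0, 7270, 0, 0, 0, 0, 0], [0, 0, 0, 0, 0, 0, 0, 0, 6185, 0, 7702, 0, 0, 0, 0, 0], [0, 0, 0, 0, 0, 0, 0, 0, 0, 6442, 0, 7553, 0, 0, 0, 0], [0, 0, 0, 0, 0, 0, 0, 0, 0, 7522, 0, 6473, 0, 0, 0, 0], [], [], [], [], [], [], [], []], [[], [], [], [], [], [], [], [], [], [], [], [], [0, 0, 0, 0, 0, 0, 0, 0, 5994, 0, 0, 7326, 0, 0, 0, 0], [0, 0, 0, 0, 0, 0, 0, 0, 6210, 0, 0, 7758, 0, 0, 0, 0], [0, 0, 0, 0, 0, 0, 0, 0, 0, 7329, 5997, 0, 0, 0, 0, 0], [0, 0, 0, 0, 0, 0, 0, 0, 0, 7761, 6213, 0, 0, 0, 0, 0]], [], [], [], [], [[], [], [], [], [0, 0, 6471, 0, 0, 0, 0,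 0, 0, 0, 7521, 0, 0, 0, 0, 0], [0, 0, 7551, 0, 0, 0, 0, 0, 0, 0, 6441, 0, 0, 0, 0, 0], [], [], [], [], [], [], [0, 0, 0, 6438, 0, 0, 0, 0, 0, 0, 0, 7548, 0, 0, 0, 0], [0, 0, 0, 7518, 0, 0, 0, 0, 0, 0, 0, 6468, 0, 0, 0, 0], [], []], [[], [], [], [], [], [], [0, 0, 5998, 0, 0, 0, 0, 0, 0, 0, 0, 7331, 0, 0, 0, 0], [0, 0, 6214, 0, 0, 0, 0, 0, 0, 0, 0, 7763, 0, 0, 0, 0], [], [], [], [], [], [], [0, 0, 0, 7703, 0, 0, 0, 0, 0, 0, 6184, 0, 0, 0, 0, 0], [0, 0, 0, 7271, 0, 0, 0, 0, 0, 0, 5968, 0, 0, 0, 0, 0]], [[], [], [], [], [0, 0, 7762, 0, 0, 0, 0, 0, 6215, 0, 0, 0, 0, 0, 0, 0], [0, 0, 7330, 0, 0, 0, 0, 0, 5999, 0, 0, 0, 0, 0, 0, 0], [], [], [], [], [], [], [], [], [0, 0, 0, 6443, 0, 0, 0, 0, 0, 7552, 0, 0, 0, 0, 0, 0], [0,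 0, 0, 7523, 0, 0, 0, 0, 0, 6472, 0, 0, 0, 0, 0, 0]], [[], [], [], [], [], [], [0, 0, 6183, 0, 0, 0, 0, 0, 0, 7701, 0, 0, 0, 0, 0, 0], [0, 0, 5967, 0, 0, 0, 0, 0, 0, 7269, 0, 0, 0, 0, 0, 0], [], [], [], [], [0, 0, 0, 7698, 0, 0, 0, 0, 6180, 0, 0, 0, 0, 0, 0, 0], [0, 0, 0, 7266, 0, 0, 0, 0, 5964, 0, 0, 0, 0, 0, 0, 0], [], []], [], [], [], []], [[], [[], [], [], [], [], [], [], [], [0, 0, 0, 0, 6344, 7424, 0, 0, 0, 0, 0, 0, 0, 0, 0, 0], [0, 0, 0, 0, 0, 0, 7465, 6385, 0, 0, 0, 0, 0, 0, 0, 0], [0, 0, 0, 0, 6349, 7429, 0, 0, 0, 0, 0, 0, 0, 0, 0, 0], [0, 0, 0, 0, 0, 0, 7460, 6380, 0, 0, 0, 0, 0, 0, 0, 0], [], [], [], []], [], [[], [], [], [], [], [], [], [], [], [], [], [], [0, 0, 0, 0, 7753, 0, 0, 6205, 0, 0, 0, 0, 0, 0,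 0, 0], [0, 0, 0, 0, 0, 7321, 5989, 0, 0, 0, 0, 0, 0, 0, 0, 0], [0, 0, 0, 0, 7748, 0, 0, 6200, 0, 0, 0, 0, 0, 0, 0, 0], [0, 0, 0, 0, 0, 7316, 5984, 0, 0, 0, 0, 0, 0, 0, 0, 0]], [[], [], [], [], [], [], [], [], [0, 5912, 0, 0, 0, 7208, 0, 0, 0, 0, 0, 0, 0, 0, 0, 0], [], [0, 5917, 0, 0, 0, 7213, 0, 0, 0, 0, 0, 0, 0, 0, 0, 0], [], [0, 0, 0, 7249, 0, 0, 0, 5953, 0, 0, 0, 0, 0, 0, 0, 0], [], [0, 0, 0, 7244, 0, 0, 0, 5948, 0, 0, 0, 0, 0, 0, 0, 0], []], [[], [], [], [], [], [], [], [], [0, 6128, 0, 0, 7640, 0, 0, 0, 0, 0, 0, 0, 0, 0, 0, 0], [], [0, 6133, 0, 0, 7645, 0, 0, 0, 0, 0, 0, 0, 0, 0, 0, 0], [], [], [0, 0, 0, 7681, 0, 0, 6169, 0, 0, 0, 0, 0, 0, 0, 0, 0], [], [0, 0, 0, 7676, 0, 0, 6164, 0, 0, 0, 0, 0, 0, 0, 0, 0]],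 [[], [], [], [], [], [], [], [], [], [0, 6241, 0, 0, 0, 0, 0, 7717, 0, 0, 0, 0, 0, 0, 0, 0], [], [0, 6236, 0, 0, 0, 0, 0, 7712, 0, 0, 0, 0, 0, 0, 0, 0], [], [0, 0, 0, 6421, 0, 7537, 0, 0, 0, 0, 0, 0, 0, 0, 0, 0], [], [0, 0, 0, 6416, 0, 7532, 0, 0, 0, 0, 0, 0, 0, 0, 0, 0]], [[], [], [], [], [], [], [], [], [], [0, 6025, 0, 0, 0, 0, 7285, 0, 0, 0, 0, 0, 0, 0, 0, 0], [], [0, 6020, 0, 0, 0, 0, 7280, 0, 0, 0, 0, 0, 0, 0, 0, 0], [0, 0, 0, 7501, 6457, 0, 0, 0, 0, 0, 0, 0, 0, 0, 0, 0], [], [0, 0, 0, 7496, 6452, 0, 0, 0, 0, 0, 0, 0, 0, 0, 0, 0], []], [], [], [], [], [], [], [], []], [[], [[], [], [], [], [], [], [], [], [0, 0, 0, 0, 0, 0, 0, 0, 0, 0, 0, 0, 7473, 6393, 0, 0], [0, 0, 0, 0, 0, 0, 0, 0, 0, 0, 0, 0, 0, 0, 7434,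 6354], [0, 0, 0, 0, 0, 0, 0, 0, 0, 0, 0, 0, 0, 0, 7470, 6390], [0, 0, 0, 0, 0, 0, 0, 0, 0, 0, 0, 0, 7437, 6357, 0, 0], [], [], [], []], [[], [], [], [], [0, 0, 0, 0, 0, 0, 0, 0, 0, 0, 0, 0, 5938, 0, 7229, 0], [0, 0, 0, 0, 0, 0, 0, 0, 0, 0, 0, 0, 0, 6154, 0, 7661], [0, 0, 0, 0, 0, 0, 0, 0, 0, 0, 0, 0, 0, 6262, 0, 7733], [0, 0, 0, 0, 0, 0, 0, 0, 0, 0, 0, 0, 6046, 0, 7301, 0], [], [], [], [], [], [], [], []], [], [], [], [], [], [], [], [], [], [[], [], [], [], [0, 0, 6358, 0, 0, 0, 0, 0, 0, 0, 0, 0, 0, 0, 7439, 0], [], [], [0, 0, 6394, 0, 0, 0, 0, 0, 0, 0, 0, 0, 0, 0, 7475, 0], [0, 6263, 0, 0, 0, 0, 0, 0, 0, 0, 0, 0, 0, 7732, 0, 0], [], [], [0, 6155, 0, 0, 0, 0, 0, 0, 0, 0, 0, 0, 0, 7660, 0, 0], [], [], [], []], [[],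 [], [], [], [], [0, 0, 7438, 0, 0, 0, 0, 0, 0, 0, 0, 0, 0, 0, 0, 6359], [0, 0, 7474, 0, 0, 0, 0, 0, 0, 0, 0, 0, 0, 0, 0, 6395], [], [0, 6047, 0, 0, 0, 0, 0, 0, 0, 0, 0, 0, 7300, 0, 0, 0], [], [], [0, 5939, 0, 0, 0, 0, 0, 0, 0, 0, 0, 0, 7228, 0, 0, 0], [], [], [], []], [[], [], [], [], [0, 0, 7659, 0, 0, 0, 0, 0, 0, 0, 0, 0, 6153, 0, 0, 0], [], [], [0, 0, 7731, 0, 0, 0, 0, 0, 0, 0, 0, 0, 6261, 0, 0, 0], [], [0, 6150, 0, 0, 0, 0, 0, 0, 0, 0, 0, 0, 0, 0, 0, 7656], [0, 6258, 0, 0, 0, 0, 0, 0, 0, 0, 0, 0, 0, 0, 0, 7728], [], [], [], [], []], [[], [], [], [], [], [0, 0, 7227, 0, 0, 0, 0, 0, 0, 0, 0, 0, 0, 5937, 0, 0], [0, 0, 7299, 0, 0, 0, 0, 0, 0, 0, 0, 0, 0, 6045, 0, 0], [], [], [0, 5934, 0, 0, 0, 0, 0, 0, 0, 0, 0, 0,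 0, 0, 7224, 0], [0, 6042, 0, 0, 0, 0, 0, 0, 0, 0, 0, 0, 0, 0, 7296, 0], [], [], [], [], []]], [[], [], [[], [0, 0, 0, 0, 0, 0, 0, 0, 6401, 0, 7486, 0, 0, 0, 0, 0], [], [0, 0, 0, 0, 0, 0, 0, 0, 0, 0, 0, 0, 6010, 0, 7337, 0], [], [0, 0, 0, 0, 0, 0, 0, 0, 7697, 0, 6190, 0, 0, 0, 0, 0], [], [0, 0, 0, 0, 0, 0, 0, 0, 0, 0, 0, 0, 7306, 0, 6041, 0], [], [], [], [], [], [], [], []], [], [], [], [[], [], [], [], [], [], [], [], [], [0, 0, 0, 0, 0, 0, 0, 0, 6426, 0, 0, 0, 0, 0, 7542, 0], [], [0, 0, 0, 0, 0, 0, 0, 0, 0, 0, 6429, 0, 7545, 0, 0, 0], [], [0, 0, 0, 0, 0, 0, 0, 0, 7722, 0, 0, 0, 0, 0, 6246, 0], [], [0, 0, 0, 0, 0, 0, 0, 0, 0, 0, 7725, 0, 6249, 0, 0, 0]], [], [[], [0, 0, 6039, 0, 0, 0, 0, 0, 0, 0, 7305, 0, 0, 0, 0,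 0], [], [], [], [0, 0, 7335, 0, 0, 0, 0, 0, 0, 0, 6009, 0, 0, 0, 0, 0], [], [], [], [0, 0, 0, 0, 0, 0, 6006, 0, 0, 0, 0, 0, 0, 0, 7332, 0], [], [], [], [0, 0, 0, 0, 0, 0, 7302, 0, 0, 0, 0, 0, 0, 0, 6036, 0], [], []], [], [[], [0, 0, 6250, 0, 0, 0, 0, 0, 7727, 0, 0, 0, 0, 0, 0, 0], [], [], [], [0, 0, 7546, 0, 0, 0, 0, 0, 6431, 0, 0, 0, 0, 0, 0, 0], [], [], [], [], [], [0, 0, 0, 0, 0, 0, 6011, 0, 0, 0, 0, 0, 7336, 0, 0, 0], [], [], [], [0, 0, 0, 0, 0, 0, 7307, 0, 0, 0, 0, 0, 6040, 0, 0, 0]], [], [[], [], [], [0, 0, 6430, 0, 0, 0, 0, 0, 0, 0, 0, 0, 0, 0, 7547, 0], [], [], [], [0, 0, 7726, 0, 0, 0, 0, 0, 0, 0, 0, 0, 0, 0, 6251, 0], [], [], [], [0, 0, 0, 0, 0, 0, 6191, 0, 0, 0, 7696, 0, 0, 0, 0, 0], [], [], [], [0, 0, 0,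 0, 0, 0, 7487, 0, 0, 0, 6400, 0, 0, 0, 0, 0]], [], [[], [], [], [0, 0, 7695, 0, 0, 0, 0, 0, 0, 0, 0, 0, 6189, 0, 0, 0], [], [], [], [0, 0, 6399, 0, 0, 0, 0, 0, 0, 0, 0, 0, 7485, 0, 0, 0], [], [0, 0, 0, 0, 0, 0, 6186, 0, 7692, 0, 0, 0, 0, 0, 0, 0], [], [], [], [0, 0, 0, 0, 0, 0, 7482, 0, 6396, 0, 0, 0, 0, 0, 0, 0], [], []], []], [[], [], [[], [0, 0, 0, 0, 0, 0, 0, 0, 7481, 0, 6406, 0, 0, 0, 0, 0], [], [0, 0, 0, 0, 0, 0, 0, 0, 0, 0, 0, 0, 0, 6226, 0, 7769], [0, 0, 0, 0, 0, 0, 0, 0, 7265, 0, 5974, 0, 0, 0, 0, 0], [], [0, 0, 0, 0, 0, 0, 0, 0, 0, 0, 0, 0, 0, 7738, 0, 6257], [], [], [], [], [], [], [], [], []], [], [], [], [], [[], [], [], [], [], [], [], [], [], [0, 0, 0, 0, 0, 0, 0, 0, 7506, 0, 0, 0, 0, 0, 0, 6462], [],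 [0, 0, 0, 0, 0, 0, 0, 0, 0, 0, 7509, 0, 0, 6465, 0, 0], [0, 0, 0, 0, 0, 0, 0, 0, 7290, 0, 0, 0, 0, 0, 0, 6030], [], [0, 0, 0, 0, 0, 0, 0, 0, 0, 0, 7293, 0, 0, 6033, 0, 0], []], [[], [0, 0, 6255, 0, 0, 0, 0, 0, 0, 0, 7737, 0, 0, 0, 0, 0], [], [], [0, 0, 7767, 0, 0, 0, 0, 0, 0, 0, 6225, 0, 0, 0, 0, 0], [], [], [], [], [0, 0, 0, 0, 0, 0, 0, 6222, 0, 0, 0, 0, 0, 0, 0, 7764], [], [], [0, 0, 0, 0, 0, 0, 0, 7734, 0, 0, 0, 0, 0, 0, 0, 6252], [], [], []], [], [[], [0, 0, 6034, 0, 0, 0, 0, 0, 7295, 0, 0, 0, 0, 0, 0, 0], [], [], [0, 0, 6466, 0, 0, 0, 0, 0, 7511, 0, 0, 0, 0, 0, 0, 0], [], [], [], [], [], [], [0, 0, 0, 0, 0, 0, 0, 6227, 0, 0, 0, 0, 0, 7768, 0, 0], [], [], [0, 0, 0, 0, 0, 0, 0, 7739, 0, 0, 0, 0, 0, 6256, 0, 0],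 []], [], [], [[], [], [], [0, 0, 7510, 0, 0, 0, 0, 0, 0, 0, 0, 0, 0, 0, 0, 6467], [], [], [0, 0, 7294, 0, 0, 0, 0, 0, 0, 0, 0, 0, 0, 0, 0, 6035], [], [], [], [], [0, 0, 0, 0, 0, 0, 0, 5975, 0, 0, 7264, 0, 0, 0, 0, 0], [], [], [0, 0, 0, 0, 0, 0, 0, 6407, 0, 0, 7480, 0, 0, 0, 0, 0], []], [], [[], [], [], [0, 0, 7263, 0, 0, 0, 0, 0, 0, 0, 0, 0, 0, 5973, 0, 0], [], [], [0, 0, 7479, 0, 0, 0, 0, 0, 0, 0, 0, 0, 0, 6405, 0, 0], [], [], [0, 0, 0, 0, 0, 0, 0, 5970, 7260, 0, 0, 0, 0, 0, 0, 0], [], [], [0, 0, 0, 0, 0, 0, 0, 6402, 7476, 0, 0, 0, 0, 0, 0, 0], [], [], []]], [[], [], [[], [0, 0, 0, 0, 0, 0, 0, 0, 0, 6370, 0, 7445, 0, 0, 0, 0], [], [0, 0, 0, 0, 0, 0, 0, 0, 0, 0, 0, 0, 0, 7774, 0, 6221], [], [0, 0, 0, 0, 0, 0, 0, 0,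 0, 0, 0, 0, 0, 7666, 0, 6149], [], [0, 0, 0, 0, 0, 0, 0, 0, 0, 6478, 0, 7517, 0, 0, 0, 0], [], [], [], [], [], [], [], []], [], [[], [], [], [], [], [], [], [], [0, 0, 0, 0, 0, 0, 0, 0, 0, 7257, 0, 0, 0, 5961, 0, 0], [], [0, 0, 0, 0, 0, 0, 0, 0, 0, 0, 0, 7254, 0, 0, 0, 5958], [], [0, 0, 0, 0, 0, 0, 0, 0, 0, 0, 0, 7218, 0, 0, 0, 5922], [], [0, 0, 0, 0, 0, 0, 0, 0, 0, 7221, 0, 0, 0, 5925, 0, 0], []], [], [], [], [], [[], [0, 0, 5926, 0, 0, 0, 0, 0, 0, 0, 0, 7223, 0, 0, 0, 0], [], [], [], [], [], [0, 0, 5962, 0, 0, 0, 0, 0, 0, 0, 0, 7259, 0, 0, 0, 0], [0, 0, 0, 0, 7775, 0, 0, 0, 0, 0, 0, 0, 0, 6220, 0, 0], [], [], [], [], [], [0, 0, 0, 0, 7667, 0, 0, 0, 0, 0, 0, 0, 0, 6148, 0, 0], []], [], [[], [0, 0, 6147, 0, 0, 0, 0,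 0, 0, 7665, 0, 0, 0, 0, 0, 0], [], [], [], [], [], [0, 0, 6219, 0, 0, 0, 0, 0, 0, 7773, 0, 0, 0, 0, 0, 0], [], [], [0, 0, 0, 0, 7770, 0, 0, 0, 0, 0, 0, 0, 0, 0, 0, 6216], [], [0, 0, 0, 0, 7662, 0, 0, 0, 0, 0, 0, 0, 0, 0, 0, 6144], [], [], []], [], [[], [], [], [0, 0, 7258, 0, 0, 0, 0, 0, 0, 0, 0, 0, 0, 0, 0, 5963], [], [0, 0, 7222, 0, 0, 0, 0, 0, 0, 0, 0, 0, 0, 0, 0, 5927], [], [], [0, 0, 0, 0, 6479, 0, 0, 0, 0, 7516, 0, 0, 0, 0, 0, 0], [], [], [], [], [], [0, 0, 0, 0, 6371, 0, 0, 0, 0, 7444, 0, 0, 0, 0, 0, 0], []], [], [[], [], [], [0, 0, 7515, 0, 0, 0, 0, 0, 0, 0, 0, 0, 0, 6477, 0, 0], [], [0, 0, 7443, 0, 0, 0, 0, 0, 0, 0, 0, 0, 0, 6369, 0, 0], [], [], [], [], [0, 0, 0, 0, 6474, 0, 0, 0, 0, 0, 0, 7512, 0, 0, 0, 0],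 [], [0, 0, 0, 0, 6366, 0, 0, 0, 0, 0, 0, 7440, 0, 0, 0, 0], [], [], []]], [[], [], [[], [0, 0, 0, 0, 0, 0, 0, 0, 0, 7450, 0, 6365, 0, 0, 0, 0], [], [0, 0, 0, 0, 0, 0, 0, 0, 0, 0, 0, 0, 7342, 0, 6005, 0], [0, 0, 0, 0, 0, 0, 0, 0, 0, 0, 0, 0, 7234, 0, 5933, 0], [], [0, 0, 0, 0, 0, 0, 0, 0, 0, 7558, 0, 6437, 0, 0, 0, 0], [], [], [], [], [], [], [], [], []], [], [], [[], [], [], [], [], [], [], [], [0, 0, 0, 0, 0, 0, 0, 0, 0, 7689, 0, 0, 6177, 0, 0, 0], [], [0, 0, 0, 0, 0, 0, 0, 0, 0, 0, 0, 7686, 0, 0, 6174, 0], [], [], [0, 0, 0, 0, 0, 0, 0, 0, 0, 0, 0, 7650, 0, 0, 6138, 0], [], [0, 0, 0, 0, 0, 0, 0, 0, 0, 7653, 0, 0, 6141, 0, 0, 0]], [], [], [], [[], [0, 0, 6142, 0, 0, 0, 0, 0, 0, 0, 0, 7655, 0, 0, 0, 0], [], [], [],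 [], [0, 0, 6178, 0, 0, 0, 0, 0, 0, 0, 0, 7691, 0, 0, 0, 0], [], [0, 0, 0, 0, 0, 7343, 0, 0, 0, 0, 0, 0, 6004, 0, 0, 0], [], [], [], [], [], [], [0, 0, 0, 0, 0, 7235, 0, 0, 0, 0, 0, 0, 5932, 0, 0, 0]], [], [[], [0, 0, 5931, 0, 0, 0, 0, 0, 0, 7233, 0, 0, 0, 0, 0, 0], [], [], [], [], [0, 0, 6003, 0, 0, 0, 0, 0, 0, 7341, 0, 0, 0, 0, 0, 0], [], [], [], [0, 0, 0, 0, 0, 7338, 0, 0, 0, 0, 0, 0, 0, 0, 6000, 0], [], [], [0, 0, 0, 0, 0, 7230, 0, 0, 0, 0, 0, 0, 0, 0, 5928, 0], [], []], [[], [], [], [0, 0, 7690, 0, 0, 0, 0, 0, 0, 0, 0, 0, 0, 0, 6179, 0], [0, 0, 7654, 0, 0, 0, 0, 0, 0, 0, 0, 0, 0, 0, 6143, 0], [], [], [], [0, 0, 0, 0, 0, 7559, 0, 0, 0, 6436, 0, 0, 0, 0, 0, 0], [], [], [], [], [], [], [0, 0, 0, 0, 0, 7451, 0, 0,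 0, 6364, 0, 0, 0, 0, 0, 0]], [], [[], [], [], [0, 0, 6435, 0, 0, 0, 0, 0, 0, 0, 0, 0, 7557, 0, 0, 0], [0, 0, 6363, 0, 0, 0, 0, 0, 0, 0, 0, 0, 7449, 0, 0, 0], [], [], [], [], [], [0, 0, 0, 0, 0, 7554, 0, 0, 0, 0, 0, 6432, 0, 0, 0, 0], [], [], [0, 0, 0, 0, 0, 7446, 0, 0, 0, 0, 0, 6360, 0, 0, 0, 0], [], []], []], [[], [[], [], [0, 0, 0, 0, 6342, 7422, 0, 0, 0, 0, 0, 0, 0, 0, 0, 0], [0, 0, 0, 0, 0, 0, 0, 0, 0, 0, 0, 0, 7431, 6351, 0, 0], [], [], [], [], [], [], [0, 0, 0, 0, 6348, 7428, 0, 0, 0, 0, 0, 0, 0, 0, 0, 0], [0, 0, 0, 0, 0, 0, 0, 0, 0, 0, 0, 0, 7425, 6345, 0, 0], [], [], [], []], [], [], [[], [], [0, 5910, 0, 0, 0, 7206, 0, 0, 0, 0, 0, 0, 0, 0, 0, 0], [], [], [], [0, 0, 0, 0, 0, 0, 0, 0, 0, 7215, 0, 0, 0, 5919,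 0, 0], [], [], [], [0, 5916, 0, 0, 0, 7212, 0, 0, 0, 0, 0, 0, 0, 0, 0, 0], [], [], [], [0, 0, 0, 0, 0, 0, 0, 0, 0, 7209, 0, 0, 0, 5913, 0, 0], []], [[], [], [0, 6126, 0, 0, 7638, 0, 0, 0, 0, 0, 0, 0, 0, 0, 0, 0], [], [], [], [], [0, 0, 0, 0, 0, 0, 0, 0, 0, 7647, 0, 0, 6135, 0, 0, 0], [], [], [0, 6132, 0, 0, 7644, 0, 0, 0, 0, 0, 0, 0, 0, 0, 0, 0], [], [], [], [], [0, 0, 0, 0, 0, 0, 0, 0, 0, 7641, 0, 0, 6129, 0, 0, 0]], [], [], [], [[], [], [], [], [], [], [0, 0, 0, 0, 7649, 0, 0, 0, 0, 0, 0, 0, 0, 6136, 0, 0], [0, 0, 0, 0, 0, 7217, 0, 0, 0, 0, 0, 0, 5920, 0, 0, 0], [], [], [], [], [], [], [0, 0, 0, 0, 7643, 0, 0, 0, 0, 0, 0, 0, 0, 6130, 0, 0], [0, 0, 0, 0, 0, 7211, 0, 0, 0, 0, 0, 0, 5914, 0, 0, 0]], [], [], [[], [],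 [], [0, 6137, 0, 0, 0, 0, 0, 0, 0, 0, 0, 0, 0, 7648, 0, 0], [], [], [], [0, 0, 0, 0, 0, 7433, 0, 0, 0, 6352, 0, 0, 0, 0, 0, 0], [], [], [], [0, 6131, 0, 0, 0, 0, 0, 0, 0, 0, 0, 0, 0, 7642, 0, 0], [], [], [], [0, 0, 0, 0, 0, 7427, 0, 0, 0, 6346, 0, 0, 0, 0, 0, 0]], [[], [], [], [0, 5921, 0, 0, 0, 0, 0, 0, 0, 0, 0, 0, 7216, 0, 0, 0], [], [], [0, 0, 0, 0, 6353, 0, 0, 0, 0, 7432, 0, 0, 0, 0, 0, 0], [], [], [], [], [0, 5915, 0, 0, 0, 0, 0, 0, 0, 0, 0, 0, 7210, 0, 0, 0], [], [], [0, 0, 0, 0, 6347, 0, 0, 0, 0, 7426, 0, 0, 0, 0, 0, 0], []], [], []], [[], [[], [], [0, 0, 0, 0, 0, 0, 7459, 6379, 0, 0, 0, 0, 0, 0, 0, 0], [0, 0, 0, 0, 0, 0, 0, 0, 0, 0, 0, 0, 0, 0, 7436, 6356], [], [], [], [], [], [], [0, 0, 0, 0, 0, 0, 0, 0, 0,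 0, 0, 0, 0, 0, 7471, 6391], [0, 0, 0, 0, 0, 0, 7466, 6386, 0, 0, 0, 0, 0, 0, 0, 0], [], [], [], []], [], [], [], [], [[], [], [0, 6235, 0, 0, 0, 0, 0, 7711, 0, 0, 0, 0, 0, 0, 0, 0], [], [0, 0, 0, 0, 0, 0, 0, 0, 6428, 0, 0, 0, 0, 0, 7544, 0], [], [], [], [], [], [], [0, 6242, 0, 0, 0, 0, 0, 7718, 0, 0, 0, 0, 0, 0, 0, 0], [], [0, 0, 0, 0, 0, 0, 0, 0, 7723, 0, 0, 0, 0, 0, 6247, 0], [], []], [[], [], [0, 6019, 0, 0, 0, 0, 7279, 0, 0, 0, 0, 0, 0, 0, 0, 0], [], [], [0, 0, 0, 0, 0, 0, 0, 0, 7508, 0, 0, 0, 0, 0, 0, 6464], [], [], [], [], [], [0, 6026, 0, 0, 0, 0, 7286, 0, 0, 0, 0, 0, 0, 0, 0, 0], [0, 0, 0, 0, 0, 0, 0, 0, 7291, 0, 0, 0, 0, 0, 0, 6031], [], [], []], [[], [], [], [], [0, 0, 0, 0, 0, 0, 6008, 0, 0, 0, 0, 0, 0,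 0, 7334, 0], [0, 0, 0, 0, 0, 0, 0, 6224, 0, 0, 0, 0, 0, 0, 0, 7766], [], [], [], [], [], [], [0, 0, 0, 0, 0, 0, 0, 7735, 0, 0, 0, 0, 0, 0, 0, 6253], [0, 0, 0, 0, 0, 0, 7303, 0, 0, 0, 0, 0, 0, 0, 6037, 0], [], []], [], [], [], [], [], [[], [], [], [0, 6152, 0, 0, 0, 0, 0, 0, 0, 0, 0, 0, 0, 0, 0, 7658], [0, 0, 0, 0, 0, 0, 6188, 0, 7694, 0, 0, 0, 0, 0, 0, 0], [], [], [], [], [], [0, 6259, 0, 0, 0, 0, 0, 0, 0, 0, 0, 0, 0, 0, 0, 7729], [], [], [0, 0, 0, 0, 0, 0, 7483, 0, 6397, 0, 0, 0, 0, 0, 0, 0], [], []], [[], [], [], [0, 5936, 0, 0, 0, 0, 0, 0, 0, 0, 0, 0, 0, 0, 7226, 0], [], [0, 0, 0, 0, 0, 0, 0, 5972, 7262, 0, 0, 0, 0, 0, 0, 0], [], [], [], [], [0, 6043, 0, 0, 0, 0, 0, 0, 0, 0, 0, 0, 0, 0, 7297, 0], [], [0, 0, 0, 0,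 0, 0, 0, 6403, 7477, 0, 0, 0, 0, 0, 0, 0], [], [], []]], [[], [[], [], [0, 0, 0, 0, 6343, 7423, 0, 0, 0, 0, 0, 0, 0, 0, 0, 0], [0, 0, 0, 0, 0, 0, 0, 0, 0, 0, 0, 0, 0, 0, 7472, 6392], [], [], [], [], [0, 0, 0, 0, 6350, 7430, 0, 0, 0, 0, 0, 0, 0, 0, 0, 0], [0, 0, 0, 0, 0, 0, 0, 0, 0, 0, 0, 0, 0, 0, 7435, 6355], [], [], [], [], [], []], [], [], [[], [], [0, 5911, 0, 0, 0, 7207, 0, 0, 0, 0, 0, 0, 0, 0, 0, 0], [], [], [], [0, 0, 0, 0, 0, 0, 0, 0, 0, 0, 0, 7256, 0, 0, 0, 5960], [], [0, 5918, 0, 0, 0, 7214, 0, 0, 0, 0, 0, 0, 0, 0, 0, 0], [], [], [], [0, 0, 0, 0, 0, 0, 0, 0, 0, 0, 0, 7219, 0, 0, 0, 5923], [], [], []], [[], [], [0, 6127, 0, 0, 7639, 0, 0, 0, 0, 0, 0, 0, 0, 0, 0, 0], [], [], [], [], [0, 0, 0, 0, 0, 0, 0, 0,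 0, 0, 0, 7688, 0, 0, 6176, 0], [0, 6134, 0, 0, 7646, 0, 0, 0, 0, 0, 0, 0, 0, 0, 0, 0], [], [], [], [], [0, 0, 0, 0, 0, 0, 0, 0, 0, 0, 0, 7651, 0, 0, 6139, 0], [], []], [], [], [], [], [], [[], [], [], [], [], [], [0, 0, 0, 0, 7772, 0, 0, 0, 0, 0, 0, 0, 0, 0, 0, 6218], [0, 0, 0, 0, 0, 7340, 0, 0, 0, 0, 0, 0, 0, 0, 6002, 0], [], [], [], [], [0, 0, 0, 0, 7663, 0, 0, 0, 0, 0, 0, 0, 0, 0, 0, 6145], [0, 0, 0, 0, 0, 7231, 0, 0, 0, 0, 0, 0, 0, 0, 5929, 0], [], []], [], [], [[], [], [], [0, 6260, 0, 0, 0, 0, 0, 0, 0, 0, 0, 0, 0, 0, 0, 7730], [], [], [], [0, 0, 0, 0, 0, 7556, 0, 0, 0, 0, 0, 6434, 0, 0, 0, 0], [], [0, 6151, 0, 0, 0, 0, 0, 0, 0, 0, 0, 0, 0, 0, 0, 7657], [], [], [], [0, 0, 0, 0, 0, 7447, 0, 0, 0, 0, 0, 6361, 0,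 0, 0, 0], [], []], [[], [], [], [0, 6044, 0, 0, 0, 0, 0, 0, 0, 0, 0, 0, 0, 0, 7298, 0], [], [], [0, 0, 0, 0, 6476, 0, 0, 0, 0, 0, 0, 7514, 0, 0, 0, 0], [], [], [0, 5935, 0, 0, 0, 0, 0, 0, 0, 0, 0, 0, 0, 0, 7225, 0], [], [], [0, 0, 0, 0, 6367, 0, 0, 0, 0, 0, 0, 7441, 0, 0, 0, 0], [], [], []]], [[], [[], [], [0, 0, 0, 0, 0, 0, 7458, 6378, 0, 0, 0, 0, 0, 0, 0, 0], [0, 0, 0, 0, 0, 0, 0, 0, 0, 0, 0, 0, 7467, 6387, 0, 0], [], [], [], [], [0, 0, 0, 0, 0, 0, 0, 0, 0, 0, 0, 0, 7461, 6381, 0, 0], [0, 0, 0, 0, 0, 0, 7464, 6384, 0, 0, 0, 0, 0, 0, 0, 0], [], [], [], [], [], []], [], [], [], [], [[], [], [0, 6234, 0, 0, 0, 0, 0, 7710, 0, 0, 0, 0, 0, 0, 0, 0], [], [0, 0, 0, 0, 0, 0, 0, 0, 0, 0, 7719, 0, 6243, 0, 0, 0], [], [], [],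 [], [0, 6240, 0, 0, 0, 0, 0, 7716, 0, 0, 0, 0, 0, 0, 0, 0], [], [], [], [], [], [0, 0, 0, 0, 0, 0, 0, 0, 0, 0, 7713, 0, 6237, 0, 0, 0]], [[], [], [0, 6018, 0, 0, 0, 0, 7278, 0, 0, 0, 0, 0, 0, 0, 0, 0], [], [], [0, 0, 0, 0, 0, 0, 0, 0, 0, 0, 7287, 0, 0, 6027, 0, 0], [], [], [], [0, 6024, 0, 0, 0, 0, 7284, 0, 0, 0, 0, 0, 0, 0, 0, 0], [], [], [], [], [0, 0, 0, 0, 0, 0, 0, 0, 0, 0, 7281, 0, 0, 6021, 0, 0], []], [], [], [[], [], [], [], [0, 0, 0, 0, 0, 0, 7289, 0, 0, 0, 0, 0, 6028, 0, 0, 0], [0, 0, 0, 0, 0, 0, 0, 7721, 0, 0, 0, 0, 0, 6244, 0, 0], [], [], [], [], [], [], [], [], [0, 0, 0, 0, 0, 0, 0, 7715, 0, 0, 0, 0, 0, 6238, 0, 0], [0, 0, 0, 0, 0, 0, 7283, 0, 0, 0, 0, 0, 6022, 0, 0, 0]], [], [[], [], [], [0, 6245, 0, 0,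 0, 0, 0, 0, 0, 0, 0, 0, 0, 7720, 0, 0], [0, 0, 0, 0, 0, 0, 7469, 0, 0, 0, 6388, 0, 0, 0, 0, 0], [], [], [], [0, 6239, 0, 0, 0, 0, 0, 0, 0, 0, 0, 0, 0, 7714, 0, 0], [], [], [], [], [], [], [0, 0, 0, 0, 0, 0, 7463, 0, 0, 0, 6382, 0, 0, 0, 0, 0]], [[], [], [], [0, 6029, 0, 0, 0, 0, 0, 0, 0, 0, 0, 0, 7288, 0, 0, 0], [], [0, 0, 0, 0, 0, 0, 0, 6389, 0, 0, 7468, 0, 0, 0, 0, 0], [], [], [0, 6023, 0, 0, 0, 0, 0, 0, 0, 0, 0, 0, 7282, 0, 0, 0], [], [], [], [], [], [0, 0, 0, 0, 0, 0, 0, 6383, 0, 0, 7462, 0, 0, 0, 0, 0], []], [], []], [[], [], [], [[], [0, 0, 0, 0, 0, 0, 0, 0, 5996, 0, 0, 7328, 0, 0, 0, 0], [0, 0, 0, 0, 7747, 0, 0, 6199, 0, 0, 0, 0, 0, 0, 0, 0], [], [], [], [], [], [], [], [], [], [], [0, 0, 0, 0, 0, 0, 0, 0, 6211,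 0, 0, 7759, 0, 0, 0, 0], [0, 0, 0, 0, 7754, 0, 0, 6206, 0, 0, 0, 0, 0, 0, 0, 0], []], [[], [], [0, 0, 0, 7243, 0, 0, 0, 5947, 0, 0, 0, 0, 0, 0, 0, 0], [], [], [], [0, 0, 0, 0, 0, 0, 0, 0, 0, 0, 0, 7220, 0, 0, 0, 5924], [], [], [], [0, 0, 0, 0, 0, 0, 0, 0, 0, 0, 0, 7255, 0, 0, 0, 5959], [], [], [], [0, 0, 0, 7250, 0, 0, 0, 5954, 0, 0, 0, 0, 0, 0, 0, 0], []], [], [], [[], [], [0, 0, 0, 7495, 6451, 0, 0, 0, 0, 0, 0, 0, 0, 0, 0, 0], [], [], [0, 0, 0, 0, 0, 0, 0, 0, 7292, 0, 0, 0, 0, 0, 0, 6032], [], [], [], [0, 0, 0, 0, 0, 0, 0, 0, 7507, 0, 0, 0, 0, 0, 0, 6463], [], [], [], [], [0, 0, 0, 7502, 6458, 0, 0, 0, 0, 0, 0, 0, 0, 0, 0, 0], []], [[], [0, 0, 0, 6440, 0, 0, 0, 0, 0, 0, 0, 7550, 0, 0, 0, 0], [], [], [], [0, 0, 0,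 0, 0, 0, 0, 7736, 0, 0, 0, 0, 0, 0, 0, 6254], [], [], [], [0, 0, 0, 0, 0, 0, 0, 6223, 0, 0, 0, 0, 0, 0, 0, 7765], [], [], [], [0, 0, 0, 7519, 0, 0, 0, 0, 0, 0, 0, 6469, 0, 0, 0, 0], [], []], [], [], [[], [0, 0, 0, 7700, 0, 0, 0, 0, 6182, 0, 0, 0, 0, 0, 0, 0], [], [], [], [], [0, 0, 0, 0, 7664, 0, 0, 0, 0, 0, 0, 0, 0, 0, 0, 6146], [], [], [], [0, 0, 0, 0, 7771, 0, 0, 0, 0, 0, 0, 0, 0, 0, 0, 6217], [], [], [0, 0, 0, 7267, 0, 0, 0, 0, 5965, 0, 0, 0, 0, 0, 0, 0], [], []], [], [], [], [[], [], [], [], [], [0, 0, 0, 0, 0, 0, 0, 6404, 7478, 0, 0, 0, 0, 0, 0, 0], [0, 0, 0, 0, 6368, 0, 0, 0, 0, 0, 0, 7442, 0, 0, 0, 0], [], [], [0, 0, 0, 0, 0, 0, 0, 5971, 7261, 0, 0, 0, 0, 0, 0, 0], [0, 0, 0, 0, 6475, 0, 0, 0, 0, 0, 0, 7513,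 0, 0, 0, 0], [], [], [], [], []]], [[], [], [], [[], [0, 0, 0, 0, 0, 0, 0, 0, 6212, 0, 0, 7760, 0, 0, 0, 0], [0, 0, 0, 0, 0, 7315, 5983, 0, 0, 0, 0, 0, 0, 0, 0, 0], [], [], [], [], [], [], [], [], [], [0, 0, 0, 0, 0, 0, 0, 0, 5995, 0, 0, 7327, 0, 0, 0, 0], [], [], [0, 0, 0, 0, 0, 7322, 5990, 0, 0, 0, 0, 0, 0, 0, 0, 0]], [], [[], [], [0, 0, 0, 7675, 0, 0, 6163, 0, 0, 0, 0, 0, 0, 0, 0, 0], [], [], [], [], [0, 0, 0, 0, 0, 0, 0, 0, 0, 0, 0, 7652, 0, 0, 6140, 0], [], [], [0, 0, 0, 0, 0, 0, 0, 0, 0, 0, 0, 7687, 0, 0, 6175, 0], [], [], [], [], [0, 0, 0, 7682, 0, 0, 6170, 0, 0, 0, 0, 0, 0, 0, 0, 0]], [[], [], [0, 0, 0, 6415, 0, 7531, 0, 0, 0, 0, 0, 0, 0, 0, 0, 0], [], [0, 0, 0, 0, 0, 0, 0, 0, 7724, 0, 0, 0, 0, 0, 6248, 0],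 [], [], [], [], [0, 0, 0, 0, 0, 0, 0, 0, 6427, 0, 0, 0, 0, 0, 7543, 0], [], [], [], [], [], [0, 0, 0, 6422, 0, 7538, 0, 0, 0, 0, 0, 0, 0, 0, 0, 0]], [], [[], [0, 0, 0, 7520, 0, 0, 0, 0, 0, 0, 0, 6470, 0, 0, 0, 0], [], [], [0, 0, 0, 0, 0, 0, 7304, 0, 0, 0, 0, 0, 0, 0, 6038, 0], [], [], [], [], [0, 0, 0, 0, 0, 0, 6007, 0, 0, 0, 0, 0, 0, 0, 7333, 0], [], [], [0, 0, 0, 6439, 0, 0, 0, 0, 0, 0, 0, 7549, 0, 0, 0, 0], [], [], []], [], [], [[], [0, 0, 0, 7268, 0, 0, 0, 0, 5966, 0, 0, 0, 0, 0, 0, 0], [], [], [], [], [], [0, 0, 0, 0, 0, 7232, 0, 0, 0, 0, 0, 0, 0, 0, 5930, 0], [], [], [0, 0, 0, 0, 0, 7339, 0, 0, 0, 0, 0, 0, 0, 0, 6001, 0], [], [0, 0, 0, 7699, 0, 0, 0, 0, 6181, 0, 0, 0, 0, 0, 0, 0], [], [], []], [], [], [[], [],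 [], [], [0, 0, 0, 0, 0, 0, 7484, 0, 6398, 0, 0, 0, 0, 0, 0, 0], [], [], [0, 0, 0, 0, 0, 7448, 0, 0, 0, 0, 0, 6362, 0, 0, 0, 0], [], [0, 0, 0, 0, 0, 0, 6187, 0, 7693, 0, 0, 0, 0, 0, 0, 0], [0, 0, 0, 0, 0, 7555, 0, 0, 0, 0, 0, 6433, 0, 0, 0, 0], [], [], [], [], []], []], [[], [], [], [[], [0, 0, 0, 0, 0, 0, 0, 0, 0, 7755, 6207, 0, 0, 0, 0, 0], [0, 0, 0, 0, 7746, 0, 0, 6198, 0, 0, 0, 0, 0, 0, 0, 0], [], [], [], [], [], [], [], [], [], [0, 0, 0, 0, 7752, 0, 0, 6204, 0, 0, 0, 0, 0, 0, 0, 0], [], [], [0, 0, 0, 0, 0, 0, 0, 0, 0, 7749, 6201, 0, 0, 0, 0, 0]], [[], [], [0, 0, 0, 7242, 0, 0, 0, 5946, 0, 0, 0, 0, 0, 0, 0, 0], [], [], [], [0, 0, 0, 0, 0, 0, 0, 0, 0, 7251, 0, 0, 0, 5955, 0, 0], [], [0, 0, 0, 0, 0, 0, 0, 0, 0, 7245,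 0, 0, 0, 5949, 0, 0], [], [], [], [0, 0, 0, 7248, 0, 0, 0, 5952, 0, 0, 0, 0, 0, 0, 0, 0], [], [], []], [], [], [[], [], [0, 0, 0, 7494, 6450, 0, 0, 0, 0, 0, 0, 0, 0, 0, 0, 0], [], [], [0, 0, 0, 0, 0, 0, 0, 0, 0, 0, 7503, 0, 0, 6459, 0, 0], [], [], [], [], [], [0, 0, 0, 0, 0, 0, 0, 0, 0, 0, 7497, 0, 0, 6453, 0, 0], [0, 0, 0, 7500, 6456, 0, 0, 0, 0, 0, 0, 0, 0, 0, 0, 0], [], [], []], [], [[], [0, 0, 0, 7253, 0, 0, 0, 0, 0, 0, 5956, 0, 0, 0, 0, 0], [], [], [], [], [0, 0, 0, 0, 7757, 0, 0, 0, 0, 0, 0, 0, 0, 6208, 0, 0], [], [0, 0, 0, 0, 7751, 0, 0, 0, 0, 0, 0, 0, 0, 6202, 0, 0], [], [], [], [], [], [], [0, 0, 0, 7247, 0, 0, 0, 0, 0, 0, 5950, 0, 0, 0, 0, 0]], [[], [0, 0, 0, 7505, 0, 0, 0, 0, 0, 6460, 0, 0, 0, 0, 0, 0],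 [], [], [], [0, 0, 0, 0, 0, 0, 0, 6209, 0, 0, 0, 0, 0, 7756, 0, 0], [], [], [], [], [], [0, 0, 0, 0, 0, 0, 0, 6203, 0, 0, 0, 0, 0, 7750, 0, 0], [], [], [], [0, 0, 0, 7499, 0, 0, 0, 0, 0, 6454, 0, 0, 0, 0, 0, 0]], [], [], [[], [], [], [], [], [0, 0, 0, 0, 0, 0, 0, 5957, 0, 0, 7252, 0, 0, 0, 0, 0], [0, 0, 0, 0, 6461, 0, 0, 0, 0, 7504, 0, 0, 0, 0, 0, 0], [], [0, 0, 0, 0, 6455, 0, 0, 0, 0, 7498, 0, 0, 0, 0, 0, 0], [], [], [0, 0, 0, 0, 0, 0, 0, 5951, 0, 0, 7246, 0, 0, 0, 0, 0], [], [], [], []], [], []], [[], [], [], [[], [0, 0, 0, 0, 0, 0, 0, 0, 0, 7323, 5991, 0, 0, 0, 0, 0], [0, 0, 0, 0, 0, 7314, 5982, 0, 0, 0, 0, 0, 0, 0, 0, 0], [], [], [], [], [], [], [], [], [], [], [0, 0, 0, 0, 0, 7320, 5988, 0, 0, 0, 0, 0, 0, 0, 0,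 0], [0, 0, 0, 0, 0, 0, 0, 0, 0, 7317, 5985, 0, 0, 0, 0, 0], []], [], [[], [], [0, 0, 0, 7674, 0, 0, 6162, 0, 0, 0, 0, 0, 0, 0, 0, 0], [], [], [], [], [0, 0, 0, 0, 0, 0, 0, 0, 0, 7683, 0, 0, 6171, 0, 0, 0], [0, 0, 0, 0, 0, 0, 0, 0, 0, 7677, 0, 0, 6165, 0, 0, 0], [], [], [], [], [0, 0, 0, 7680, 0, 0, 6168, 0, 0, 0, 0, 0, 0, 0, 0, 0], [], []], [[], [], [0, 0, 0, 6414, 0, 7530, 0, 0, 0, 0, 0, 0, 0, 0, 0, 0], [], [0, 0, 0, 0, 0, 0, 0, 0, 0, 0, 6423, 0, 7539, 0, 0, 0], [], [], [], [], [], [], [0, 0, 0, 0, 0, 0, 0, 0, 0, 0, 6417, 0, 7533, 0, 0, 0], [], [0, 0, 0, 6420, 0, 7536, 0, 0, 0, 0, 0, 0, 0, 0, 0, 0], [], []], [], [], [[], [0, 0, 0, 7685, 0, 0, 0, 0, 0, 0, 6172, 0, 0, 0, 0, 0], [], [], [], [], [], [0, 0, 0, 0, 0, 7325,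 0, 0, 0, 0, 0, 0, 5992, 0, 0, 0], [0, 0, 0, 0, 0, 7319, 0, 0, 0, 0, 0, 0, 5986, 0, 0, 0], [], [], [], [], [], [0, 0, 0, 7679, 0, 0, 0, 0, 0, 0, 6166, 0, 0, 0, 0, 0], []], [[], [0, 0, 0, 6425, 0, 0, 0, 0, 0, 7540, 0, 0, 0, 0, 0, 0], [], [], [0, 0, 0, 0, 0, 0, 5993, 0, 0, 0, 0, 0, 7324, 0, 0, 0], [], [], [], [], [], [], [0, 0, 0, 0, 0, 0, 5987, 0, 0, 0, 0, 0, 7318, 0, 0, 0], [], [], [0, 0, 0, 6419, 0, 0, 0, 0, 0, 7534, 0, 0, 0, 0, 0, 0], []], [], [[], [], [], [], [0, 0, 0, 0, 0, 0, 6173, 0, 0, 0, 7684, 0, 0, 0, 0, 0], [], [], [0, 0, 0, 0, 0, 7541, 0, 0, 0, 6424, 0, 0, 0, 0, 0, 0], [0, 0, 0, 0, 0, 7535, 0, 0, 0, 6418, 0, 0, 0, 0, 0, 0], [], [], [0, 0, 0, 0, 0, 0, 6167, 0, 0, 0, 7678, 0, 0, 0, 0, 0], [], [], [], []], [],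 [], []]]

def tblD : List (List (List (List ℕ))) :=
  [[], [[], [], [[], [], [], [], [0, 0, 0, 0, 0, 0, 0, 0, 15, 0, 14, 0, 0, 0, 0, 0], [0, 0, 0, 0, 0, 0, 0, 0, 14, 0, 13, 0, 0, 0, 0, 0], [0, 0, 0, 0, 0, 0, 0, 0, 0, 8, 0, 9, 0, 0, 0, 0], [0, 0, 0, 0, 0, 0, 0, 0, 0, 9, 0, 10, 0, 0, 0, 0], [], [], [], [], [], [], [], []], [[], [], [], [], [], [], [], [], [], [], [], [], [0, 0, 0, 0, 0, 0, 0, 0, 4, 0, 0, 5, 0, 0, 0, 0], [0, 0, 0, 0, 0, 0, 0, 0, 5, 0, 0, 6, 0, 0, 0, 0], [0, 0, 0, 0, 0, 0, 0, 0, 0, 6, 5, 0, 0, 0, 0, 0], [0, 0, 0, 0, 0, 0, 0, 0, 0, 7, 6, 0, 0, 0, 0, 0]], [], [], [], [], [[], [], [], [], [0, 0, 12, 0, 0, 0, 0, 0, 0, 0, 13, 0, 0, 0, 0, 0], [0, 0, 11, 0, 0, 0, 0, 0, 0, 0, 12, 0, 0, 0, 0, 0], [], [], [], [],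 [], [], [0, 0, 0, 7, 0, 0, 0, 0, 0, 0, 0, 6, 0, 0, 0, 0], [0, 0, 0, 8, 0, 0, 0, 0, 0, 0, 0, 7, 0, 0, 0, 0], [], []], [[], [], [], [], [], [], [0, 0, 7, 0, 0, 0, 0, 0, 0, 0, 0, 8, 0, 0, 0, 0], [0, 0, 8, 0, 0, 0, 0, 0, 0, 0, 0, 9, 0, 0, 0, 0], [], [], [], [], [], [], [0, 0, 0, 7, 0, 0, 0, 0, 0, 0, 6, 0, 0, 0, 0, 0], [0, 0, 0, 8, 0, 0, 0, 0, 0, 0, 7, 0, 0, 0, 0, 0]], [[], [], [], [], [0, 0, 13, 0, 0, 0, 0, 0, 14, 0, 0, 0, 0, 0, 0, 0], [0, 0, 12, 0, 0, 0, 0, 0, 13, 0, 0, 0, 0, 0, 0, 0], [], [], [], [], [], [], [], [], [0, 0, 0, 8, 0, 0, 0, 0, 0, 7, 0, 0, 0, 0, 0, 0], [0, 0, 0, 9, 0, 0, 0, 0, 0, 8, 0, 0, 0, 0, 0, 0]], [[], [], [], [], [], [], [0, 0, 6, 0, 0, 0, 0, 0, 0, 7, 0, 0, 0, 0, 0, 0], [0, 0, 7, 0, 0, 0, 0, 0, 0,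 8, 0, 0, 0, 0, 0, 0], [], [], [], [], [0, 0, 0, 6, 0, 0, 0, 0, 5, 0, 0, 0, 0, 0, 0, 0], [0, 0, 0, 7, 0, 0, 0, 0, 6, 0, 0, 0, 0, 0, 0, 0], [], []], [], [], [], []], [[], [[], [], [], [], [], [], [], [], [0, 0, 0, 0, 6, 5, 0, 0, 0, 0, 0, 0, 0, 0, 0, 0], [0, 0, 0, 0, 0, 0, 5, 6, 0, 0, 0, 0, 0, 0, 0, 0], [0, 0, 0, 0, 5, 4, 0, 0, 0, 0, 0, 0, 0, 0, 0, 0], [0, 0, 0, 0, 0, 0, 6, 7, 0, 0, 0, 0, 0, 0, 0, 0], [], [], [], []], [], [[], [], [], [], [], [], [], [], [], [], [], [], [0, 0, 0, 0, 5, 0, 0, 4, 0, 0, 0, 0, 0, 0, 0, 0], [0, 0, 0, 0, 0, 6, 5, 0, 0, 0, 0, 0, 0, 0, 0, 0], [0, 0, 0, 0, 6, 0, 0, 5, 0, 0, 0, 0, 0, 0, 0, 0], [0, 0, 0, 0, 0, 7, 6, 0, 0, 0, 0, 0, 0, 0, 0, 0]], [[], [], [], [], [], [], [], [], [0, 3, 0, 0, 0, 4,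 0, 0, 0, 0, 0, 0, 0, 0, 0, 0], [], [0, 2, 0, 0, 0, 3, 0, 0, 0, 0, 0, 0, 0, 0, 0, 0], [], [0, 0, 0, 4, 0, 0, 0, 3, 0, 0, 0, 0, 0, 0, 0, 0], [], [0, 0, 0, 5, 0, 0, 0, 4, 0, 0, 0, 0, 0, 0, 0, 0], []], [[], [], [], [], [], [], [], [], [0, 4, 0, 0, 5, 0, 0, 0, 0, 0, 0, 0, 0, 0, 0, 0], [], [0, 3, 0, 0, 4, 0, 0, 0, 0, 0, 0, 0, 0, 0, 0, 0], [], [], [0, 0, 0, 5, 0, 0, 4, 0, 0, 0, 0, 0, 0, 0, 0, 0], [], [0, 0, 0, 6, 0, 0, 5, 0, 0, 0, 0, 0, 0, 0, 0, 0]], [[], [], [], [], [], [], [], [], [], [0, 8, 0, 0, 0, 0, 0, 7, 0, 0, 0, 0, 0, 0, 0, 0], [], [0, 9, 0, 0, 0, 0, 0, 8, 0, 0, 0, 0, 0, 0, 0, 0], [], [0, 0, 0, 6, 0, 7, 0, 0, 0, 0, 0, 0, 0, 0, 0, 0], [], [0, 0, 0, 7, 0, 8, 0, 0, 0, 0, 0, 0, 0, 0, 0, 0]], [[], [], [], [], [], [], [],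 [], [], [0, 7, 0, 0, 0, 0, 6, 0, 0, 0, 0, 0, 0, 0, 0, 0], [], [0, 8, 0, 0, 0, 0, 7, 0, 0, 0, 0, 0, 0, 0, 0, 0], [0, 0, 0, 5, 6, 0, 0, 0, 0, 0, 0, 0, 0, 0, 0, 0], [], [0, 0, 0, 6, 7, 0, 0, 0, 0, 0, 0, 0, 0, 0, 0, 0], []], [], [], [], [], [], [], [], []], [[], [[], [], [], [], [], [], [], [], [0, 0, 0, 0, 0, 0, 0, 0, 0, 0, 0, 0, 5, 6, 0, 0], [0, 0, 0, 0, 0, 0, 0, 0, 0, 0, 0, 0, 0, 0, 5, 6], [0, 0, 0, 0, 0, 0, 0, 0, 0, 0, 0, 0, 0, 0, 4, 5], [0, 0, 0, 0, 0, 0, 0, 0, 0, 0, 0, 0, 6, 7, 0, 0], [], [], [], []], [[], [], [], [], [0, 0, 0, 0, 0, 0, 0, 0, 0, 0, 0, 0, 12, 0, 13, 0], [0, 0, 0, 0, 0, 0, 0, 0, 0, 0, 0, 0, 0, 11, 0, 12], [0, 0, 0, 0, 0, 0, 0, 0, 0, 0, 0, 0, 0, 10, 0, 11], [0, 0, 0, 0, 0, 0, 0, 0, 0, 0, 0, 0, 11, 0,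 12, 0], [], [], [], [], [], [], [], []], [], [], [], [], [], [], [], [], [], [[], [], [], [], [0, 0, 11, 0, 0, 0, 0, 0, 0, 0, 0, 0, 0, 0, 12, 0], [], [], [0, 0, 10, 0, 0, 0, 0, 0, 0, 0, 0, 0, 0, 0, 11, 0], [0, 8, 0, 0, 0, 0, 0, 0, 0, 0, 0, 0, 0, 7, 0, 0], [], [], [0, 9, 0, 0, 0, 0, 0, 0, 0, 0, 0, 0, 0, 8, 0, 0], [], [], [], []], [[], [], [], [], [], [0, 0, 10, 0, 0, 0, 0, 0, 0, 0, 0, 0, 0, 0, 0, 11], [0, 0, 9, 0, 0, 0, 0, 0, 0, 0, 0, 0, 0, 0, 0, 10], [], [0, 7, 0, 0, 0, 0, 0, 0, 0, 0, 0, 0, 6, 0, 0, 0], [], [], [0, 8, 0, 0, 0, 0, 0, 0, 0, 0, 0, 0, 7, 0, 0, 0], [], [], [], []], [[], [], [], [], [0, 0, 10, 0, 0, 0, 0, 0, 0, 0, 0, 0, 11, 0, 0, 0], [], [], [0, 0, 9, 0, 0, 0, 0, 0, 0, 0, 0, 0, 10, 0, 0, 0], [], [0, 8, 0,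 0, 0, 0, 0, 0, 0, 0, 0, 0, 0, 0, 0, 7], [0, 7, 0, 0, 0, 0, 0, 0, 0, 0, 0, 0, 0, 0, 0, 6], [], [], [], [], []], [[], [], [], [], [], [0, 0, 9, 0, 0, 0, 0, 0, 0, 0, 0, 0, 0, 10, 0, 0], [0, 0, 8, 0, 0, 0, 0, 0, 0, 0, 0, 0, 0, 9, 0, 0], [], [], [0, 7, 0, 0, 0, 0, 0, 0, 0, 0, 0, 0, 0, 0, 6, 0], [0, 6, 0, 0, 0, 0, 0, 0, 0, 0, 0, 0, 0, 0, 5, 0], [], [], [], [], []]], [[], [], [[], [0, 0, 0, 0, 0, 0, 0, 0, 12, 0, 11, 0, 0, 0, 0, 0], [], [0, 0, 0, 0, 0, 0, 0, 0, 0, 0, 0, 0, 11, 0, 12, 0], [], [0, 0, 0, 0, 0, 0, 0, 0, 13, 0, 12, 0, 0, 0, 0, 0], [], [0, 0, 0, 0, 0, 0, 0, 0, 0, 0, 0, 0, 10, 0, 11, 0], [], [], [], [], [], [], [], []], [], [], [], [[], [], [], [], [], [], [], [], [], [0, 0, 0, 0, 0, 0, 0, 0, 7, 0, 0, 0, 0, 0, 8,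 0], [], [0, 0, 0, 0, 0, 0, 0, 0, 0, 0, 8, 0, 9, 0, 0, 0], [], [0, 0, 0, 0, 0, 0, 0, 0, 6, 0, 0, 0, 0, 0, 7, 0], [], [0, 0, 0, 0, 0, 0, 0, 0, 0, 0, 7, 0, 8, 0, 0, 0]], [], [[], [0, 0, 9, 0, 0, 0, 0, 0, 0, 0, 10, 0, 0, 0, 0, 0], [], [], [], [0, 0, 10, 0, 0, 0, 0, 0, 0, 0, 11, 0, 0, 0, 0, 0], [], [], [], [0, 0, 0, 0, 0, 0, 10, 0, 0, 0, 0, 0, 0, 0, 9, 0], [], [], [], [0, 0, 0, 0, 0, 0, 9, 0, 0, 0, 0, 0, 0, 0, 8, 0], [], []], [], [[], [0, 0, 10, 0, 0, 0, 0, 0, 11, 0, 0, 0, 0, 0, 0, 0], [], [], [], [0, 0, 11, 0, 0, 0, 0, 0, 12, 0, 0, 0, 0, 0, 0, 0], [], [], [], [], [], [0, 0, 0, 0, 0, 0, 11, 0, 0, 0, 0, 0, 10, 0, 0, 0], [], [], [], [0, 0, 0, 0, 0, 0, 10, 0, 0, 0, 0, 0, 9, 0, 0, 0]], [], [[], [], [], [0, 0, 10, 0, 0, 0, 0,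 0, 0, 0, 0, 0, 0, 0, 11, 0], [], [], [], [0, 0, 9, 0, 0, 0, 0, 0, 0, 0, 0, 0, 0, 0, 10, 0], [], [], [], [0, 0, 0, 0, 0, 0, 10, 0, 0, 0, 9, 0, 0, 0, 0, 0], [], [], [], [0, 0, 0, 0, 0, 0, 9, 0, 0, 0, 8, 0, 0, 0, 0, 0]], [], [[], [], [], [0, 0, 9, 0, 0, 0, 0, 0, 0, 0, 0, 0, 10, 0, 0, 0], [], [], [], [0, 0, 8, 0, 0, 0, 0, 0, 0, 0, 0, 0, 9, 0, 0, 0], [], [0, 0, 0, 0, 0, 0, 9, 0, 8, 0, 0, 0, 0, 0, 0, 0], [], [], [], [0, 0, 0, 0, 0, 0, 8, 0, 7, 0, 0, 0, 0, 0, 0, 0], [], []], []], [[], [], [[], [0, 0, 0, 0, 0, 0, 0, 0, 13, 0, 12, 0, 0, 0, 0, 0], [], [0, 0, 0, 0, 0, 0, 0, 0, 0, 0, 0, 0, 0, 10, 0, 11], [0, 0, 0, 0, 0, 0, 0, 0, 14, 0, 13, 0, 0, 0, 0, 0], [], [0, 0, 0, 0, 0, 0, 0, 0, 0, 0, 0, 0, 0, 9, 0, 10], [], [], [], [], [],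 [], [], [], []], [], [], [], [], [[], [], [], [], [], [], [], [], [], [0, 0, 0, 0, 0, 0, 0, 0, 6, 0, 0, 0, 0, 0, 0, 7], [], [0, 0, 0, 0, 0, 0, 0, 0, 0, 0, 7, 0, 0, 8, 0, 0], [0, 0, 0, 0, 0, 0, 0, 0, 5, 0, 0, 0, 0, 0, 0, 6], [], [0, 0, 0, 0, 0, 0, 0, 0, 0, 0, 6, 0, 0, 7, 0, 0], []], [[], [0, 0, 10, 0, 0, 0, 0, 0, 0, 0, 11, 0, 0, 0, 0, 0], [], [], [0, 0, 11, 0, 0, 0, 0, 0, 0, 0, 12, 0, 0, 0, 0, 0], [], [], [], [], [0, 0, 0, 0, 0, 0, 0, 9, 0, 0, 0, 0, 0, 0, 0, 8], [], [], [0, 0, 0, 0, 0, 0, 0, 8, 0, 0, 0, 0, 0, 0, 0, 7], [], [], []], [], [[], [0, 0, 11, 0, 0, 0, 0, 0, 12, 0, 0, 0, 0, 0, 0, 0], [], [], [0, 0, 12, 0, 0, 0, 0, 0, 13, 0, 0, 0, 0, 0, 0, 0], [], [], [], [], [], [], [0, 0, 0, 0, 0, 0, 0, 10, 0, 0, 0, 0, 0, 9,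 0, 0], [], [], [0, 0, 0, 0, 0, 0, 0, 9, 0, 0, 0, 0, 0, 8, 0, 0], []], [], [], [[], [], [], [0, 0, 9, 0, 0, 0, 0, 0, 0, 0, 0, 0, 0, 0, 0, 10], [], [], [0, 0, 8, 0, 0, 0, 0, 0, 0, 0, 0, 0, 0, 0, 0, 9], [], [], [], [], [0, 0, 0, 0, 0, 0, 0, 9, 0, 0, 8, 0, 0, 0, 0, 0], [], [], [0, 0, 0, 0, 0, 0, 0, 8, 0, 0, 7, 0, 0, 0, 0, 0], []], [], [[], [], [], [0, 0, 8, 0, 0, 0, 0, 0, 0, 0, 0, 0, 0, 9, 0, 0], [], [], [0, 0, 7, 0, 0, 0, 0, 0, 0, 0, 0, 0, 0, 8, 0, 0], [], [], [0, 0, 0, 0, 0, 0, 0, 8, 7, 0, 0, 0, 0, 0, 0, 0], [], [], [0, 0, 0, 0, 0, 0, 0, 7, 6, 0, 0, 0, 0, 0, 0, 0], [], [], []]], [[], [], [[], [0, 0, 0, 0, 0, 0, 0, 0, 0, 11, 0, 12, 0, 0, 0, 0], [], [0, 0, 0, 0, 0, 0, 0, 0, 0, 0, 0, 0, 0, 11, 0, 12], [], [0, 0, 0, 0, 0,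 0, 0, 0, 0, 0, 0, 0, 0, 12, 0, 13], [], [0, 0, 0, 0, 0, 0, 0, 0, 0, 10, 0, 11, 0, 0, 0, 0], [], [], [], [], [], [], [], []], [], [[], [], [], [], [], [], [], [], [0, 0, 0, 0, 0, 0, 0, 0, 0, 4, 0, 0, 0, 3, 0, 0], [], [0, 0, 0, 0, 0, 0, 0, 0, 0, 0, 0, 3, 0, 0, 0, 2], [], [0, 0, 0, 0, 0, 0, 0, 0, 0, 0, 0, 4, 0, 0, 0, 3], [], [0, 0, 0, 0, 0, 0, 0, 0, 0, 5, 0, 0, 0, 4, 0, 0], []], [], [], [], [], [[], [0, 0, 10, 0, 0, 0, 0, 0, 0, 0, 0, 11, 0, 0, 0, 0], [], [], [], [], [], [0, 0, 9, 0, 0, 0, 0, 0, 0, 0, 0, 10, 0, 0, 0, 0], [0, 0, 0, 0, 5, 0, 0, 0, 0, 0, 0, 0, 0, 4, 0, 0], [], [], [], [], [], [0, 0, 0, 0, 6, 0, 0, 0, 0, 0, 0, 0, 0, 5, 0, 0], []], [], [[], [0, 0, 9, 0, 0, 0, 0, 0, 0, 10, 0, 0, 0, 0, 0, 0], [], [], [], [],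 [], [0, 0, 8, 0, 0, 0, 0, 0, 0, 9, 0, 0, 0, 0, 0, 0], [], [], [0, 0, 0, 0, 4, 0, 0, 0, 0, 0, 0, 0, 0, 0, 0, 3], [], [0, 0, 0, 0, 5, 0, 0, 0, 0, 0, 0, 0, 0, 0, 0, 4], [], [], []], [], [[], [], [], [0, 0, 10, 0, 0, 0, 0, 0, 0, 0, 0, 0, 0, 0, 0, 11], [], [0, 0, 11, 0, 0, 0, 0, 0, 0, 0, 0, 0, 0, 0, 0, 12], [], [], [0, 0, 0, 0, 6, 0, 0, 0, 0, 5, 0, 0, 0, 0, 0, 0], [], [], [], [], [], [0, 0, 0, 0, 7, 0, 0, 0, 0, 6, 0, 0, 0, 0, 0, 0], []], [], [[], [], [], [0, 0, 9, 0, 0, 0, 0, 0, 0, 0, 0, 0, 0, 10, 0, 0], [], [0, 0, 10, 0, 0, 0, 0, 0, 0, 0, 0, 0, 0, 11, 0, 0], [], [], [], [], [0, 0, 0, 0, 5, 0, 0, 0, 0, 0, 0, 4, 0, 0, 0, 0], [], [0, 0, 0, 0, 6, 0, 0, 0, 0, 0, 0, 5, 0, 0, 0, 0], [], [], []]], [[], [], [[], [0, 0, 0, 0, 0,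 0, 0, 0, 0, 10, 0, 11, 0, 0, 0, 0], [], [0, 0, 0, 0, 0, 0, 0, 0, 0, 0, 0, 0, 12, 0, 13, 0], [0, 0, 0, 0, 0, 0, 0, 0, 0, 0, 0, 0, 13, 0, 14, 0], [], [0, 0, 0, 0, 0, 0, 0, 0, 0, 9, 0, 10, 0, 0, 0, 0], [], [], [], [], [], [], [], [], []], [], [], [[], [], [], [], [], [], [], [], [0, 0, 0, 0, 0, 0, 0, 0, 0, 5, 0, 0, 4, 0, 0, 0], [], [0, 0, 0, 0, 0, 0, 0, 0, 0, 0, 0, 4, 0, 0, 3, 0], [], [], [0, 0, 0, 0, 0, 0, 0, 0, 0, 0, 0, 5, 0, 0, 4, 0], [], [0, 0, 0, 0, 0, 0, 0, 0, 0, 6, 0, 0, 5, 0, 0, 0]], [], [], [], [[], [0, 0, 9, 0, 0, 0, 0, 0, 0, 0, 0, 10, 0, 0, 0, 0], [], [], [], [], [0, 0, 8, 0, 0, 0, 0, 0, 0, 0, 0, 9, 0, 0, 0, 0], [], [0, 0, 0, 0, 0, 6, 0, 0, 0, 0, 0, 0, 5, 0, 0, 0], [], [], [], [], [], [], [0, 0, 0, 0, 0, 7,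 0, 0, 0, 0, 0, 0, 6, 0, 0, 0]], [], [[], [0, 0, 8, 0, 0, 0, 0, 0, 0, 9, 0, 0, 0, 0, 0, 0], [], [], [], [], [0, 0, 7, 0, 0, 0, 0, 0, 0, 8, 0, 0, 0, 0, 0, 0], [], [], [], [0, 0, 0, 0, 0, 5, 0, 0, 0, 0, 0, 0, 0, 0, 4, 0], [], [], [0, 0, 0, 0, 0, 6, 0, 0, 0, 0, 0, 0, 0, 0, 5, 0], [], []], [[], [], [], [0, 0, 11, 0, 0, 0, 0, 0, 0, 0, 0, 0, 0, 0, 12, 0], [0, 0, 12, 0, 0, 0, 0, 0, 0, 0, 0, 0, 0, 0, 13, 0], [], [], [], [0, 0, 0, 0, 0, 7, 0, 0, 0, 6, 0, 0, 0, 0, 0, 0], [], [], [], [], [], [], [0, 0, 0, 0, 0, 8, 0, 0, 0, 7, 0, 0, 0, 0, 0, 0]], [], [[], [], [], [0, 0, 10, 0, 0, 0, 0, 0, 0, 0, 0, 0, 11, 0, 0, 0], [0, 0, 11, 0, 0, 0, 0, 0, 0, 0, 0, 0, 12, 0, 0, 0], [], [], [], [], [], [0, 0, 0, 0, 0, 6, 0, 0, 0, 0, 0, 5, 0, 0,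 0, 0], [], [], [0, 0, 0, 0, 0, 7, 0, 0, 0, 0, 0, 6, 0, 0, 0, 0], [], []], []], [[], [[], [], [0, 0, 0, 0, 3, 2, 0, 0, 0, 0, 0, 0, 0, 0, 0, 0], [0, 0, 0, 0, 0, 0, 0, 0, 0, 0, 0, 0, 8, 9, 0, 0], [], [], [], [], [], [], [0, 0, 0, 0, 4, 3, 0, 0, 0, 0, 0, 0, 0, 0, 0, 0], [0, 0, 0, 0, 0, 0, 0, 0, 0, 0, 0, 0, 7, 8, 0, 0], [], [], [], []], [], [], [[], [], [0, 0, 0, 0, 0, 1, 0, 0, 0, 0, 0, 0, 0, 0, 0, 0], [], [], [], [0, 0, 0, 0, 0, 0, 0, 0, 0, 7, 0, 0, 0, 6, 0, 0], [], [], [], [0, 1, 0, 0, 0, 2, 0, 0, 0, 0, 0, 0, 0, 0, 0, 0], [], [], [], [0, 0, 0, 0, 0, 0, 0, 0, 0, 6, 0, 0, 0, 5, 0, 0], []], [[], [], [0, 1, 0, 0, 2, 0, 0, 0, 0, 0, 0, 0, 0, 0, 0, 0], [], [], [], [], [0, 0, 0, 0, 0, 0, 0, 0, 0, 8, 0, 0, 7, 0, 0, 0], [], [],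 [0, 2, 0, 0, 3, 0, 0, 0, 0, 0, 0, 0, 0, 0, 0, 0], [], [], [], [], [0, 0, 0, 0, 0, 0, 0, 0, 0, 7, 0, 0, 6, 0, 0, 0]], [], [], [], [[], [], [], [], [], [], [0, 0, 0, 0, 8, 0, 0, 0, 0, 0, 0, 0, 0, 7, 0, 0], [0, 0, 0, 0, 0, 9, 0, 0, 0, 0, 0, 0, 8, 0, 0, 0], [], [], [], [], [], [], [0, 0, 0, 0, 7, 0, 0, 0, 0, 0, 0, 0, 0, 6, 0, 0], [0, 0, 0, 0, 0, 8, 0, 0, 0, 0, 0, 0, 7, 0, 0, 0]], [], [], [[], [], [], [0, 11, 0, 0, 0, 0, 0, 0, 0, 0, 0, 0, 0, 10, 0, 0], [], [], [], [0, 0, 0, 0, 0, 10, 0, 0, 0, 9, 0, 0, 0, 0, 0, 0], [], [], [], [0, 10, 0, 0, 0, 0, 0, 0, 0, 0, 0, 0, 0, 9, 0, 0], [], [], [], [0, 0, 0, 0, 0, 9, 0, 0, 0, 8, 0, 0, 0, 0, 0, 0]], [[], [], [], [0, 10, 0, 0, 0, 0, 0, 0, 0, 0, 0, 0, 9, 0, 0, 0], [], [], [0, 0, 0, 0,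 9, 0, 0, 0, 0, 8, 0, 0, 0, 0, 0, 0], [], [], [], [], [0, 9, 0, 0, 0, 0, 0, 0, 0, 0, 0, 0, 8, 0, 0, 0], [], [], [0, 0, 0, 0, 8, 0, 0, 0, 0, 7, 0, 0, 0, 0, 0, 0], []], [], []], [[], [[], [], [0, 0, 0, 0, 0, 0, 4, 5, 0, 0, 0, 0, 0, 0, 0, 0], [0, 0, 0, 0, 0, 0, 0, 0, 0, 0, 0, 0, 0, 0, 6, 7], [], [], [], [], [], [], [0, 0, 0, 0, 0, 0, 0, 0, 0, 0, 0, 0, 0, 0, 5, 6], [0, 0, 0, 0, 0, 0, 5, 6, 0, 0, 0, 0, 0, 0, 0, 0], [], [], [], []], [], [], [], [], [[], [], [0, 7, 0, 0, 0, 0, 0, 6, 0, 0, 0, 0, 0, 0, 0, 0], [], [0, 0, 0, 0, 0, 0, 0, 0, 8, 0, 0, 0, 0, 0, 9, 0], [], [], [], [], [], [], [0, 8, 0, 0, 0, 0, 0, 7, 0, 0, 0, 0, 0, 0, 0, 0], [], [0, 0, 0, 0, 0, 0, 0, 0, 7, 0, 0, 0, 0, 0, 8, 0], [], []], [[], [], [0, 6, 0, 0, 0, 0,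 5, 0, 0, 0, 0, 0, 0, 0, 0, 0], [], [], [0, 0, 0, 0, 0, 0, 0, 0, 7, 0, 0, 0, 0, 0, 0, 8], [], [], [], [], [], [0, 7, 0, 0, 0, 0, 6, 0, 0, 0, 0, 0, 0, 0, 0, 0], [0, 0, 0, 0, 0, 0, 0, 0, 6, 0, 0, 0, 0, 0, 0, 7], [], [], []], [[], [], [], [], [0, 0, 0, 0, 0, 0, 11, 0, 0, 0, 0, 0, 0, 0, 10, 0], [0, 0, 0, 0, 0, 0, 0, 10, 0, 0, 0, 0, 0, 0, 0, 9], [], [], [], [], [], [], [0, 0, 0, 0, 0, 0, 0, 9, 0, 0, 0, 0, 0, 0, 0, 8], [0, 0, 0, 0, 0, 0, 10, 0, 0, 0, 0, 0, 0, 0, 9, 0], [], []], [], [], [], [], [], [[], [], [], [0, 9, 0, 0, 0, 0, 0, 0, 0, 0, 0, 0, 0, 0, 0, 8], [0, 0, 0, 0, 0, 0, 10, 0, 9, 0, 0, 0, 0, 0, 0, 0], [], [], [], [], [], [0, 8, 0, 0, 0, 0, 0, 0, 0, 0, 0, 0, 0, 0, 0, 7], [], [], [0, 0, 0, 0, 0, 0, 9, 0, 8, 0, 0, 0,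 0, 0, 0, 0], [], []], [[], [], [], [0, 8, 0, 0, 0, 0, 0, 0, 0, 0, 0, 0, 0, 0, 7, 0], [], [0, 0, 0, 0, 0, 0, 0, 9, 8, 0, 0, 0, 0, 0, 0, 0], [], [], [], [], [0, 7, 0, 0, 0, 0, 0, 0, 0, 0, 0, 0, 0, 0, 6, 0], [], [0, 0, 0, 0, 0, 0, 0, 8, 7, 0, 0, 0, 0, 0, 0, 0], [], [], []]], [[], [[], [], [0, 0, 0, 0, 4, 3, 0, 0, 0, 0, 0, 0, 0, 0, 0, 0], [0, 0, 0, 0, 0, 0, 0, 0, 0, 0, 0, 0, 0, 0, 7, 8], [], [], [], [], [0, 0, 0, 0, 5, 4, 0, 0, 0, 0, 0, 0, 0, 0, 0, 0], [0, 0, 0, 0, 0, 0, 0, 0, 0, 0, 0, 0, 0, 0, 6, 7], [], [], [], [], [], []], [], [], [[], [], [0, 1, 0, 0, 0, 2, 0, 0, 0, 0, 0, 0, 0, 0, 0, 0], [], [], [], [0, 0, 0, 0, 0, 0, 0, 0, 0, 0, 0, 6, 0, 0, 0, 5], [], [0, 2, 0, 0, 0, 3, 0, 0, 0, 0, 0, 0, 0, 0, 0, 0], [], [], [], [0,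 0, 0, 0, 0, 0, 0, 0, 0, 0, 0, 5, 0, 0, 0, 4], [], [], []], [[], [], [0, 2, 0, 0, 3, 0, 0, 0, 0, 0, 0, 0, 0, 0, 0, 0], [], [], [], [], [0, 0, 0, 0, 0, 0, 0, 0, 0, 0, 0, 7, 0, 0, 6, 0], [0, 3, 0, 0, 4, 0, 0, 0, 0, 0, 0, 0, 0, 0, 0, 0], [], [], [], [], [0, 0, 0, 0, 0, 0, 0, 0, 0, 0, 0, 6, 0, 0, 5, 0], [], []], [], [], [], [], [], [[], [], [], [], [], [], [0, 0, 0, 0, 7, 0, 0, 0, 0, 0, 0, 0, 0, 0, 0, 6], [0, 0, 0, 0, 0, 8, 0, 0, 0, 0, 0, 0, 0, 0, 7, 0], [], [], [], [], [0, 0, 0, 0, 6, 0, 0, 0, 0, 0, 0, 0, 0, 0, 0, 5], [0, 0, 0, 0, 0, 7, 0, 0, 0, 0, 0, 0, 0, 0, 6, 0], [], []], [], [], [[], [], [], [0, 10, 0, 0, 0, 0, 0, 0, 0, 0, 0, 0, 0, 0, 0, 9], [], [], [], [0, 0, 0, 0, 0, 9, 0, 0, 0, 0, 0, 8, 0, 0, 0, 0], [], [0, 9,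 0, 0, 0, 0, 0, 0, 0, 0, 0, 0, 0, 0, 0, 8], [], [], [], [0, 0, 0, 0, 0, 8, 0, 0, 0, 0, 0, 7, 0, 0, 0, 0], [], []], [[], [], [], [0, 9, 0, 0, 0, 0, 0, 0, 0, 0, 0, 0, 0, 0, 8, 0], [], [], [0, 0, 0, 0, 8, 0, 0, 0, 0, 0, 0, 7, 0, 0, 0, 0], [], [], [0, 8, 0, 0, 0, 0, 0, 0, 0, 0, 0, 0, 0, 0, 7, 0], [], [], [0, 0, 0, 0, 7, 0, 0, 0, 0, 0, 0, 6, 0, 0, 0, 0], [], [], []]], [[], [[], [], [0, 0, 0, 0, 0, 0, 3, 4, 0, 0, 0, 0, 0, 0, 0, 0], [0, 0, 0, 0, 0, 0, 0, 0, 0, 0, 0, 0, 7, 8, 0, 0], [], [], [], [], [0, 0, 0, 0, 0, 0, 0, 0, 0, 0, 0, 0, 6, 7, 0, 0], [0, 0, 0, 0, 0, 0, 4, 5, 0, 0, 0, 0, 0, 0, 0, 0], [], [], [], [], [], []], [], [], [], [], [[], [], [0, 6, 0, 0, 0, 0, 0, 5, 0, 0, 0, 0, 0, 0, 0, 0], [], [0, 0, 0, 0, 0, 0, 0, 0,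 0, 0, 9, 0, 10, 0, 0, 0], [], [], [], [], [0, 7, 0, 0, 0, 0, 0, 6, 0, 0, 0, 0, 0, 0, 0, 0], [], [], [], [], [], [0, 0, 0, 0, 0, 0, 0, 0, 0, 0, 8, 0, 9, 0, 0, 0]], [[], [], [0, 5, 0, 0, 0, 0, 4, 0, 0, 0, 0, 0, 0, 0, 0, 0], [], [], [0, 0, 0, 0, 0, 0, 0, 0, 0, 0, 8, 0, 0, 9, 0, 0], [], [], [], [0, 6, 0, 0, 0, 0, 5, 0, 0, 0, 0, 0, 0, 0, 0, 0], [], [], [], [], [0, 0, 0, 0, 0, 0, 0, 0, 0, 0, 7, 0, 0, 8, 0, 0], []], [], [], [[], [], [], [], [0, 0, 0, 0, 0, 0, 12, 0, 0, 0, 0, 0, 11, 0, 0, 0], [0, 0, 0, 0, 0, 0, 0, 11, 0, 0, 0, 0, 0, 10, 0, 0], [], [], [], [], [], [], [], [], [0, 0, 0, 0, 0, 0, 0, 10, 0, 0, 0, 0, 0, 9, 0, 0], [0, 0, 0, 0, 0, 0, 11, 0, 0, 0, 0, 0, 10, 0, 0, 0]], [], [[], [], [], [0, 10, 0, 0, 0, 0, 0, 0, 0,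 0, 0, 0, 0, 9, 0, 0], [0, 0, 0, 0, 0, 0, 11, 0, 0, 0, 10, 0, 0, 0, 0, 0], [], [], [], [0, 9, 0, 0, 0, 0, 0, 0, 0, 0, 0, 0, 0, 8, 0, 0], [], [], [], [], [], [], [0, 0, 0, 0, 0, 0, 10, 0, 0, 0, 9, 0, 0, 0, 0, 0]], [[], [], [], [0, 9, 0, 0, 0, 0, 0, 0, 0, 0, 0, 0, 8, 0, 0, 0], [], [0, 0, 0, 0, 0, 0, 0, 10, 0, 0, 9, 0, 0, 0, 0, 0], [], [], [0, 8, 0, 0, 0, 0, 0, 0, 0, 0, 0, 0, 7, 0, 0, 0], [], [], [], [], [], [0, 0, 0, 0, 0, 0, 0, 9, 0, 0, 8, 0, 0, 0, 0, 0], []], [], []], [[], [], [], [[], [0, 0, 0, 0, 0, 0, 0, 0, 7, 0, 0, 8, 0, 0, 0, 0], [0, 0, 0, 0, 4, 0, 0, 3, 0, 0, 0, 0, 0, 0, 0, 0], [], [], [], [], [], [], [], [], [], [], [0, 0, 0, 0, 0, 0, 0, 0, 6, 0, 0, 7, 0, 0, 0, 0], [0, 0, 0, 0, 5, 0, 0, 4, 0, 0, 0, 0, 0, 0, 0,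 0], []], [[], [], [0, 0, 0, 3, 0, 0, 0, 2, 0, 0, 0, 0, 0, 0, 0, 0], [], [], [], [0, 0, 0, 0, 0, 0, 0, 0, 0, 0, 0, 5, 0, 0, 0, 4], [], [], [], [0, 0, 0, 0, 0, 0, 0, 0, 0, 0, 0, 4, 0, 0, 0, 3], [], [], [], [0, 0, 0, 4, 0, 0, 0, 3, 0, 0, 0, 0, 0, 0, 0, 0], []], [], [], [[], [], [0, 0, 0, 4, 5, 0, 0, 0, 0, 0, 0, 0, 0, 0, 0, 0], [], [], [0, 0, 0, 0, 0, 0, 0, 0, 8, 0, 0, 0, 0, 0, 0, 9], [], [], [], [0, 0, 0, 0, 0, 0, 0, 0, 7, 0, 0, 0, 0, 0, 0, 8], [], [], [], [], [0, 0, 0, 5, 6, 0, 0, 0, 0, 0, 0, 0, 0, 0, 0, 0], []], [[], [0, 0, 0, 10, 0, 0, 0, 0, 0, 0, 0, 9, 0, 0, 0, 0], [], [], [], [0, 0, 0, 0, 0, 0, 0, 11, 0, 0, 0, 0, 0, 0, 0, 10], [], [], [], [0, 0, 0, 0, 0, 0, 0, 10, 0, 0, 0, 0, 0, 0, 0, 9], [], [], [], [0, 0, 0, 9,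 0, 0, 0, 0, 0, 0, 0, 8, 0, 0, 0, 0], [], []], [], [], [[], [0, 0, 0, 9, 0, 0, 0, 0, 8, 0, 0, 0, 0, 0, 0, 0], [], [], [], [], [0, 0, 0, 0, 6, 0, 0, 0, 0, 0, 0, 0, 0, 0, 0, 5], [], [], [], [0, 0, 0, 0, 5, 0, 0, 0, 0, 0, 0, 0, 0, 0, 0, 4], [], [], [0, 0, 0, 8, 0, 0, 0, 0, 7, 0, 0, 0, 0, 0, 0, 0], [], []], [], [], [], [[], [], [], [], [], [0, 0, 0, 0, 0, 0, 0, 10, 9, 0, 0, 0, 0, 0, 0, 0], [0, 0, 0, 0, 7, 0, 0, 0, 0, 0, 0, 6, 0, 0, 0, 0], [], [], [0, 0, 0, 0, 0, 0, 0, 9, 8, 0, 0, 0, 0, 0, 0, 0], [0, 0, 0, 0, 6, 0, 0, 0, 0, 0, 0, 5, 0, 0, 0, 0], [], [], [], [], []]], [[], [], [], [[], [0, 0, 0, 0, 0, 0, 0, 0, 6, 0, 0, 7, 0, 0, 0, 0], [0, 0, 0, 0, 0, 5, 4, 0, 0, 0, 0, 0, 0, 0, 0, 0], [], [], [], [], [], [], [], [], [], [0,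 0, 0, 0, 0, 0, 0, 0, 5, 0, 0, 6, 0, 0, 0, 0], [], [], [0, 0, 0, 0, 0, 6, 5, 0, 0, 0, 0, 0, 0, 0, 0, 0]], [], [[], [], [0, 0, 0, 4, 0, 0, 3, 0, 0, 0, 0, 0, 0, 0, 0, 0], [], [], [], [], [0, 0, 0, 0, 0, 0, 0, 0, 0, 0, 0, 6, 0, 0, 5, 0], [], [], [0, 0, 0, 0, 0, 0, 0, 0, 0, 0, 0, 5, 0, 0, 4, 0], [], [], [], [], [0, 0, 0, 5, 0, 0, 4, 0, 0, 0, 0, 0, 0, 0, 0, 0]], [[], [], [0, 0, 0, 5, 0, 6, 0, 0, 0, 0, 0, 0, 0, 0, 0, 0], [], [0, 0, 0, 0, 0, 0, 0, 0, 9, 0, 0, 0, 0, 0, 10, 0], [], [], [], [], [0, 0, 0, 0, 0, 0, 0, 0, 8, 0, 0, 0, 0, 0, 9, 0], [], [], [], [], [], [0, 0, 0, 6, 0, 7, 0, 0, 0, 0, 0, 0, 0, 0, 0, 0]], [], [[], [0, 0, 0, 9, 0, 0, 0, 0, 0, 0, 0, 8, 0, 0, 0, 0], [], [], [0, 0, 0, 0, 0, 0, 12, 0, 0, 0, 0, 0, 0, 0, 11,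 0], [], [], [], [], [0, 0, 0, 0, 0, 0, 11, 0, 0, 0, 0, 0, 0, 0, 10, 0], [], [], [0, 0, 0, 8, 0, 0, 0, 0, 0, 0, 0, 7, 0, 0, 0, 0], [], [], []], [], [], [[], [0, 0, 0, 8, 0, 0, 0, 0, 7, 0, 0, 0, 0, 0, 0, 0], [], [], [], [], [], [0, 0, 0, 0, 0, 7, 0, 0, 0, 0, 0, 0, 0, 0, 6, 0], [], [], [0, 0, 0, 0, 0, 6, 0, 0, 0, 0, 0, 0, 0, 0, 5, 0], [], [0, 0, 0, 7, 0, 0, 0, 0, 6, 0, 0, 0, 0, 0, 0, 0], [], [], []], [], [], [[], [], [], [], [0, 0, 0, 0, 0, 0, 11, 0, 10, 0, 0, 0, 0, 0, 0, 0], [], [], [0, 0, 0, 0, 0, 8, 0, 0, 0, 0, 0, 7, 0, 0, 0, 0], [], [0, 0, 0, 0, 0, 0, 10, 0, 9, 0, 0, 0, 0, 0, 0, 0], [0, 0, 0, 0, 0, 7, 0, 0, 0, 0, 0, 6, 0, 0, 0, 0], [], [], [], [], []], []], [[], [], [], [[], [0, 0, 0, 0, 0, 0, 0, 0, 0, 9, 8, 0, 0,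 0, 0, 0], [0, 0, 0, 0, 3, 0, 0, 2, 0, 0, 0, 0, 0, 0, 0, 0], [], [], [], [], [], [], [], [], [], [0, 0, 0, 0, 4, 0, 0, 3, 0, 0, 0, 0, 0, 0, 0, 0], [], [], [0, 0, 0, 0, 0, 0, 0, 0, 0, 8, 7, 0, 0, 0, 0, 0]], [[], [], [0, 0, 0, 2, 0, 0, 0, 1, 0, 0, 0, 0, 0, 0, 0, 0], [], [], [], [0, 0, 0, 0, 0, 0, 0, 0, 0, 6, 0, 0, 0, 5, 0, 0], [], [0, 0, 0, 0, 0, 0, 0, 0, 0, 5, 0, 0, 0, 4, 0, 0], [], [], [], [0, 0, 0, 3, 0, 0, 0, 2, 0, 0, 0, 0, 0, 0, 0, 0], [], [], []], [], [], [[], [], [0, 0, 0, 3, 4, 0, 0, 0, 0, 0, 0, 0, 0, 0, 0, 0], [], [], [0, 0, 0, 0, 0, 0, 0, 0, 0, 0, 9, 0, 0, 10, 0, 0], [], [], [], [], [], [0, 0, 0, 0, 0, 0, 0, 0, 0, 0, 8, 0, 0, 9, 0, 0], [0, 0, 0, 4, 5, 0, 0, 0, 0, 0, 0, 0, 0, 0, 0, 0], [], [], []], [], [[], [0,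 0, 0, 10, 0, 0, 0, 0, 0, 0, 9, 0, 0, 0, 0, 0], [], [], [], [], [0, 0, 0, 0, 7, 0, 0, 0, 0, 0, 0, 0, 0, 6, 0, 0], [], [0, 0, 0, 0, 6, 0, 0, 0, 0, 0, 0, 0, 0, 5, 0, 0], [], [], [], [], [], [], [0, 0, 0, 9, 0, 0, 0, 0, 0, 0, 8, 0, 0, 0, 0, 0]], [[], [0, 0, 0, 11, 0, 0, 0, 0, 0, 10, 0, 0, 0, 0, 0, 0], [], [], [], [0, 0, 0, 0, 0, 0, 0, 12, 0, 0, 0, 0, 0, 11, 0, 0], [], [], [], [], [], [0, 0, 0, 0, 0, 0, 0, 11, 0, 0, 0, 0, 0, 10, 0, 0], [], [], [], [0, 0, 0, 10, 0, 0, 0, 0, 0, 9, 0, 0, 0, 0, 0, 0]], [], [], [[], [], [], [], [], [0, 0, 0, 0, 0, 0, 0, 11, 0, 0, 10, 0, 0, 0, 0, 0], [0, 0, 0, 0, 8, 0, 0, 0, 0, 7, 0, 0, 0, 0, 0, 0], [], [0, 0, 0, 0, 7, 0, 0, 0, 0, 6, 0, 0, 0, 0, 0, 0], [], [], [0, 0, 0, 0, 0, 0, 0, 10, 0, 0,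 9, 0, 0, 0, 0, 0], [], [], [], []], [], []], [[], [], [], [[], [0, 0, 0, 0, 0, 0, 0, 0, 0, 8, 7, 0, 0, 0, 0, 0], [0, 0, 0, 0, 0, 4, 3, 0, 0, 0, 0, 0, 0, 0, 0, 0], [], [], [], [], [], [], [], [], [], [], [0, 0, 0, 0, 0, 5, 4, 0, 0, 0, 0, 0, 0, 0, 0, 0], [0, 0, 0, 0, 0, 0, 0, 0, 0, 7, 6, 0, 0, 0, 0, 0], []], [], [[], [], [0, 0, 0, 3, 0, 0, 2, 0, 0, 0, 0, 0, 0, 0, 0, 0], [], [], [], [], [0, 0, 0, 0, 0, 0, 0, 0, 0, 7, 0, 0, 6, 0, 0, 0], [0, 0, 0, 0, 0, 0, 0, 0, 0, 6, 0, 0, 5, 0, 0, 0], [], [], [], [], [0, 0, 0, 4, 0, 0, 3, 0, 0, 0, 0, 0, 0, 0, 0, 0], [], []], [[], [], [0, 0, 0, 4, 0, 5, 0, 0, 0, 0, 0, 0, 0, 0, 0, 0], [], [0, 0, 0, 0, 0, 0, 0, 0, 0, 0, 10, 0, 11, 0, 0, 0], [], [], [], [], [], [], [0, 0, 0, 0, 0, 0, 0, 0,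 0, 0, 9, 0, 10, 0, 0, 0], [], [0, 0, 0, 5, 0, 6, 0, 0, 0, 0, 0, 0, 0, 0, 0, 0], [], []], [], [], [[], [0, 0, 0, 9, 0, 0, 0, 0, 0, 0, 8, 0, 0, 0, 0, 0], [], [], [], [], [], [0, 0, 0, 0, 0, 8, 0, 0, 0, 0, 0, 0, 7, 0, 0, 0], [0, 0, 0, 0, 0, 7, 0, 0, 0, 0, 0, 0, 6, 0, 0, 0], [], [], [], [], [], [0, 0, 0, 8, 0, 0, 0, 0, 0, 0, 7, 0, 0, 0, 0, 0], []], [[], [0, 0, 0, 10, 0, 0, 0, 0, 0, 9, 0, 0, 0, 0, 0, 0], [], [], [0, 0, 0, 0, 0, 0, 13, 0, 0, 0, 0, 0, 12, 0, 0, 0], [], [], [], [], [], [], [0, 0, 0, 0, 0, 0, 12, 0, 0, 0, 0, 0, 11, 0, 0, 0], [], [], [0, 0, 0, 9, 0, 0, 0, 0, 0, 8, 0, 0, 0, 0, 0, 0], []], [], [[], [], [], [], [0, 0, 0, 0, 0, 0, 12, 0, 0, 0, 11, 0, 0, 0, 0, 0], [], [], [0, 0, 0, 0, 0, 9, 0, 0, 0, 8, 0, 0, 0, 0,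 0, 0], [0, 0, 0, 0, 0, 8, 0, 0, 0, 7, 0, 0, 0, 0, 0, 0], [], [], [0, 0, 0, 0, 0, 0, 11, 0, 0, 0, 10, 0, 0, 0, 0, 0], [], [], [], []], [], [], []]]

end Cfsg.Agent.H6.Sp42
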