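import Mathlib
import Cfsg.Agent.H6.Sp42Table

/-! Kernel-checked table facts for `Sp₄(2) ≅ S₆` (helper6). -/

set_option autoImplicit false

namespace Cfsg.Agent.H6.Sp42

/-- 4×4 matrices over `ZMod 2`, indexed as in `Matrix.symplecticGroup (Fin 2)` -/
abbrev M4 : Type := Matrix (Fin 2 ⊕ Fin 2) (Fin 2 ⊕ Fin 2) (ZMod 2)

/-- the matrix with rows `(a b c d)`, `(e f g h)`, `(i j k l)`, `(m n o p)` -/
def mk16 (a b c d e f g h i j k l m n o p : ZMod 2) : M4 :=
  Matrix.fromBlocks !![a, b; e, f] !![c, d; g, h] !![i, j; m, n] !![k, l; o, p]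

/-- row code -/
def rc (M : M4) (r : Fin 2 ⊕ Fin 2) : ℕ :=
  (M r (Sum.inl 0)).val * 8 + (M r (Sum.inl 1)).val * 4 + (M r (Sum.inr 0)).val * 2 +
    (M r (Sum.inr 1)).val

/-- table lookup by the four rows of a matrix -/
def look (T : List (List (List (List ℕ)))) (M : M4) : ℕ :=
  (((T.getD (rc M (Sum.inl 0)) []).getD (rc M (Sum.inl 1)) []).getD (rc M (Sum.inr 0)) []).getD
    (rc M (Sum.inr 1)) 0

/-- the symplectic form on rows (in the shape `simp` produces from `A * J * Aᵀ = J`) -/
def om (u0 u1 u2 u3 v0 v1 v2 v3 : ZMod 2) : ZMod 2 :=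
  u2 * v0 + u3 * v1 + (-(u0 * v2) + -(u1 * v3))

def dig (n k : ℕ) : Fin 6 := ⟨n / k % 6, Nat.mod_lt _ (by decide)⟩

/-- decode a permutation of `Fin 6` -/
def decP (n : ℕ) : Equiv.Perm (Fin 6) :=
  Equiv.swap 0 (dig n 1) * Equiv.swap 1 (dig n 6) *
    Equiv.swap 2 (dig n 36) * Equiv.swap 3 (dig n 216) *
    Equiv.swap 4 (dig n 1296)

/-- word length of a matrix (from the table) -/
def idx (M : M4) : ℕ := look tblD M

/-- the table-defined map -/
def f₀ (M : M4) : Equiv.Perm (Fin 6) := decP (look tblF M)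

/-- the five transvections corresponding to the adjacent transpositions -/
def Tgen : Fin 5 → M4 :=
  ![mk16 1 0 1 0 0 1 0 0 0 0 1 0 0 0 0 1,
    mk16 1 0 0 0 0 1 0 0 1 0 1 0 0 0 0 1,
    mk16 1 1 1 0 0 1 0 0 0 0 1 0 0 1 1 1,
    mk16 1 0 0 0 0 1 0 1 0 0 1 0 0 0 0 1,
    mk16 1 0 0 0 0 1 0 0 0 0 1 0 0 1 0 1]

set_option maxRecDepth 100000 in
set_option synthInstance.maxHeartbeats 2000000 in
set_option synthInstance.maxSize 4096 in
lemma hT : ∀ t : Fin 5, ∀ a b c d e f g h : ZMod 2, om a b c d e f g h = 0 →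
    ∀ i j k l : ZMod 2, om a b c d i j k l = -1 → om e f g h i j k l = 0 →
    ∀ m n o p : ZMod 2, om a b c d m n o p = 0 → om e f g h m n o p = -1 →
      om i j k l m n o p = 0 →
    f₀ (Tgen t * mk16 a b c d e f g h i j k l m n o p) =
      Equiv.swap t.castSucc t.succ * f₀ (mk16 a b c d e f g h i j k l m n o p) := by
  decide +kernel

set_option maxRecDepth 100000 in
set_option synthInstance.maxHeartbeats 2000000 in
set_option synthInstance.maxSize 4096 in
lemma hdesc : ∀ a b c d e f g h : ZMod 2, om a b c d e f g h = 0 →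
    ∀ i j k l : ZMod 2, om a b c d i j k l = -1 → om e f g h i j k l = 0 →
    ∀ m n o p : ZMod 2, om a b c d m n o p = 0 → om e f g h m n o p = -1 →
      om i j k l m n o p = 0 →
    idx (mk16 a b c d e f g h i j k l m n o p) = 0 ∨
      ∃ t : Fin 5, idx (Tgen t * mk16 a b c d e f g h i j k l m n o p) <
        idx (mk16 a b c d e f g h i j k l m n o p) := by
  decide +kernel

set_option maxRecDepth 100000 in
set_option synthInstance.maxHeartbeats 2000000 in
set_option synthInstance.maxSize 4096 in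
lemma hzero : ∀ a b c d e f g h : ZMod 2, om a b c d e f g h = 0 →
    ∀ i j k l : ZMod 2, om a b c d i j k l = -1 → om e f g h i j k l = 0 →
    ∀ m n o p : ZMod 2, om a b c d m n o p = 0 → om e f g h m n o p = -1 →
      om i j k l m n o p = 0 →
    idx (mk16 a b c d e f g h i j k l m n o p) = 0 →
      mk16 a b c d e f g h i j k l m n o p = 1 := by
  decide +kernel

set_option maxRecDepth 100000 in
set_option synthInstance.maxHeartbeats 2000000 in
set_option synthInstance.maxSize 4096 in
lemma hker : ∀ a b c d e f g h : ZMod 2, om a b c d e f g h = 0 →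
    ∀ i j k l : ZMod 2, om a b c d i j k l = -1 → om e f g h i j k l = 0 →
    ∀ m n o p : ZMod 2, om a b c d m n o p = 0 → om e f g h m n o p = -1 →
      om i j k l m n o p = 0 →
    f₀ (mk16 a b c d e f g h i j k l m n o p) = 1 →
      mk16 a b c d e f g h i j k l m n o p = 1 := by
  decide +kernel

set_option maxRecDepth 100000 in
set_option synthInstance.maxHeartbeats 2000000 in
set_option synthInstance.maxSize 4096 in
lemma hone : f₀ 1 = 1 := by decide +kernel

set_option maxRecDepth 100000 in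
set_option synthInstance.maxHeartbeats 2000000 in
set_option synthInstance.maxSize 4096 in
lemma hTT : ∀ t : Fin 5, Tgen t * Tgen t = 1 := by decide +kernel

set_option maxRecDepth 100000 in
set_option synthInstance.maxHeartbeats 2000000 in
set_option synthInstance.maxSize 4096 in
lemma hTsymp : ∀ t : Fin 5, Tgen t * Matrix.J (Fin 2) (ZMod 2) * (Tgen t).transpose =
    Matrix.J (Fin 2) (ZMod 2) := by decide +kernel

set_option maxRecDepth 100000 in
set_option synthInstance.maxHeartbeats 2000000 in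
set_option synthInstance.maxSize 4096 in
lemma hTval : ∀ t : Fin 5, f₀ (Tgen t) = Equiv.swap t.castSucc t.succ := by decide +kernel

end Cfsg.Agent.H6.Sp42
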