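import Mathlib
import Cfsg.Agent.H6.TitsDefs

/-! A kernel-checked fact about the tables for the Tits group: no element of the coset of the
point stabilizer outside the subgroup of index two squares to the identity (helper6). -/

set_option autoImplicit false

namespace Cfsg.Agent.H6.Tits

open Cfsg.Agent.H6.Ree3 (forceN allN)

/-- Evaluate a reversed list of words at a point (the head is applied first). -/
def evalR : List ℕ → ℕ → ℕ := List.rec (fun x => x) (fun w _ ih x => fN (wev 6 w x) ih)

/-- The action of the element outside the subgroup times the product of the words. -/
def tev (ws : List ℕ) (x : ℕ) : ℕ := wev 16 tauW (evalR ws x)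

/-- The square of the element moves one of two test points. -/
def leafI (ws : List ℕ) : Bool :=
  !(Nat.beq (tev ws (tev ws 731)) 731) || !(Nat.beq (tev ws (tev ws 19)) 19)

/-- All products of transversal elements from level `lv` on, behind the given words. -/
def chkLv : ℕ → ℕ → List ℕ → Bool :=
  Nat.rec (fun _ ws => leafI ws)
    (fun _ ih lv ws => allN (szN lv) fun j => forceN (udN lv j) fun u =>
      forceN (Nat.succ lv) fun lv' => ih lv' (u :: ws))

/-- No element of the coset of the point stabilizer squares to the identity. -/
def chkInv : Bool := chkLv 8 1 []

set_option maxRecDepth 100000 in
theorem chkInv_true : chkInv = true := by decide +kernel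

end Cfsg.Agent.H6.Tits
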