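import Mathlib
import Cfsg.Agent.H6.Tits
import Cfsg.Agent.H6.TitsInvCheck

/-! Every involution of the twisted group of type F4 over the field with two elements lies in
its derived subgroup (helper6). -/

set_option autoImplicit false

namespace Cfsg.Agent.H6.Tits

open Cfsg Cfsg.Lie Matrix
open Cfsg.Agent.H6.Ree3 (forceN allN allN_spec allN_intro forceN_eq)
open scoped commutatorElement

/-- The permutation of a reversed list of words. -/
noncomputable def rperm : List ℕ → Equiv.Perm (Fin 1755)
  | [] => 1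
  | w :: ws => rperm ws * wperm 6 w

theorem evalR_cons (w : ℕ) (ws : List ℕ) (x : ℕ) :
    evalR (w :: ws) x = evalR ws (wev 6 w x) := by
  show fN (wev 6 w x) (evalR ws) = _
  rw [fN_eq]

theorem rperm_val : ∀ (ws : List ℕ) (x : Fin 1755), (rperm ws x).val = evalR ws x.val
  | [], x => rfl
  | w :: ws, x => by
    rw [evalR_cons, rperm, Equiv.Perm.mul_apply, rperm_val ws, wperm_val]

theorem tev_val (ws : List ℕ) (x : Fin 1755) : ((tau * rperm ws) x).val = tev ws x.val := by
  rw [Equiv.Perm.mul_apply, tau, wperm_val, rperm_val]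
  rfl

theorem leaf_spec (ws : List ℕ) (h : leafI ws = true) :
    (tau * rperm ws) * (tau * rperm ws) ≠ 1 := by
  intro h1
  have key : ∀ x : Fin 1755, tev ws (tev ws x.val) = x.val := by
    intro x
    rw [← tev_val, ← tev_val, ← Equiv.Perm.mul_apply, h1]
    rfl
  have e1 : tev ws (tev ws 731) = 731 := key ⟨731, by norm_num⟩
  have e2 : tev ws (tev ws 19) = 19 := key ⟨19, by norm_num⟩
  unfold leafI at h
  rw [e1, e2] at h
  exact absurd h (by decide)

theorem chkLv_succ (m lv : ℕ) (ws : List ℕ) :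
    chkLv (m + 1) lv ws = allN (szN lv) fun j => chkLv m (lv + 1) (udN lv j :: ws) := by
  show (allN (szN lv) fun j => forceN (udN lv j) fun u =>
      forceN (Nat.succ lv) fun lv' => chkLv m lv' (u :: ws)) = _
  simp only [forceN_eq]

theorem lv_spec : ∀ (m lv : ℕ) (ws : List ℕ), 1 ≤ lv → lv + m ≤ 9 → chkLv m lv ws = true →
    ∀ r ∈ Rs m lv, (tau * (rperm ws * r)) * (tau * (rperm ws * r)) ≠ 1
  | 0, lv, ws, _, _, h, r, hr => by
    rw [mem_Rs_zero.mp hr, mul_one]
    exact leaf_spec ws h
  | m + 1, lv, ws, h1, h9, h, r, hr => by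
    obtain ⟨j, hj, r', hr', rfl⟩ := mem_Rs_succ.mp hr
    rw [chkLv_succ] at h
    have h' := allN_spec h j hj
    have h3 := lv_spec m (lv + 1) (udN lv j :: ws) (by omega) (by omega) h' r' hr'
    have e : rperm (udN lv j :: ws) = rperm ws * U lv j := by
      rw [rperm, U, uN_succ lv j h1]
    rw [e, mul_assoc] at h3
    exact h3

/-- No element of the coset of the point stabilizer outside the subgroup of index two squares
to the identity. -/
theorem inv_spec (r : Equiv.Perm (Fin 1755)) (hr : r ∈ Rs 8 1) : (tau * r) * (tau * r) ≠ 1 := by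
  have h := lv_spec 8 1 [] le_rfl (by norm_num) chkInv_true r hr
  rwa [show rperm [] = 1 from rfl, one_mul] at h

theorem tau_fix : tau (bF 0) = bF 0 := by
  obtain ⟨_, _, hfix, _⟩ := tau_spec
  exact Fin.ext (by rw [tau, wperm_val]; exact hfix 0 (by norm_num))

theorem tau_eq : ∃ κ ∈ K, tau = gen 4 * κ := by
  obtain ⟨h1, h2, _, _⟩ := tau_spec
  refine ⟨wperm 15 (tauW >>> 6), wperm_mem_K _ _ h2, ?_⟩
  rw [tau, wperm_succ 15 tauW tauW_ne]
  have e : tauW &&& 63 = 4 := h1
  rw [e]

/-- Every element of the permutation group that squares to the identity lies in the subgroup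
of index two. -/
theorem invol_mem_K (t : Equiv.Perm (Fin 1755)) (ht : t ∈ P) (h2 : t * t = 1) : t ∈ K := by
  by_contra hK
  have : Fact (Nat.Prime 2) := ⟨Nat.prime_two⟩
  obtain ⟨x, hx⟩ : ∃ x : Fin 1755, t x = x :=
    Equiv.Perm.exists_fixed_point_of_prime (p := 2) (n := 1)
      (by rw [Fintype.card_fin]; norm_num) (by rw [pow_one, sq]; exact h2)
  have huK : U 0 x.val ∈ K := u0_mem x.val x.isLt
  have hux : U 0 x.val (bF 0) = x := by
    have h := uK_smul x
    exact h
  set u := U 0 x.val with hu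
  set t' := u⁻¹ * t * u with ht'
  have ht'P : t' ∈ P := P.mul_mem (P.mul_mem (P.inv_mem (K_le_P huK)) ht) (K_le_P huK)
  have ht'K : t' ∉ K := by
    intro h
    apply hK
    have e : t = u * t' * u⁻¹ := by rw [ht']; group
    rw [e]
    exact K.mul_mem (K.mul_mem huK h) (K.inv_mem huK)
  have ht'2 : t' * t' = 1 := by
    have e : t' * t' = u⁻¹ * (t * t) * u := by rw [ht']; group
    rw [e, h2]; group
  have ht'fix : t' (bF 0) = bF 0 := by
    rw [ht', Equiv.Perm.mul_apply, Equiv.Perm.mul_apply, hux, hx]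
    exact Equiv.Perm.inv_eq_iff_eq.mpr hux.symm
  obtain ⟨κ₀, hκ₀, htau⟩ := tau_eq
  rcases P_sub t' ht'P with h | ⟨κ, hκ, hκe⟩
  · exact ht'K h
  · set ρ := κ₀⁻¹ * κ with hρ
    have hρK : ρ ∈ K := K.mul_mem (K.inv_mem hκ₀) hκ
    have hte : t' = tau * ρ := by rw [hκe, htau, hρ]; group
    have hρfix : ρ (bF 0) = bF 0 := by
      have h3 : (tau * ρ) (bF 0) = bF 0 := by rw [← hte]; exact ht'fix
      rw [Equiv.Perm.mul_apply] at h3
      have h4 : tau (ρ (bF 0)) = tau (bF 0) := by rw [h3, tau_fix]
      exact tau.injective h4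
    have hρR : ρ ∈ Rs 8 1 := sift 8 0 (by norm_num) ρ (K_sub_Rs ρ hρK) hρfix
    apply inv_spec ρ hρR
    rw [← hte]
    exact ht'2

/-- The statement for an abstract group with a faithful permutation representation with image
`P`. -/
theorem invol_abstract {G : Type*} [Group G] (φ : G →* Equiv.Perm (Fin 1755))
    (hinj : Function.Injective φ) (hrange : φ.range = P) (g : G) (hg : orderOf g = 2) :
    g ∈ commutator G := by
  have hgP : φ g ∈ P := by rw [← hrange]; exact ⟨g, rfl⟩
  have h2 : φ g * φ g = 1 := by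
    rw [← map_mul, ← sq, ← hg, pow_orderOf_eq_one, map_one]
  have hK := invol_mem_K (φ g) hgP h2
  rw [← comm_P_eq, ← hrange, MonoidHom.range_eq_map, ← Subgroup.map_commutator] at hK
  obtain ⟨c, hc, hcg⟩ := hK
  have e : c = g := hinj hcg
  rw [commutator_def, ← e]
  exact hc

set_option maxRecDepth 100000 in
/-- Every involution of the twisted group of type F4 over the field with two elements lies in
its derived subgroup. -/
theorem tits_invol (g : ↥(twistedF4 (ZMod 2) 1)) (hg : orderOf g = 2) :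
    g ∈ commutator ↥(twistedF4 (ZMod 2) 1) := by
  obtain ⟨φ, hinj, hrange, _⟩ := main_hom
  exact invol_abstract φ hinj hrange g hg

end Cfsg.Agent.H6.Tits
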