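import Mathlib
import Cfsg.Agent.H6.U42Table

/-! Kernel-checked table facts for the homomorphism `Sp₄(3) → SU₄(2)` (helper6); everything
here is on natural-number codes. -/

set_option autoImplicit false

namespace Cfsg.Agent.H6.U42

/-- addition of row codes over `𝔽₃` -/
def add3 (a b : ℕ) : ℕ :=
  cond (Nat.beq a 0) b (cond (Nat.beq b 0) a
    (Nat.land (Nat.shiftRight addT (Nat.mul 7 (Nat.add (Nat.mul a 81) b))) 127))

def neg3 (a : ℕ) : ℕ := Nat.land (Nat.shiftRight negT (Nat.mul 7 a)) 127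

def sm3 (c a : ℕ) : ℕ := cond (Nat.beq c 0) 0 (cond (Nat.beq c 1) a (neg3 a))

/-- code of a linear combination of four rows -/
def rowS (c0 c1 c2 c3 a b c d : ℕ) : ℕ :=
  add3 (add3 (add3 (sm3 c0 a) (sm3 c1 b)) (sm3 c2 c)) (sm3 c3 d)

/-- the symplectic form on row codes -/
def om3 (a b : ℕ) : ℕ := Nat.land (Nat.shiftRight omT (Nat.mul 2 (Nat.add (Nat.mul a 81) b))) 3

def w2 (a b : ℕ) : Bool := Nat.beq (om3 a b) 0
def w3 (a b c : ℕ) : Bool := Nat.beq (om3 a c) 2 && Nat.beq (om3 b c) 0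
def w4 (a b c d : ℕ) : Bool :=
  Nat.beq (om3 a d) 0 && (Nat.beq (om3 b d) 2 && Nat.beq (om3 c d) 0)

def forceN (n : ℕ) (f : ℕ → ℕ) : ℕ := Nat.rec (f 0) (fun k _ => f (Nat.succ k)) n
def forceB (n : ℕ) (f : ℕ → Bool) : Bool := Nat.rec (f 0) (fun k _ => f (Nat.succ k)) n

lemma forceN_eq (n : ℕ) (f : ℕ → ℕ) : forceN n f = f n := by cases n <;> rfl
lemma forceB_eq (n : ℕ) (f : ℕ → Bool) : forceB n f = f n := by cases n <;> rfl

def dig (x e : ℕ) : ℕ := Nat.mod (Nat.div x (Nat.pow 3 e)) 3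

def t1 (a b : ℕ) : ℕ :=
  Nat.land (Nat.shiftRight t1T (Nat.mul 20 (Nat.add (Nat.mul a 81) b))) 1048575

/-- dense index of a symplectic matrix given by its row codes -/
def idx (a b c d : ℕ) : ℕ := forceN (t1 a b) fun t =>
  Nat.add (Nat.mul (Nat.add (Nat.mul (Nat.add (Nat.mul (Nat.mod t 2048) 3)
    (dig c (Nat.mod (Nat.div t 2048) 4))) 3) (dig c (Nat.mod (Nat.div t 8192) 4))) 3)
    (dig d (Nat.mod (Nat.div t 32768) 4))

def piece (i : ℕ) : ℕ := cond (Nat.blt i 8) (cond (Nat.blt i 4) (cond (Nat.blt i 2) (cond (Nat.blt i 1) (tP0) (tP1)) (cond (Nat.blt i 3) (tP2) (tP3))) (cond (Nat.blt i 6) (cond (Nat.blt i 5) (tP4) (tP5)) (cond (Nat.blt i 7) (tP6) (tP7)))) (cond (Nat.blt i 12) (cond (Nat.blt i 10) (cond (Nat.blt i 9) (tP8) (tP9)) (cond (Nat.blt i 11) (tP10) (tP11))) (cond (Nat.blt i 14) (cond (Nat.blt i 13) (tP12) (tP13)) (cond (Nat.blt i 15) (tP14) (tP15))))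

def look (j : ℕ) : ℕ :=
  Nat.land (Nat.shiftRight (piece (Nat.div j 3240)) (Nat.mul 40 (Nat.mod j 3240))) 1099511627775

/-- table value (`depth + 64 * image code`) of the matrix with the given row codes -/
def tv (a b c d : ℕ) : ℕ := look (idx a b c d)

/-- row `i` of the image matrix in a table value -/
def rs (v i : ℕ) : ℕ := Nat.land (Nat.shiftRight v (Nat.add 6 (Nat.mul 8 i))) 255

def mw (y : ℕ) : ℕ := Nat.land (Nat.shiftRight mwT (Nat.mul 8 y)) 255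
def mw2 (y : ℕ) : ℕ := Nat.land (Nat.shiftRight mw2T (Nat.mul 8 y)) 255

/-- scalar multiple of a row code over `𝔽₄` -/
def sm4 (c y : ℕ) : ℕ :=
  cond (Nat.beq c 0) 0 (cond (Nat.beq c 1) y (cond (Nat.beq c 2) (mw y) (mw2 y)))

def row4 (c0 c1 c2 c3 y0 y1 y2 y3 : ℕ) : ℕ :=
  Nat.xor (Nat.xor (Nat.xor (sm4 c0 y0) (sm4 c1 y1)) (sm4 c2 y2)) (sm4 c3 y3)

def chkR (c0 c1 c2 c3 w v i : ℕ) : Bool :=
  Nat.beq (rs w i) (row4 c0 c1 c2 c3 (rs v 0) (rs v 1) (rs v 2) (rs v 3))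

def chkM1 (w v : ℕ) : Bool :=
  chkR 1 3 3 0 w v 0 && (chkR 3 2 0 1 w v 1 && (chkR 3 0 2 1 w v 2 && chkR 0 3 3 2 w v 3))

def chkM2 (w v : ℕ) : Bool :=
  chkR 0 0 3 0 w v 0 && (chkR 0 0 0 3 w v 1 && (chkR 0 1 0 0 w v 2 && chkR 3 0 0 0 w v 3))

/-- table value of `S₁ * X` -/
def s1v (a b c d : ℕ) : ℕ := tv (rowS 1 0 2 0 a b c d) (rowS 0 0 0 2 a b c d) (rowS 1 0 0 0 a b c d) (rowS 0 1 0 0 a b c d)

/-- table value of `S₂ * X` -/
def s2v (a b c d : ℕ) : ℕ := tv (rowS 0 1 0 0 a b c d) (rowS 1 1 0 0 a b c d) (rowS 0 0 2 1 a b c d) (rowS 0 0 1 0 a b c d)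

def isId (a b c d : ℕ) : Bool := Nat.beq a 27 && (Nat.beq b 9 && (Nat.beq c 3 && Nat.beq d 1))
def isNeg (a b c d : ℕ) : Bool := Nat.beq a 54 && (Nat.beq b 18 && (Nat.beq c 6 && Nat.beq d 2))

/-- the image matrix in a table value is the identity -/
def isOne (v : ℕ) : Bool :=
  Nat.beq (rs v 0) 1 && (Nat.beq (rs v 1) 4 && (Nat.beq (rs v 2) 16 && Nat.beq (rs v 3) 64))

/-- all the checks on one matrix -/
def chkV (a b c d v w1 w2 : ℕ) : Bool :=
  chkM1 w1 v && (chkM2 w2 v &&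
    ((Nat.beq (Nat.mod v 64) 0 || (Nat.blt (Nat.mod w1 64) (Nat.mod v 64) ||
        Nat.blt (Nat.mod w2 64) (Nat.mod v 64))) &&
      ((!(Nat.beq (Nat.mod v 64) 0) || isId a b c d) &&
        (!(isOne v) || (isId a b c d || isNeg a b c d)))))

def chkAll (a b c d : ℕ) : Bool :=
  forceB (tv a b c d) fun v => forceB (s1v a b c d) fun w1 => forceB (s2v a b c d) fun w2 =>
    chkV a b c d v w1 w2

def all81 (p : ℕ → Bool) : Bool :=
  p 0 && (p 1 && (p 2 && (p 3 && (p 4 && (p 5 && (p 6 && (p 7 && (p 8 && (p 9 && (p 10 && (p 11 && (p 12 && (p 13 && (p 14 && (p 15 && (p 16 && (p 17 && (p 18 && (p 19 && (p 20 && (p 21 && (p 22 && (p 23 && (p 24 && (p 25 && (p 26 && (p 27 && (p 28 && (p 29 && (p 30 && (p 31 && (p 32 && (p 33 && (p 34 && (p 35 && (p 36 && (p 37 && (p 38 && (p 39 && (p 40 && (p 41 && (p 42 && (p 43 && (p 44 && (p 45 && (p 46 && (p 47 && (p 48 && (p 49 && (p 50 && (p 51 && (p 52 && (p 53 && (p 54 && (p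 55 && (p 56 && (p 57 && (p 58 && (p 59 && (p 60 && (p 61 && (p 62 && (p 63 && (p 64 && (p 65 && (p 66 && (p 67 && (p 68 && (p 69 && (p 70 && (p 71 && (p 72 && (p 73 && (p 74 && (p 75 && (p 76 && (p 77 && (p 78 && (p 79 && (p 80))))))))))))))))))))))))))))))))))))))))))))))))))))))))))))))))))))))))))))))))

set_option maxRecDepth 100000 in
lemma all81_spec {p : ℕ → Bool} (h : all81 p = true) (n : ℕ) (hn : n < 81) : p n = true := by
  simp only [all81, Bool.and_eq_true] at h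
  interval_cases n <;> simp only [h]

def imp (x y : Bool) : Bool := !x || y

/-- check a Boolean predicate on all symplectic matrices (by row codes) -/
def allS (P : ℕ → ℕ → ℕ → ℕ → Bool) : Bool :=
  all81 fun a => all81 fun b => imp (w2 a b) (all81 fun c => imp (w3 a b c)
    (all81 fun d => imp (w4 a b c d) (P a b c d)))

lemma allS_spec {P : ℕ → ℕ → ℕ → ℕ → Bool} (h : allS P = true) (a b c d : ℕ)
    (ha : a < 81) (hb : b < 81) (hc : c < 81) (hd : d < 81)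
    (h2 : w2 a b = true) (h3 : w3 a b c = true) (h4 : w4 a b c d = true) :
    P a b c d = true := by
  have e1 := all81_spec h a ha
  have e2 := all81_spec e1 b hb
  simp only [imp, h2, Bool.not_true, Bool.false_or] at e2
  have e3 := all81_spec e2 c hc
  simp only [imp, h3, Bool.not_true, Bool.false_or] at e3
  have e4 := all81_spec e3 d hd
  simpa only [imp, h4, Bool.not_true, Bool.false_or] using e4

set_option maxRecDepth 1000000 in
lemma hAll : allS chkAll = true := by decide +kernel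

lemma tv_one : isOne (tv 27 9 3 1) = true ∧ Nat.mod (tv 27 9 3 1) 64 = 0 := by decide +kernel

lemma tv_neg : isOne (tv 54 18 6 2) = true := by decide +kernel

end Cfsg.Agent.H6.U42
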